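import Cfsg.Agent.Lib.HN3.HData

/-!
The checks on the 1408 points: bijections and the two stabiliser chains.
-/

set_option maxRecDepth 100000
set_option Elab.async false

namespace Cfsg.Agent.Lib.HN3

theorem hPk_ok : hPk.permsOK hInv = true := by decide +kernel

theorem hChain_ok : hPk.baseOK hBase hChain = true := by decide +kernel

theorem hChain_card : chainCard hChain = 177408000 := by decide +kernel

theorem cChain_ok : hPk.baseOK hBase cChain = true := by decide +kernel

theorem cChain_card : chainCard cChain = 126000 := by decide +kernel

theorem cChain_gens : forallB (fun u => forallB (fun t => Bool.rec (motive := fun _ => Bool)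
    false true (memW [t] [[cTokens.getD 0 0], [cTokens.getD 1 0], [cTokens.getD 2 0],
      [cTokens.getD 3 0]])) u) (headGens cChain) = true := by decide +kernel

end Cfsg.Agent.Lib.HN3
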