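import Mathlib

/-!
The relations among the first three generators `x, y, z` of the presentation of the
Harada–Norton group, as a structure on a triple of elements of an arbitrary group.
-/

namespace Cfsg.Agent.Lib.HN3

variable {G : Type*} [Group G]

/-- three elements satisfying the relations of the presentation that do not involve `t` -/
structure HRel (x y z : G) : Prop where
  r1 : y ^ 6 = 1
  r2 : (x ^ 2) * y * (x ^ 2) * (y⁻¹) = 1
  r3 : (x⁻¹ * y⁻¹ * x * y) ^ 3 = 1
  r4 : ((x⁻¹) * (y ^ 2) * x * (y ^ 3)) ^ 3 = 1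
  r5 : (x * y) ^ 8 = 1
  r6 : (x * y * x * (y ^ 3)) ^ 4 = 1
  r7 : z ^ 2 = 1
  r8 : (z * x) ^ 2 = 1
  r9 : (z⁻¹ * (y * x * y * x * (y ^ 2) * x * (y⁻¹))⁻¹ * z *
      (y * x * y * x * (y ^ 2) * x * (y⁻¹))) * ((x ^ 2)⁻¹) = 1
  r10 : z * (((((y ^ 3) * x * y * x * y)⁻¹ * z * ((y ^ 3) * x * y * x * y)) * x) ^ 3) = 1

theorem HRel.map {G' : Type*} [Group G'] (f : G →* G') {x y z : G} (h : HRel x y z) :
    HRel (f x) (f y) (f z) := by
  constructor
  all_goals first
    | simpa using congrArg f h.r1
    | simpa using congrArg f h.r2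
    | simpa using congrArg f h.r3
    | simpa using congrArg f h.r4
    | simpa using congrArg f h.r5
    | simpa using congrArg f h.r6
    | simpa using congrArg f h.r7
    | simpa using congrArg f h.r8
    | simpa using congrArg f h.r9
    | simpa using congrArg f h.r10

end Cfsg.Agent.Lib.HN3
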