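import Cfsg.Agent.Lib.HN3.Kernel

/-!
Generated: the relators among the first three generators as packed words and as letters.
-/

namespace Cfsg.Agent.Lib.HN3

/-- packed relators -/
def hRelW : List (List Nat) :=
  [[112347],
   [135881],
   [0x662662662],
   [0x36cb69b65b4db2da],
   [0x659659659659],
   [0x6d965b6596d965b659],
   [45],
   [845],
   [0x4a16cb2ec51489d],
   [0x16596dd9228a16596dd9228a16596dd9228a5]]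

/-- the letters of the relators -/
def hRelL : List (List Nat) :=
  [[2, 2, 2, 2, 2, 2],
   [0, 0, 2, 0, 0, 3],
   [1, 3, 0, 2, 1, 3, 0, 2, 1, 3, 0, 2],
   [1, 2, 2, 0, 2, 2, 2, 1, 2, 2, 0, 2, 2, 2, 1, 2, 2, 0, 2, 2, 2],
   [0, 2, 0, 2, 0, 2, 0, 2, 0, 2, 0, 2, 0, 2, 0, 2],
   [0, 2, 0, 2, 2, 2, 0, 2, 0, 2, 2, 2, 0, 2, 0, 2, 2, 2, 0, 2, 0, 2, 2, 2],
   [4, 4],
   [4, 0, 4, 0],
   [4, 2, 1, 3, 3, 1, 3, 1, 3, 4, 2, 0, 2, 0, 2, 2, 0, 3, 1, 1],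
   [4, 3, 1, 3, 1, 3, 3, 3, 4, 2, 2, 2, 0, 2, 0, 2, 0, 3, 1, 3, 1, 3, 3, 3, 4, 2, 2, 2, 0, 2, 0, 2, 0, 3, 1, 3, 1, 3, 3, 3, 4, 2, 2, 2, 0, 2, 0, 2, 0]]

end Cfsg.Agent.Lib.HN3
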