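/-!
Kernel-friendly evaluation of words in five letters on packed permutations.

A word is a number, three bits for each letter (the letter plus one), the first letter in the
lowest bits; a long word is a list of such numbers.  An element of the group is known by the
images of a few base points.  The file has no imports, so that evaluation needs little memory.
-/

namespace Cfsg.Agent.Lib.HN3

/-- evaluate `n` before use -/
noncomputable def hold {α : Type} (n : Nat) (f : Nat → α) : α :=
  Nat.rec (motive := fun _ => α) (f 0) (fun m _ => f (Nat.succ m)) n

/-- lazy conjunction -/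
noncomputable def band (a b : Bool) : Bool := Bool.rec (motive := fun _ => Bool) false b a

/-- conjunction over a list -/
noncomputable def forallB {α : Type} (p : α → Bool) (l : List α) : Bool :=
  List.rec (motive := fun _ => Bool) true (fun x _ ih => band (p x) ih) l

/-- conjunction over `0, ..., n - 1` -/
noncomputable def belowB (p : Nat → Bool) (n : Nat) : Bool :=
  Nat.rec (motive := fun _ => Bool) true (fun m ih => band (p m) ih) n

/-- entry of a list, or the default value -/
noncomputable def nth {α : Type} (d : α) (l : List α) : Nat → α :=
  List.rec (motive := fun _ => Nat → α) (fun _ => d)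
    (fun x _ ih i => Nat.rec (motive := fun _ => α) x (fun m _ => ih m) i) l

/-- entry of sixteen bits -/
noncomputable def at16 (b i : Nat) : Nat :=
  Nat.land (Nat.shiftRight b (Nat.mul i 16)) 65535

/-- permutations of `0, ..., n - 1` for the five letters -/
structure Pk where
  n : Nat
  ps : List Nat

/-- the image of a point under a letter -/
noncomputable def Pk.act (D : Pk) (l p : Nat) : Nat := at16 (nth 0 D.ps l) p

/-- follow one packed word of at most `fuel` letters -/
noncomputable def Pk.goC (D : Pk) (fuel : Nat) : Nat → Nat → Nat :=
  Nat.rec (motive := fun _ => Nat → Nat → Nat) (fun _ p => p)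
    (fun _ ih w p => Nat.rec (motive := fun _ => Nat) p
      (fun _ _ => hold (D.act (Nat.sub (Nat.land w 7) 1) p) fun q =>
        hold (Nat.shiftRight w 3) fun v => ih v q) w) fuel

/-- follow a word -/
noncomputable def Pk.go (D : Pk) (u : List Nat) : Nat → Nat :=
  List.rec (motive := fun _ => Nat → Nat) (fun p => p)
    (fun w _ ih p => hold (D.goC 128 w p) ih) u

/-- equality test for lists of numbers -/
noncomputable def eqLN (a : List Nat) : List Nat → Bool :=
  List.rec (motive := fun _ => List Nat → Bool)
    (fun b => List.rec (motive := fun _ => Bool) true (fun _ _ _ => false) b)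
    (fun x _ ih b =>
      List.rec (motive := fun _ => Bool) false (fun y ys _ => band (Nat.beq x y) (ih ys)) b) a

/-- move all points of a list along a word -/
noncomputable def Pk.mov (D : Pk) (u : List Nat) (s : List Nat) : List Nat :=
  List.rec (motive := fun _ => List Nat) [] (fun p _ ih => hold (D.go u p) fun q => q :: ih) s

/-- the two words move the base alike -/
noncomputable def Pk.same (D : Pk) (base : List Nat) (u v : List Nat) : Bool :=
  eqLN (D.mov u base) (D.mov v base)


/-- transversal entry: point, word, inverse word, predecessor, generator -/
abbrev Entry := Nat × List Nat × List Nat × Nat × Nat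

/-- one level of a stabiliser chain: base index, generators, size of the orbit, position of each
point in the orbit (sixteen bits each), transversal in blocks of 32 -/
structure Lev where
  b : Nat
  gens : List (List Nat)
  len : Nat
  idx : Nat
  tr : List (List Entry)

/-- the default entry of a transversal -/
def noEntry : Entry := (65536, [], [], 0, 0)

/-- entry number `q` -/
noncomputable def Lev.entry (lv : Lev) (q : Nat) : Entry :=
  nth noEntry (nth [] lv.tr (Nat.div q 32)) (Nat.mod q 32)

/-- the position of a point -/
noncomputable def Lev.pos (lv : Lev) (p : Nat) : Nat := at16 lv.idx p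

/-- sift the base images `s` of an element through a chain -/
noncomputable def Pk.sift (D : Pk) (base : List Nat) (L : List Lev) : List Nat → Bool :=
  List.rec (motive := fun _ => List Nat → Bool) (fun s => eqLN s base)
    (fun lv _ ih s => hold (nth 0 s (lv.b)) fun p =>
      band (Nat.blt (lv.pos p) lv.len)
        ((fun e => band (Nat.beq e.1 p) (ih (D.mov e.2.2.1 s))) (lv.entry (lv.pos p)))) L

end Cfsg.Agent.Lib.HN3

namespace Cfsg.Agent.Lib.HN3

/-- the letters of a packed word -/
noncomputable def decodeC (fuel : Nat) : Nat → List Nat :=
  Nat.rec (motive := fun _ => Nat → List Nat) (fun _ => [])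
    (fun _ ih w => Nat.rec (motive := fun _ => List Nat) []
      (fun _ _ => Nat.sub (Nat.land w 7) 1 :: ih (Nat.shiftRight w 3)) w) fuel

/-- the letters of a word -/
noncomputable def decode (u : List Nat) : List Nat :=
  List.rec (motive := fun _ => List Nat) [] (fun w _ ih => decodeC 128 w ++ ih) u

/-- membership of a word in a list of words -/
noncomputable def memW (u : List Nat) (l : List (List Nat)) : Bool :=
  List.rec (motive := fun _ => Bool) false
    (fun x _ ih => Bool.rec (motive := fun _ => Bool) ih true (eqLN x u)) l

/-- one transversal entry of a level -/
noncomputable def Pk.entryOK (D : Pk) (base : List Nat) (lv : Lev) (q : Nat) : Bool :=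
  (fun e => band (Nat.beq (lv.pos e.1) q)
    (band (Nat.beq (D.go e.2.1 (nth 0 base lv.b)) e.1)
      (band (eqLN (D.mov (e.2.1 ++ e.2.2.1) base) base)
        (Nat.rec (motive := fun _ => Bool) (eqLN (D.mov e.2.1 base) base)
          (fun _ _ => band (Nat.blt e.2.2.2.1 q)
            (band (Nat.blt e.2.2.2.2 lv.gens.length)
              (D.same base e.2.1
                ((lv.entry e.2.2.2.1).2.1 ++ nth [] lv.gens e.2.2.2.2)))) q))))
    (lv.entry q)

/-- the Schreier generators of one entry of a level sift through the levels `L` -/
noncomputable def Pk.schreierOK (D : Pk) (base : List Nat) (lv : Lev) (L : List Lev) (q : Nat) :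
    Bool :=
  (fun e => forallB (fun s => (fun im => hold (lv.pos (nth 0 im lv.b)) fun j =>
      band (Nat.blt j lv.len)
        ((fun r => band (Nat.beq r.1 (nth 0 im lv.b)) (D.sift base L (D.mov r.2.2.1 im)))
          (lv.entry j)))
      (D.mov (e.2.1 ++ s) base)) lv.gens)
    (lv.entry q)

/-- generators of the first level -/
noncomputable def headGens (L : List Lev) : List (List Nat) :=
  List.rec (motive := fun _ => List (List Nat)) [] (fun lv _ _ => lv.gens) L

/-- product of the orbit lengths -/
noncomputable def chainCard (L : List Lev) : Nat :=
  List.rec (motive := fun _ => Nat) 1 (fun lv _ ih => Nat.mul lv.len ih) L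

/-- the generators of later levels fix the base point of this one and are listed in it -/
noncomputable def Pk.nestOK (D : Pk) (base : List Nat) (lv : Lev) (L : List Lev) : Bool :=
  forallB (fun s => band (memW s lv.gens) (Nat.beq (D.go s (nth 0 base lv.b)) (nth 0 base lv.b)))
    (headGens L)

/-- a chain: nesting, transversals (a lower bound for the order) -/
noncomputable def Pk.baseOK (D : Pk) (base : List Nat) (L : List Lev) : Bool :=
  List.rec (motive := fun _ => Bool) true
    (fun lv T ih => band ih (band (Nat.blt lv.b base.length)
      (band (Nat.blt 0 lv.len)
        (band (D.nestOK base lv T) (belowB (D.entryOK base lv) lv.len))))) L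

/-- a chain closed under Schreier generators (the exact order) -/
noncomputable def Pk.chainOK (D : Pk) (base : List Nat) (L : List Lev) : Bool :=
  band (D.baseOK base L)
    (List.rec (motive := fun _ => Bool) true
      (fun lv T ih => band ih (belowB (D.schreierOK base lv T) lv.len)) L)

/-- the packed permutations are bijections inverse in pairs -/
noncomputable def Pk.permsOK (D : Pk) (invL : List Nat) : Bool :=
  belowB (fun l => belowB (fun p => hold (D.act l p) fun q =>
    band (Nat.blt q D.n) (band (Nat.blt (nth 0 invL l) 7)
      (Nat.beq (D.act (nth 0 invL l) q) p))) D.n) 7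

end Cfsg.Agent.Lib.HN3
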