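import Mathlib
import Cfsg.Agent.Lib.HN3.Kernel

/-!
Soundness of the word evaluator and of the stabiliser chain checker.
-/

namespace Cfsg.Agent.Lib.HN3

theorem hold_eq {α : Type} (n : ℕ) (f : ℕ → α) : hold n f = f n := by
  cases n <;> rfl

theorem band_eq (a b : Bool) : band a b = (a && b) := by cases a <;> rfl

theorem forallB_iff {α : Type} {p : α → Bool} :
    ∀ {l : List α}, forallB p l = true ↔ ∀ x ∈ l, p x = true
  | [] => by simp [forallB]
  | x :: l => by
    show band (p x) (forallB p l) = true ↔ _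
    rw [band_eq, Bool.and_eq_true, forallB_iff]; simp

theorem belowB_iff {p : ℕ → Bool} : ∀ {n : ℕ}, belowB p n = true ↔ ∀ i < n, p i = true
  | 0 => by simp [belowB]
  | n + 1 => by
    show band (p n) (belowB p n) = true ↔ _
    rw [band_eq, Bool.and_eq_true, belowB_iff]
    refine ⟨fun h i hi => ?_, fun h => ⟨h n (by omega), fun i hi => h i (by omega)⟩⟩
    rcases Nat.lt_succ_iff_lt_or_eq.1 hi with hi | rfl
    · exact h.2 i hi
    · exact h.1

theorem beqN_iff {a b : ℕ} : Nat.beq a b = true ↔ a = b :=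
  ⟨Nat.eq_of_beq_eq_true, fun h => h ▸ Nat.beq_refl a⟩

theorem eqLN_iff : ∀ {a b : List ℕ}, eqLN a b = true ↔ a = b
  | [], [] => by simp [eqLN]
  | [], _ :: _ => by simp [eqLN]
  | _ :: _, [] => by simp [eqLN]
  | x :: a, y :: b => by
    show band (Nat.beq x y) (eqLN a b) = true ↔ _
    rw [band_eq, Bool.and_eq_true, beqN_iff, eqLN_iff]; simp

theorem memW_iff {u : List ℕ} : ∀ {l : List (List ℕ)}, memW u l = true ↔ u ∈ l
  | [] => by simp [memW]
  | x :: l => by
    show (Bool.rec (motive := fun _ => Bool) (memW u l) true (eqLN x u)) = true ↔ _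
    rcases h : eqLN x u with _ | _
    · have hne : ¬ x = u := fun e => by rw [eqLN_iff.2 e] at h; exact absurd h (by simp)
      show memW u l = true ↔ _
      rw [memW_iff]; simp [Ne.symm hne]
    · simp [eqLN_iff.1 h]

theorem nth_eq {α : Type} (d : α) : ∀ (l : List α) (i : ℕ), nth d l i = l.getD i d
  | [], _ => by simp [nth]
  | x :: l, 0 => by simp [nth]
  | x :: l, i + 1 => by
    show nth d l i = _
    rw [nth_eq d l i]; simp

theorem decode_cons (w : ℕ) (u : List ℕ) : decode (w :: u) = decodeC 128 w ++ decode u := rfl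

theorem decode_append : ∀ u v : List ℕ, decode (u ++ v) = decode u ++ decode v
  | [], _ => rfl
  | w :: u, v => by
    rw [List.cons_append, decode_cons, decode_cons, decode_append, List.append_assoc]

theorem lt_seven_of_mem : ∀ {fuel w l : ℕ}, l ∈ decodeC fuel w → l < 7
  | 0, _, _, h => by simp [decodeC] at h
  | fuel + 1, 0, _, h => by simp [decodeC] at h
  | fuel + 1, w + 1, l, h => by
    have h' : l ∈ Nat.sub (Nat.land (w + 1) 7) 1 :: decodeC fuel (Nat.shiftRight (w + 1) 3) := h
    rcases List.mem_cons.1 h' with rfl | h'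
    · have : Nat.land (w + 1) 7 ≤ 7 := Nat.and_le_right
      have h2 : Nat.sub (Nat.land (w + 1) 7) 1 = Nat.land (w + 1) 7 - 1 := rfl
      omega
    · exact lt_seven_of_mem h'

theorem mem_decode_lt : ∀ {u : List ℕ} {l : ℕ}, l ∈ decode u → l < 7
  | [], _, h => by simp [decode] at h
  | w :: u, _, h => by
    rw [decode_cons, List.mem_append] at h
    exact h.elim lt_seven_of_mem mem_decode_lt

/-- a group acting on the points `0, ..., n - 1` with seven elements acting as the letters -/
structure Rep (D : Pk) (Q : Type*) [Group Q] where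
  f : ℕ → Q
  pt : Q → ℕ → ℕ
  pt_one : ∀ p, pt 1 p = p
  pt_mul : ∀ a b p, pt (a * b) p = pt b (pt a p)
  pt_lt : ∀ g p, p < D.n → pt g p < D.n
  pt_f : ∀ l p, l < 7 → p < D.n → pt (f l) p = D.act l p

namespace Rep

variable {D : Pk} {Q : Type*} [Group Q] (R : Rep D Q)

/-- the element of a word -/
noncomputable def ev (u : List ℕ) : Q := ((decode u).map R.f).prod

theorem ev_nil : R.ev [] = 1 := rfl

theorem ev_append (u v : List ℕ) : R.ev (u ++ v) = R.ev u * R.ev v := by
  simp [ev, decode_append]

theorem pt_inv {g : Q} {p q : ℕ} (h : R.pt g p = q) : R.pt g⁻¹ q = p := by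
  rw [← h, ← R.pt_mul, mul_inv_cancel, R.pt_one]

theorem goC_eq : ∀ (fuel w p : ℕ), p < D.n →
    D.goC fuel w p = R.pt (((decodeC fuel w).map R.f).prod) p
  | 0, _, p, _ => by simp [Pk.goC, decodeC, R.pt_one]
  | fuel + 1, 0, p, _ => by simp [Pk.goC, decodeC, R.pt_one]
  | fuel + 1, w + 1, p, hp => by
    show hold (D.act (Nat.sub (Nat.land (w + 1) 7) 1) p) (fun q =>
        hold (Nat.shiftRight (w + 1) 3) fun v => D.goC fuel v q) =
      R.pt (((Nat.sub (Nat.land (w + 1) 7) 1 ::
        decodeC fuel (Nat.shiftRight (w + 1) 3)).map R.f).prod) p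
    have hl : Nat.sub (Nat.land (w + 1) 7) 1 < 7 :=
      lt_seven_of_mem (fuel := fuel + 1) (w := w + 1) (List.mem_cons_self ..)
    rw [hold_eq, hold_eq, List.map_cons, List.prod_cons, R.pt_mul, R.pt_f _ _ hl hp]
    refine goC_eq fuel _ _ ?_
    rw [← R.pt_f _ _ hl hp]
    exact R.pt_lt _ _ hp

theorem go_eq : ∀ (u : List ℕ) (p : ℕ), p < D.n → D.go u p = R.pt (R.ev u) p
  | [], p, _ => (R.pt_one p).symm
  | w :: u, p, hp => by
    show hold (D.goC 128 w p) (D.go u) = _
    rw [hold_eq, R.goC_eq 128 w p hp, go_eq u _ (R.pt_lt _ _ hp)]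
    simp only [ev, decode_cons, List.map_append, List.prod_append, R.pt_mul]

/-- the images of a list of points -/
noncomputable def imgs (g : Q) (base : List ℕ) : List ℕ := base.map (R.pt g)

theorem imgs_mul (a b : Q) (base : List ℕ) :
    R.imgs (a * b) base = (R.imgs a base).map (R.pt b) := by
  simp [imgs, R.pt_mul, Function.comp_def]

theorem imgs_one (base : List ℕ) : R.imgs 1 base = base := by
  rw [imgs]
  conv_rhs => rw [← List.map_id base]
  exact List.map_congr_left fun p _ => R.pt_one p

theorem mov_eq : ∀ (u s : List ℕ), (∀ p ∈ s, p < D.n) → D.mov u s = s.map (R.pt (R.ev u))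
  | _, [], _ => rfl
  | u, p :: s, h => by
    show hold (D.go u p) (fun q => q :: D.mov u s) = _
    rw [hold_eq, R.go_eq u p (h p (by simp)), mov_eq u s fun q hq => h q (by simp [hq])]
    rfl

theorem imgs_lt {base : List ℕ} (hb : ∀ b ∈ base, b < D.n) (g : Q) :
    ∀ p ∈ R.imgs g base, p < D.n := by
  intro p hp
  obtain ⟨b, hbm, rfl⟩ := List.mem_map.1 hp
  exact R.pt_lt _ _ (hb b hbm)

theorem mov_imgs {base : List ℕ} (hb : ∀ b ∈ base, b < D.n) (g : Q) (u : List ℕ) :
    D.mov u (R.imgs g base) = R.imgs (g * R.ev u) base := by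
  rw [R.mov_eq u _ (R.imgs_lt hb g), R.imgs_mul]

theorem mov_base {base : List ℕ} (hb : ∀ b ∈ base, b < D.n) (u : List ℕ) :
    D.mov u base = R.imgs (R.ev u) base := by
  conv_lhs => rw [← R.imgs_one base]
  rw [R.mov_imgs hb, one_mul]

/-- only the identity fixes the base -/
def Inj (base : List ℕ) : Prop := ∀ g : Q, R.imgs g base = base → g = 1

theorem eq_of_imgs {base : List ℕ} (hI : R.Inj base) {a b : Q}
    (h : R.imgs a base = R.imgs b base) : a = b := by
  have e : R.imgs (a * b⁻¹) base = base := by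
    rw [R.imgs_mul, h, ← R.imgs_mul, mul_inv_cancel, R.imgs_one]
  exact mul_inv_eq_one.1 (hI _ e)

theorem eq_of_same {base u v : List ℕ} (hb : ∀ b ∈ base, b < D.n) (hI : R.Inj base)
    (h : D.same base u v = true) : R.ev u = R.ev v := by
  have h' := eqLN_iff.1 h
  rw [R.mov_base hb, R.mov_base hb] at h'
  exact R.eq_of_imgs hI h'

theorem nth_imgs {base : List ℕ} {b : ℕ} (hb : b < base.length) (g : Q) :
    nth 0 (R.imgs g base) b = R.pt g (nth 0 base b) := by
  rw [nth_eq, nth_eq, List.getD_eq_getElem _ _ (by simpa [imgs] using hb),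
    List.getD_eq_getElem _ _ hb]
  simp [imgs]

/-- the subgroup of a list of words -/
noncomputable def wgroup (ws : List (List ℕ)) : Subgroup Q :=
  Subgroup.closure (R.ev '' {u | u ∈ ws})

/-- elements fixing the base points of the levels in `L` -/
def fixAll (base : List ℕ) : Subgroup Q where
  carrier := {g | R.imgs g base = base}
  one_mem' := R.imgs_one base
  mul_mem' {a b} ha hb := by
    show R.imgs (a * b) base = base
    rw [R.imgs_mul, show R.imgs a base = base from ha]; exact hb
  inv_mem' {a} ha := by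
    show R.imgs a⁻¹ base = base
    conv_lhs => rw [← show R.imgs a base = base from ha]
    rw [imgs, imgs, List.map_map]
    conv_rhs => rw [← List.map_id base]
    refine List.map_congr_left fun p _ => ?_
    show R.pt a⁻¹ (R.pt a p) = p
    exact R.pt_inv rfl

theorem wgroup_mono {ws ws' : List (List ℕ)} (h : ∀ u ∈ ws, u ∈ ws') :
    R.wgroup ws ≤ R.wgroup ws' :=
  Subgroup.closure_mono (Set.image_mono fun u hu => h u hu)

theorem ev_mem_wgroup {ws : List (List ℕ)} {u : List ℕ} (h : u ∈ ws) : R.ev u ∈ R.wgroup ws :=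
  Subgroup.subset_closure ⟨u, h, rfl⟩

theorem baseOK_cons {base : List ℕ} {lv : Lev} {T : List Lev}
    (h : D.baseOK base (lv :: T) = true) :
    D.baseOK base T = true ∧ lv.b < base.length ∧ 0 < lv.len ∧
      D.nestOK base lv T = true ∧ ∀ q < lv.len, D.entryOK base lv q = true := by
  have h' : band (D.baseOK base T) (band (Nat.blt lv.b base.length)
      (band (Nat.blt 0 lv.len) (band (D.nestOK base lv T)
        (belowB (D.entryOK base lv) lv.len)))) = true := h
  simp only [band_eq, Bool.and_eq_true, belowB_iff] at h'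
  exact ⟨h'.1, Nat.le_of_ble_eq_true h'.2.1, Nat.le_of_ble_eq_true h'.2.2.1, h'.2.2.2.1,
    h'.2.2.2.2⟩

/-- the Schreier checks of all levels -/
noncomputable def schreierAll (D : Pk) (base : List ℕ) (L : List Lev) : Bool :=
  List.rec (motive := fun _ => Bool) true
    (fun lv T ih => band ih (belowB (D.schreierOK base lv T) lv.len)) L

theorem chainOK_cons {base : List ℕ} {lv : Lev} {T : List Lev}
    (h : D.chainOK base (lv :: T) = true) :
    D.chainOK base T = true ∧ lv.b < base.length ∧ 0 < lv.len ∧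
      D.nestOK base lv T = true ∧ (∀ q < lv.len, D.entryOK base lv q = true) ∧
      ∀ q < lv.len, D.schreierOK base lv T q = true := by
  have h' : band (D.baseOK base (lv :: T))
      (band (schreierAll D base T) (belowB (D.schreierOK base lv T) lv.len)) = true := h
  simp only [band_eq, Bool.and_eq_true, belowB_iff] at h'
  obtain ⟨a, b, c, d, e⟩ := baseOK_cons h'.1
  refine ⟨?_, b, c, d, e, h'.2.2⟩
  show band (D.baseOK base T) (schreierAll D base T) = true
  rw [band_eq, Bool.and_eq_true]
  exact ⟨a, h'.2.1⟩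

theorem baseOK_of_chainOK {base : List ℕ} {L : List Lev} (h : D.chainOK base L = true) :
    D.baseOK base L = true := by
  have h' : band (D.baseOK base L) (schreierAll D base L) = true := h
  rw [band_eq, Bool.and_eq_true] at h'
  exact h'.1

theorem headGens_cons (lv : Lev) (T : List Lev) : headGens (lv :: T) = lv.gens := rfl

theorem chainCard_cons (lv : Lev) (T : List Lev) :
    chainCard (lv :: T) = lv.len * chainCard T := rfl

section

variable {base : List ℕ} (hb : ∀ b ∈ base, b < D.n)
include hb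

theorem nth_base_lt {b : ℕ} (h : b < base.length) : nth 0 base b < D.n := by
  rw [nth_eq, List.getD_eq_getElem _ _ h]; exact hb _ (List.getElem_mem h)

theorem entry_spec {lv : Lev} (hlb : lv.b < base.length) {q : ℕ}
    (h : D.entryOK base lv q = true) :
    let e := lv.entry q
    lv.pos e.1 = q ∧ R.pt (R.ev e.2.1) (nth 0 base lv.b) = e.1 ∧
      R.imgs (R.ev e.2.1 * R.ev e.2.2.1) base = base ∧
      (q = 0 → R.imgs (R.ev e.2.1) base = base) ∧
      (0 < q → e.2.2.2.1 < q ∧ e.2.2.2.2 < lv.gens.length ∧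
        R.imgs (R.ev e.2.1) base =
          R.imgs (R.ev (lv.entry e.2.2.2.1).2.1 *
            R.ev (nth [] lv.gens e.2.2.2.2)) base) := by
  intro e
  have h' : band (Nat.beq (lv.pos e.1) q)
      (band (Nat.beq (D.go e.2.1 (nth 0 base lv.b)) e.1)
        (band (eqLN (D.mov (e.2.1 ++ e.2.2.1) base) base)
          (Nat.rec (motive := fun _ => Bool) (eqLN (D.mov e.2.1 base) base)
            (fun _ _ => band (Nat.blt e.2.2.2.1 q)
              (band (Nat.blt e.2.2.2.2 lv.gens.length)
                (D.same base e.2.1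
                  ((lv.entry e.2.2.2.1).2.1 ++ nth [] lv.gens e.2.2.2.2)))) q))) = true := h
  simp only [band_eq, Bool.and_eq_true, beqN_iff, eqLN_iff] at h'
  obtain ⟨h1, h2, h3, h4⟩ := h'
  rw [R.go_eq _ _ (nth_base_lt hb hlb)] at h2
  rw [R.mov_base hb, R.ev_append] at h3
  refine ⟨h1, h2, h3, fun h0 => ?_, fun h0 => ?_⟩
  · subst h0
    rw [← R.mov_base hb]
    exact eqLN_iff.1 h4
  · obtain ⟨q', rfl⟩ := Nat.exists_eq_succ_of_ne_zero (Nat.pos_iff_ne_zero.1 h0)
    have h5 : ((Nat.blt e.2.2.2.1 (q' + 1)) &&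
        ((Nat.blt e.2.2.2.2 lv.gens.length) &&
          (D.same base e.2.1
            ((lv.entry e.2.2.2.1).2.1 ++ nth [] lv.gens e.2.2.2.2)))) = true := h4
    simp only [Bool.and_eq_true] at h5
    refine ⟨Nat.le_of_ble_eq_true h5.1, Nat.le_of_ble_eq_true h5.2.1, ?_⟩
    have h6 := eqLN_iff.1 h5.2.2
    rw [R.mov_base hb, R.mov_base hb, R.ev_append] at h6
    exact h6

theorem nest_spec {lv : Lev} (hlb : lv.b < base.length) {T : List Lev}
    (h : D.nestOK base lv T = true) :
    ∀ s ∈ headGens T, s ∈ lv.gens ∧ R.pt (R.ev s) (nth 0 base lv.b) = nth 0 base lv.b := by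
  intro s hs
  have h' := forallB_iff.1 h s hs
  rw [band_eq, Bool.and_eq_true, memW_iff, beqN_iff, R.go_eq _ _ (nth_base_lt hb hlb)] at h'
  exact h'

/-- the product of the orbit lengths is a lower bound -/
theorem chainCard_mul_le [Finite Q] : ∀ (L : List Lev), D.baseOK base L = true →
    ∀ S : Subgroup Q, R.wgroup (headGens L) ≤ S → R.fixAll base ≤ S →
      chainCard L * Nat.card (R.fixAll base) ≤ Nat.card S
  | [], _, S, _, hF => by
    simpa [chainCard] using Nat.le_of_dvd Nat.card_pos (Subgroup.card_dvd_of_le hF)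
  | lv :: T, h, S, hS, hF => by
    obtain ⟨hT, hlb, hpos, hnest, hent⟩ := baseOK_cons h
    let β := nth 0 base lv.b
    have hn := R.nest_spec hb hlb hnest
    let F : Subgroup Q :=
      { carrier := {g | R.pt g β = β}
        one_mem' := R.pt_one β
        mul_mem' := fun {a b} ha hb' => by
          show R.pt (a * b) β = β
          rw [R.pt_mul, show R.pt a β = β from ha]; exact hb'
        inv_mem' := fun {a} ha => R.pt_inv ha }
    have hle1 : R.wgroup (headGens T) ≤ S ⊓ F := by
      refine le_inf ((R.wgroup_mono fun u hu => (hn u hu).1).trans hS) ?_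
      rw [wgroup, Subgroup.closure_le]
      rintro _ ⟨u, hu, rfl⟩
      exact (hn u hu).2
    have hle2 : R.fixAll base ≤ S ⊓ F := by
      refine le_inf hF fun g hg => ?_
      have e := R.nth_imgs hlb g
      rw [show R.imgs g base = base from hg] at e
      exact e.symm
    have ih := chainCard_mul_le T hT (S ⊓ F) hle1 hle2
    have hmem : ∀ q, q < lv.len → R.ev (lv.entry q).2.1 ∈ S := by
      intro q
      induction q using Nat.strongRecOn with
      | _ q IH =>
        intro hq
        obtain ⟨-, -, -, h0, h1⟩ := R.entry_spec hb hlb (hent q hq)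
        rcases Nat.eq_zero_or_pos q with hq0 | hq0
        · exact hF (h0 hq0)
        · obtain ⟨hp, hg, he⟩ := h1 hq0
          set w := R.ev (lv.entry q).2.1
          set v := R.ev (lv.entry (lv.entry q).2.2.2.1).2.1 *
            R.ev (nth [] lv.gens (lv.entry q).2.2.2.2)
          have hv : v ∈ S := by
            refine mul_mem (IH _ hp (hp.trans hq)) (hS (R.ev_mem_wgroup ?_))
            rw [nth_eq, List.getD_eq_getElem _ _ hg]
            exact List.getElem_mem hg
          have hf : w * v⁻¹ ∈ S := hF (show R.imgs (w * v⁻¹) base = base by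
            rw [R.imgs_mul, he, ← R.imgs_mul, mul_inv_cancel, R.imgs_one])
          simpa using mul_mem hf hv
    let φ : ↥(S ⊓ F) × Fin lv.len → S :=
      fun a => ⟨a.1.1 * R.ev (lv.entry a.2).2.1, mul_mem a.1.2.1 (hmem a.2 a.2.2)⟩
    have hφ : Function.Injective φ := by
      rintro ⟨a, i⟩ ⟨a', i'⟩ e
      have e' : a.1 * R.ev (lv.entry i).2.1 = a'.1 * R.ev (lv.entry i').2.1 :=
        congrArg Subtype.val e
      have hpt : R.pt (a.1 * R.ev (lv.entry i).2.1) β =
          R.pt (a'.1 * R.ev (lv.entry i').2.1) β := by rw [e']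
      rw [R.pt_mul, R.pt_mul, show R.pt a.1 β = β from a.2.2,
        show R.pt a'.1 β = β from a'.2.2] at hpt
      obtain ⟨f1, p1, -⟩ := R.entry_spec hb hlb (hent i i.2)
      obtain ⟨f2, p2, -⟩ := R.entry_spec hb hlb (hent i' i'.2)
      rw [p1, p2] at hpt
      have hii : (i : ℕ) = i' := by rw [← f1, ← f2, hpt]
      rw [hii] at e'
      exact Prod.ext (Subtype.ext (mul_right_cancel e')) (Fin.ext hii)
    have := Nat.card_le_card_of_injective φ hφ
    rw [Nat.card_prod, Nat.card_fin] at this
    calc chainCard (lv :: T) * Nat.card (R.fixAll base)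
        = chainCard T * Nat.card (R.fixAll base) * lv.len := by
          rw [chainCard_cons]; ring
      _ ≤ Nat.card ↥(S ⊓ F) * lv.len := Nat.mul_le_mul_right _ ih
      _ ≤ Nat.card S := this

theorem sift_cons {lv : Lev} {T : List Lev} {g : Q}
    (hlb : lv.b < base.length) (h : D.sift base (lv :: T) (R.imgs g base) = true) :
    let q := lv.pos (R.pt g (nth 0 base lv.b))
    q < lv.len ∧
      D.sift base T (R.imgs (g * R.ev (lv.entry q).2.2.1) base) = true := by
  intro q
  have h' : hold (nth 0 (R.imgs g base) lv.b) (fun p => band (Nat.blt (lv.pos p) lv.len)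
      (band (Nat.beq (lv.entry (lv.pos p)).1 p)
        (D.sift base T (D.mov (lv.entry (lv.pos p)).2.2.1 (R.imgs g base))))) =
      true := h
  simp only [hold_eq, band_eq, Bool.and_eq_true, beqN_iff] at h'
  rw [R.nth_imgs hlb, R.mov_imgs hb] at h'
  exact ⟨Nat.le_of_ble_eq_true h'.1, h'.2.2⟩

theorem inv_entry (hI : R.Inj base) {lv : Lev} (hlb : lv.b < base.length) {q : ℕ}
    (h : D.entryOK base lv q = true) :
    R.ev (lv.entry q).2.2.1 = (R.ev (lv.entry q).2.1)⁻¹ :=
  eq_inv_of_mul_eq_one_right (hI _ (R.entry_spec hb hlb h).2.2.1)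

theorem entry_mem (hI : R.Inj base) {lv : Lev} {T : List Lev}
    (h : D.chainOK base (lv :: T) = true) : ∀ q, q < lv.len →
      R.ev (lv.entry q).2.1 ∈ R.wgroup lv.gens := by
  obtain ⟨-, hlb, -, -, hent, -⟩ := chainOK_cons h
  intro q
  induction q using Nat.strongRecOn with
  | _ q IH =>
    intro hq
    obtain ⟨-, -, -, h0, h1⟩ := R.entry_spec hb hlb (hent q hq)
    rcases Nat.eq_zero_or_pos q with hq0 | hq0
    · rw [hI _ (h0 hq0)]; exact one_mem _
    · obtain ⟨hp, hg, he⟩ := h1 hq0
      rw [R.eq_of_imgs hI he]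
      refine mul_mem (IH _ hp (hp.trans hq)) (R.ev_mem_wgroup ?_)
      rw [nth_eq, List.getD_eq_getElem _ _ hg]
      exact List.getElem_mem hg

/-- what sifts through a checked chain lies in its group -/
theorem sift_mem (hI : R.Inj base) : ∀ (L : List Lev),
    D.chainOK base L = true → ∀ g : Q, D.sift base L (R.imgs g base) = true →
      g ∈ R.wgroup (headGens L)
  | [], _, g, hg => by
    rw [hI g (eqLN_iff.1 hg)]; exact one_mem _
  | lv :: T, h, g, hg => by
    obtain ⟨hT, hlb, -, hnest, hent, -⟩ := chainOK_cons h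
    obtain ⟨hq, hs⟩ := R.sift_cons hb hlb hg
    have h1 := R.wgroup_mono (fun u hu => (R.nest_spec hb hlb hnest u hu).1)
      (sift_mem hI T hT _ hs)
    rw [R.inv_entry hb hI hlb (hent _ hq)] at h1
    have := mul_mem h1 (R.entry_mem hb hI h _ hq)
    simpa [mul_assoc, headGens_cons] using this

/-- the group of a checked chain has at most the product of the orbit lengths many elements -/
theorem card_wgroup_le [Finite Q] (hI : R.Inj base) : ∀ (L : List Lev),
    D.chainOK base L = true → Nat.card (R.wgroup (headGens L)) ≤ chainCard L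
  | [], _ => by
    have : R.wgroup (headGens []) = ⊥ := by simp [wgroup, headGens]
    rw [this]; simp [chainCard]
  | lv :: T, h => by
    obtain ⟨hT, hlb, hpos, hnest, hent, hsch⟩ := chainOK_cons h
    have ih := card_wgroup_le hI T hT
    have hle := R.wgroup_mono fun u hu => (R.nest_spec hb hlb hnest u hu).1
    let A : Set Q := Set.range fun a : ↥(R.wgroup (headGens T)) × Fin lv.len =>
      a.1.1 * R.ev (lv.entry a.2).2.1
    have hmul : ∀ a ∈ A, ∀ s ∈ lv.gens, a * R.ev s ∈ A := by
      rintro _ ⟨⟨a, i⟩, rfl⟩ s hs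
      have h' := forallB_iff.1 (hsch i i.2) s hs
      rw [R.mov_base hb] at h'
      simp only [hold_eq, band_eq, Bool.and_eq_true, beqN_iff] at h'
      rw [R.nth_imgs hlb, R.mov_imgs hb, R.ev_append] at h'
      set r := lv.pos (R.pt (R.ev (lv.entry i).2.1 * R.ev s) (nth 0 base lv.b)) with hrdef
      have hr : r < lv.len := Nat.le_of_ble_eq_true h'.1
      have hm := R.sift_mem hb hI T hT _ h'.2.2
      rw [R.inv_entry hb hI hlb (hent r hr)] at hm
      refine ⟨⟨⟨_, mul_mem a.2 hm⟩, ⟨r, hr⟩⟩, ?_⟩
      show a.1 * (R.ev (lv.entry i).2.1 * R.ev s * (R.ev (lv.entry r).2.1)⁻¹) *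
        R.ev (lv.entry r).2.1 = a.1 * R.ev (lv.entry i).2.1 * R.ev s
      group
    have h1 : (1 : Q) ∈ A := by
      refine ⟨⟨1, ⟨0, hpos⟩⟩, ?_⟩
      show (1 : Q) * R.ev (lv.entry 0).2.1 = 1
      rw [hI _ ((R.entry_spec hb hlb (hent 0 hpos)).2.2.2.1 rfl), one_mul]
    have hsub : (R.wgroup lv.gens : Set Q) ⊆ A := by
      intro g hg
      have hg' : g ∈ Submonoid.closure (R.ev '' {u | u ∈ lv.gens}) := by
        rw [← Subgroup.closure_toSubmonoid_of_finite]; exact hg
      suffices ∀ a ∈ A, a * g ∈ A by simpa using this 1 h1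
      clear hg
      induction hg' using Submonoid.closure_induction with
      | mem x hx => obtain ⟨s, hs, rfl⟩ := hx; exact fun a ha => hmul a ha s hs
      | one => intro a ha; simpa using ha
      | mul x y _ _ hx hy => intro a ha; rw [← mul_assoc]; exact hy _ (hx a ha)
    calc Nat.card (R.wgroup (headGens (lv :: T))) ≤ Nat.card A :=
          Nat.card_mono (Set.toFinite _) hsub
      _ ≤ Nat.card (↥(R.wgroup (headGens T)) × Fin lv.len) := Finite.card_range_le _
      _ ≤ chainCard (lv :: T) := by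
          rw [Nat.card_prod, Nat.card_fin, chainCard_cons, mul_comm]
          exact Nat.mul_le_mul_left _ ih

/-- exact order of the group of a checked chain -/
theorem card_wgroup [Finite Q] (hI : R.Inj base) (L : List Lev)
    (h : D.chainOK base L = true) : Nat.card (R.wgroup (headGens L)) = chainCard L := by
  refine le_antisymm (R.card_wgroup_le hb hI L h) ?_
  have hF : R.fixAll base = ⊥ := (Subgroup.eq_bot_iff_forall _).2 fun g hg => hI g hg
  have := R.chainCard_mul_le hb L (baseOK_of_chainOK h) (R.wgroup (headGens L)) le_rfl (by rw [hF]; exact bot_le)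
  rwa [hF, Subgroup.card_bot, mul_one] at this

end

end Rep

end Cfsg.Agent.Lib.HN3
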