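import Mathlib
import Cfsg.Agent.Lib.HN3.Sound
import Cfsg.Agent.Lib.HN3.Check
import Cfsg.Agent.Lib.HN3.HWords
import Cfsg.Agent.Lib.HN3.HRel

/-!
The group `Hbar` generated by the three permutations of 1408 points.  Assuming the bound
177408000 for the order of every group with the relations `HRel`, it maps onto every such group,
its elements are determined by the images of four base points, and it has exactly that order.
-/

namespace Cfsg.Agent.Lib.HN3

theorem hPk_n : hPk.n = 1408 := rfl

theorem hPk_spec {l p : ℕ} (hl : l < 7) (hp : p < 1408) :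
    hPk.act l p < 1408 ∧ hPk.act (nth 0 hInv l) (hPk.act l p) = p := by
  have h := belowB_iff.1 hPk_ok l hl
  have h' := belowB_iff.1 h p hp
  simp only [hold_eq, band_eq, Bool.and_eq_true, beqN_iff] at h'
  exact ⟨Nat.le_of_ble_eq_true h'.1, h'.2.2⟩

theorem hInv_spec : ∀ l < 7, nth 0 hInv l < 7 ∧ nth 0 hInv (nth 0 hInv l) = l := by
  decide +kernel

/-- one letter as a permutation of the 1408 points -/
noncomputable def hLetter (l : ℕ) : Equiv.Perm (Fin 1408) :=
  if hl : l < 7 then
    { toFun := fun p => ⟨hPk.act l p, (hPk_spec hl p.2).1⟩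
      invFun := fun p => ⟨hPk.act (nth 0 hInv l) p, (hPk_spec (hInv_spec l hl).1 p.2).1⟩
      left_inv := fun p => Fin.ext (hPk_spec hl p.2).2
      right_inv := fun p => Fin.ext (by
        have := (hPk_spec (hInv_spec l hl).1 p.2).2
        rwa [(hInv_spec l hl).2] at this) }
  else 1

theorem hLetter_apply {l : ℕ} (hl : l < 7) (p : Fin 1408) :
    (hLetter l p : ℕ) = hPk.act l p := by
  rw [hLetter, dif_pos hl]; rfl

theorem hLetter_symm {l : ℕ} (hl : l < 7) : (hLetter l)⁻¹ = hLetter (nth 0 hInv l) := by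
  rw [inv_eq_iff_mul_eq_one]
  refine Equiv.ext fun p => Fin.ext ?_
  show (hLetter l (hLetter (nth 0 hInv l) p) : ℕ) = p
  rw [hLetter_apply hl, hLetter_apply (hInv_spec l hl).1]
  have := (hPk_spec (hInv_spec l hl).1 p.2).2
  rwa [(hInv_spec l hl).2] at this

/-- the permutations act on the points from the right -/
noncomputable def permRep : Rep hPk (Equiv.Perm (Fin 1408)) where
  f l := (hLetter l)⁻¹
  pt g p := if h : p < 1408 then ((g⁻¹ : Equiv.Perm (Fin 1408)) ⟨p, h⟩ : ℕ) else p
  pt_one p := by split <;> simp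
  pt_mul a b p := by
    by_cases hp : p < 1408
    · simp [hp]
    · simp [hp]
  pt_lt g p hp := by
    rw [hPk_n] at hp ⊢
    rw [dif_pos hp]
    exact Fin.isLt _
  pt_f l p hl hp := by
    rw [hPk_n] at hp
    rw [dif_pos hp, inv_inv, hLetter_apply hl]

theorem permRep_pt (g : Equiv.Perm (Fin 1408)) (p : Fin 1408) :
    permRep.pt g p = ((g⁻¹ : Equiv.Perm (Fin 1408)) p : ℕ) := dif_pos p.2

theorem perm_ext {a b : Equiv.Perm (Fin 1408)}
    (h : ∀ p < 1408, permRep.pt a p = permRep.pt b p) : a = b := by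
  refine inv_inj.1 (Equiv.ext fun p => Fin.ext ?_)
  rw [← permRep_pt, ← permRep_pt]
  exact h p p.2

theorem hRelW_fix :
    forallB (fun u => belowB (fun p => Nat.beq (hPk.go u p) p) 1408) hRelW = true := by
  decide +kernel

theorem hRelW_decode : hRelW.map decode = hRelL := by decide +kernel

theorem permRep_rel {w : List ℕ} (hw : w ∈ hRelL) : (w.map permRep.f).prod = 1 := by
  rw [← hRelW_decode] at hw
  obtain ⟨u, hu, rfl⟩ := List.mem_map.1 hw
  have h := forallB_iff.1 hRelW_fix u hu
  refine perm_ext fun p hp => ?_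
  have h' := belowB_iff.1 h p hp
  rw [beqN_iff, permRep.go_eq u p (by rwa [hPk_n])] at h'
  rw [permRep.pt_one]
  exact h'

/-- the relations from the letters of the relators -/
theorem hRel_of_prods {Q : Type*} [Group Q] (f : ℕ → Q) (h1 : f 1 = (f 0)⁻¹) (h3 : f 3 = (f 2)⁻¹)
    (h4 : f 4 * f 4 = 1) (h : ∀ w ∈ hRelL, (w.map f).prod = 1) : HRel (f 0) (f 2) (f 4) := by
  have hz : (f 4)⁻¹ = f 4 := inv_eq_of_mul_eq_one_right h4
  simp only [hRelL, List.forall_mem_cons, List.map_cons, List.map_nil, List.prod_cons,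
    List.prod_nil, h1, h3, mul_one] at h
  obtain ⟨e1, e2, e3, e4, e5, e6, e7, e8, e9, e10, -⟩ := h
  constructor
  · simpa only [pow_succ, pow_zero, one_mul, mul_inv_rev, inv_inv, hz, mul_assoc] using e1
  · simpa only [pow_succ, pow_zero, one_mul, mul_inv_rev, inv_inv, hz, mul_assoc] using e2
  · simpa only [pow_succ, pow_zero, one_mul, mul_inv_rev, inv_inv, hz, mul_assoc] using e3
  · simpa only [pow_succ, pow_zero, one_mul, mul_inv_rev, inv_inv, hz, mul_assoc] using e4
  · simpa only [pow_succ, pow_zero, one_mul, mul_inv_rev, inv_inv, hz, mul_assoc] using e5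
  · simpa only [pow_succ, pow_zero, one_mul, mul_inv_rev, inv_inv, hz, mul_assoc] using e6
  · simpa only [pow_succ, pow_zero, one_mul, mul_inv_rev, inv_inv, hz, mul_assoc] using e7
  · simpa only [pow_succ, pow_zero, one_mul, mul_inv_rev, inv_inv, hz, mul_assoc] using e8
  · simpa only [pow_succ, pow_zero, one_mul, mul_inv_rev, inv_inv, hz, mul_assoc] using e9
  · simpa only [pow_succ, pow_zero, one_mul, mul_inv_rev, inv_inv, hz, mul_assoc] using e10

/-- the bound needed on the groups with the relations -/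
def HBound : Prop :=
  ∀ (G : Type) [Group G] (x y z : G), HRel x y z →
    Finite (Subgroup.closure ({x, y, z} : Set G)) ∧
      Nat.card (Subgroup.closure ({x, y, z} : Set G)) ≤ 177408000

theorem permRep_inv (l : ℕ) (hl : l < 7) : permRep.f (nth 0 hInv l) = (permRep.f l)⁻¹ := by
  show (hLetter (nth 0 hInv l))⁻¹ = (hLetter l)⁻¹⁻¹
  rw [← hLetter_symm hl]

theorem hRel_perm : HRel (permRep.f 0) (permRep.f 2) (permRep.f 4) := by
  refine hRel_of_prods permRep.f (permRep_inv 0 (by decide)) (permRep_inv 2 (by decide)) ?_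
    fun w hw => permRep_rel hw
  have := permRep_inv 4 (by decide)
  rw [show nth 0 hInv 4 = 4 from rfl] at this
  rw [mul_eq_one_iff_eq_inv]
  exact this

/-- the group generated by the three permutations -/
noncomputable def Hbar : Subgroup (Equiv.Perm (Fin 1408)) :=
  Subgroup.closure {permRep.f 0, permRep.f 2, permRep.f 4}

theorem permRep_f_mem : ∀ l : ℕ, permRep.f l ∈ Hbar := by
  intro l
  have h0 : permRep.f 0 ∈ Hbar := Subgroup.subset_closure (by simp)
  have h2 : permRep.f 2 ∈ Hbar := Subgroup.subset_closure (by simp)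
  have h4 : permRep.f 4 ∈ Hbar := Subgroup.subset_closure (by simp)
  match l with
  | 0 => exact h0
  | 1 => exact (permRep_inv 0 (by decide)) ▸ inv_mem h0
  | 2 => exact h2
  | 3 => exact (permRep_inv 2 (by decide)) ▸ inv_mem h2
  | 4 => exact h4
  | 5 =>
    have : permRep.f 5 = 1 := perm_ext fun p hp => by
      rw [permRep.pt_f 5 p (by decide) (by rwa [hPk_n]), permRep.pt_one]
      exact beqN_iff.1 (belowB_iff.1 (show belowB (fun p => Nat.beq (hPk.act 5 p) p) 1408 = true
        by decide +kernel) p hp)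
    rw [this]; exact one_mem _
  | 6 =>
    have : permRep.f 6 = 1 := perm_ext fun p hp => by
      rw [permRep.pt_f 6 p (by decide) (by rwa [hPk_n]), permRep.pt_one]
      exact beqN_iff.1 (belowB_iff.1 (show belowB (fun p => Nat.beq (hPk.act 6 p) p) 1408 = true
        by decide +kernel) p hp)
    rw [this]; exact one_mem _
  | l + 7 =>
    show (hLetter (l + 7))⁻¹ ∈ Hbar
    rw [hLetter, dif_neg (by omega)]; simp

/-- the letters inside `Hbar` -/
noncomputable def rep : Rep hPk Hbar where
  f l := ⟨permRep.f l, permRep_f_mem l⟩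
  pt g p := permRep.pt g p
  pt_one p := permRep.pt_one p
  pt_mul a b p := permRep.pt_mul a b p
  pt_lt g p := permRep.pt_lt g p
  pt_f l p := permRep.pt_f l p

theorem hBase_lt : ∀ b ∈ hBase, b < hPk.n := by rw [hPk_n]; decide

theorem card_Hbar_le (hB : HBound) : Nat.card Hbar ≤ 177408000 :=
  (hB _ _ _ _ hRel_perm).2

theorem card_Hbar_aux :
    177408000 * Nat.card (rep.fixAll hBase) ≤ Nat.card Hbar := by
  have := rep.chainCard_mul_le hBase_lt hChain hChain_ok ⊤ le_top le_top
  rwa [hChain_card, Subgroup.card_top] at this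

theorem card_Hbar (hB : HBound) : Nat.card Hbar = 177408000 := by
  refine le_antisymm (card_Hbar_le hB) ?_
  have h := card_Hbar_aux
  have := Nat.card_pos (α := rep.fixAll hBase)
  calc 177408000 ≤ 177408000 * Nat.card (rep.fixAll hBase) := Nat.le_mul_of_pos_right _ this
    _ ≤ _ := h

theorem inj_base (hB : HBound) : rep.Inj hBase := by
  have h := card_Hbar_aux
  rw [card_Hbar hB] at h
  have h1 : Nat.card (rep.fixAll hBase) ≤ 1 := by omega
  have h2 : rep.fixAll hBase = ⊥ :=
    Subgroup.card_eq_one.1 (le_antisymm h1 Nat.card_pos)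
  intro g hg
  have : g ∈ rep.fixAll hBase := hg
  rw [h2] at this
  exact this

/-- `Hbar` maps onto every group with the relations -/
theorem exists_hom (hB : HBound) {G : Type} [Group G] {x y z : G} (h : HRel x y z) :
    ∃ φ : Hbar →* G, φ (rep.f 0) = x ∧ φ (rep.f 2) = y ∧ φ (rep.f 4) = z := by
  have hp : HRel ((permRep.f 0, x) : Equiv.Perm (Fin 1408) × G) (permRep.f 2, y)
      (permRep.f 4, z) := by
    have a := hRel_perm
    constructor <;> refine Prod.ext ?_ ?_
    exacts [a.r1, h.r1, a.r2, h.r2, a.r3, h.r3, a.r4, h.r4, a.r5, h.r5, a.r6, h.r6, a.r7, h.r7,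
      a.r8, h.r8, a.r9, h.r9, a.r10, h.r10]
  obtain ⟨hfin, hle⟩ := hB _ _ _ _ hp
  set K := Subgroup.closure ({(permRep.f 0, x), (permRep.f 2, y), (permRep.f 4, z)} :
    Set (Equiv.Perm (Fin 1408) × G))
  have hmap : K.map (MonoidHom.fst _ _) = Hbar := by
    simp only [K, Hbar, MonoidHom.map_closure, Set.image_insert_eq, Set.image_singleton,
      MonoidHom.coe_fst]
  let π : K →* Hbar :=
    ((MonoidHom.fst _ _).comp K.subtype).codRestrict Hbar fun a => hmap ▸ ⟨a.1, a.2, rfl⟩
  have hsurj : Function.Surjective π := by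
    rintro ⟨g, hg⟩
    rw [← hmap] at hg
    obtain ⟨a, ha, rfl⟩ := hg
    exact ⟨⟨a, ha⟩, rfl⟩
  have hbij : Function.Bijective π :=
    (Function.Surjective.bijective_of_nat_card_le hsurj (hle.trans (card_Hbar hB).ge))
  let e := MulEquiv.ofBijective π hbij
  refine ⟨((MonoidHom.snd _ _).comp K.subtype).comp e.symm.toMonoidHom, ?_, ?_, ?_⟩
  all_goals
    simp only [MonoidHom.comp_apply, MulEquiv.coe_toMonoidHom, Subgroup.coe_subtype,
      MonoidHom.coe_snd]
  · rw [show e.symm (rep.f 0) = ⟨(permRep.f 0, x), Subgroup.subset_closure (by simp)⟩ from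
      e.symm_apply_eq.2 rfl]
  · rw [show e.symm (rep.f 2) = ⟨(permRep.f 2, y), Subgroup.subset_closure (by simp)⟩ from
      e.symm_apply_eq.2 rfl]
  · rw [show e.symm (rep.f 4) = ⟨(permRep.f 4, z), Subgroup.subset_closure (by simp)⟩ from
      e.symm_apply_eq.2 rfl]

end Cfsg.Agent.Lib.HN3
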