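import Cfsg.Agent.Lib.HN3.HNOrb
import Cfsg.Agent.Lib.HN3.HNItems
import Cfsg.Agent.Lib.HN3.HNChain1
import Cfsg.Agent.Lib.HN3.HNChain2
import Cfsg.Agent.Lib.HN3.HNChain3
import Cfsg.Agent.Lib.HN3.HNChain4
import Cfsg.Agent.Lib.HN3.HNChain5
import Cfsg.Agent.Lib.HN3.HNChain6
import Cfsg.Agent.Lib.HN3.HNChain7
import Cfsg.Agent.Lib.HN3.HNChain8

/-!
Generated: kernel checks.
-/

set_option maxRecDepth 100000
set_option Elab.async false

namespace Cfsg.Agent.Lib.HN3

theorem hnChain_all : ∀ j < 9, 0 < j → hPk.chainOK hBase (nth noOrb hnOrbs j).chain = true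
  | 1, _, _ => hnChain1
  | 2, _, _ => hnChain2
  | 3, _, _ => hnChain3
  | 4, _, _ => hnChain4
  | 5, _, _ => hnChain5
  | 6, _, _ => hnChain6
  | 7, _, _ => hnChain7
  | 8, _, _ => hnChain8
  | 0, _, h => absurd h (Nat.lt_irrefl 0)
  | n + 9, h, _ => absurd h (Nat.not_lt.2 (Nat.le_add_left 9 n))

theorem hnCards : hnOrbs.map (fun O => chainCard O.chain) = [177408000, 126000,80640,5040,1440,640,500,240,30720] := by decide +kernel

theorem hnOrbsOK : belowB (orbOK hnDeriv hnOrbs hnCount) 9 = true := by decide +kernel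

end Cfsg.Agent.Lib.HN3
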