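import Cfsg.Agent.Lib.HN3.HNCheck0
import Cfsg.Agent.Lib.HN3.HNCheck1
import Cfsg.Agent.Lib.HN3.HNCheck2
import Cfsg.Agent.Lib.HN3.HNCheck3
import Cfsg.Agent.Lib.HN3.HNCheck4
import Cfsg.Agent.Lib.HN3.HNCheck5
import Cfsg.Agent.Lib.HN3.HNOrbChk
import Cfsg.Agent.Lib.HN3.HNClass0
import Cfsg.Agent.Lib.HN3.HNClass1
import Cfsg.Agent.Lib.HN3.HNClass2
import Cfsg.Agent.Lib.HN3.HNClass3
import Cfsg.Agent.Lib.HN3.HNClass4
import Cfsg.Agent.Lib.HN3.HNClass5
import Cfsg.Agent.Lib.HN3.HNClass6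
import Cfsg.Agent.Lib.HN3.HNClass7
import Cfsg.Agent.Lib.HN3.HNClass8
import Mathlib
import Cfsg.Agent.Lib.HN3.Sound

/-!
The kernel checks of the derivation and of the classes, collected.
-/

namespace Cfsg.Agent.Lib.HN3

theorem hnStep_ok : ∀ q < hnCount, hnDeriv.stepOK q = true := by
  intro q hq
  have hq' : q < 722 := hq
  have k : ∀ (a m : ℕ), belowB (fun q => hnDeriv.stepOK (Nat.add a q)) m = true →
      a ≤ q → q < a + m → hnDeriv.stepOK q = true := by
    intro a m h h1 h2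
    have := belowB_iff.1 h (q - a) (by omega)
    rwa [show Nat.add a (q - a) = q by show a + (q - a) = q; omega] at this
  rcases Nat.lt_or_ge q 128 with h | h
  · exact k 0 128 hnSteps0 (by omega) (by omega)
  rcases Nat.lt_or_ge q 256 with h | h
  · exact k 128 128 hnSteps1 (by omega) (by omega)
  rcases Nat.lt_or_ge q 384 with h | h
  · exact k 256 128 hnSteps2 (by omega) (by omega)
  rcases Nat.lt_or_ge q 512 with h | h
  · exact k 384 128 hnSteps3 (by omega) (by omega)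
  rcases Nat.lt_or_ge q 640 with h | h
  · exact k 512 128 hnSteps4 (by omega) (by omega)
  · exact k 640 82 hnSteps5 (by omega) (by omega)

theorem hnClass_ok : ∀ i < 9, ∀ q < 1408, classOK hnDeriv hnOrbs hnRoots i q = true := by
  intro i hi
  interval_cases i
  exacts [belowB_iff.1 hnClass0, belowB_iff.1 hnClass1, belowB_iff.1 hnClass2,
    belowB_iff.1 hnClass3, belowB_iff.1 hnClass4, belowB_iff.1 hnClass5, belowB_iff.1 hnClass6,
    belowB_iff.1 hnClass7, belowB_iff.1 hnClass8]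

theorem hnRootInv_ok : ∀ i < 9, ∀ q < 1408, rootInv hnDeriv hnOrbs i q = true := by
  intro i hi
  interval_cases i
  exacts [belowB_iff.1 hnRootInv0, belowB_iff.1 hnRootInv1, belowB_iff.1 hnRootInv2,
    belowB_iff.1 hnRootInv3, belowB_iff.1 hnRootInv4, belowB_iff.1 hnRootInv5,
    belowB_iff.1 hnRootInv6, belowB_iff.1 hnRootInv7, belowB_iff.1 hnRootInv8]

/-- the sizes of the stabilisers -/
def hnOrders : List ℕ := [177408000, 126000, 80640, 5040, 1440, 640, 500, 240, 30720]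

theorem hnDeriv_eq : hnDeriv.pk = hPk ∧ hnDeriv.base = hBase ∧ hnDeriv.tokens = cTokens :=
  ⟨rfl, rfl, rfl⟩

end Cfsg.Agent.Lib.HN3
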