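import Cfsg.Agent.Lib.HN3.Kernel

/-!
A checker for derivations of coset equations `H w_i h t^d = H w_j g`, where `h` and `g` are words
in the generators of `H`.  An item with `d = 0`, `j = i` and empty `g` says that `h` stabilises
the coset of `w_i`.  Each item is justified by earlier items.
-/

namespace Cfsg.Agent.Lib.HN3

/-- an item: `i`, `h`, `d`, `j`, `g`, and the inverse of `h` for stabiliser items -/
structure Item where
  i : Nat
  h : List Nat
  d : Nat
  j : Nat
  g : List Nat
  hi : List Nat

/-- the default item -/
def noItem : Item := ⟨0, [], 0, 0, [], []⟩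

/-- the use of an item: its number, stabilisers `(number, inverted)`, and tokens -/
structure Use where
  k : Nat
  s : List (Nat × Bool)
  a : List Nat

/-- the reason for an item -/
inductive Just
  | gen
  | orb
  | rev (k : Nat)
  | conjx (k : Nat)
  | add (h : List Nat) (a b : Nat) (u v : Use)
  | ded (i : Nat) (h : List Nat) (d : Nat) (us vs : List Use)
  | loop (h : List Nat) (d : Nat) (us : List Use)
  | clash (i : Nat) (h : List Nat) (d : Nat) (u v : Use)
  | prod (s : List (Nat × Bool))

/-- data of a derivation -/
structure Deriv where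
  pk : Pk
  base : List Nat
  tokens : List Nat
  /-- for the orbit `j + 1`: its predecessor and the word before `t` -/
  par : List (Nat × List Nat)
  items : List (List Item)
  justs : List (List Just)

variable (D : Deriv)

/-- item number `q` -/
noncomputable def Deriv.item (q : Nat) : Item :=
  nth noItem (nth [] D.items (Nat.div q 32)) (Nat.mod q 32)

/-- reason number `q` -/
noncomputable def Deriv.just (q : Nat) : Just :=
  nth Just.gen (nth [] D.justs (Nat.div q 32)) (Nat.mod q 32)

/-- all letters of a word are tokens -/
noncomputable def Deriv.tokOK (a : List Nat) : Bool :=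
  forallB (fun x => memW [x] (List.rec (motive := fun _ => List (List Nat)) []
    (fun t _ ih => [t] :: ih) D.tokens)) a

/-- all stabilisers are earlier stabiliser items of orbit `i` -/
noncomputable def Deriv.stabsOK (q i : Nat) (s : List (Nat × Bool)) : Bool :=
  forallB (fun e => band (Nat.blt e.1 q)
    ((fun it => band (Nat.beq it.i i) (band (Nat.beq it.d 0) (band (Nat.beq it.j i)
      (eqLN it.g [])))) (D.item e.1))) s

/-- the product of stabilisers as a word -/
noncomputable def Deriv.stabW (s : List (Nat × Bool)) : List Nat :=
  List.rec (motive := fun _ => List Nat) []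
    (fun e _ ih => Bool.rec (motive := fun _ => List Nat) (D.item e.1).h (D.item e.1).hi e.2 ++ ih)
    s

/-- move from `(i, h)` along `t^d` by the item `u` -/
noncomputable def Deriv.useK (q : Nat) (u : Use) (d i : Nat) (h : List Nat)
    (k : Nat → List Nat → Bool) : Bool :=
  band (Nat.blt u.k q) ((fun it => band (Nat.beq it.i i) (band (Nat.beq it.d d)
    (band (D.tokOK u.a) (band (D.stabsOK q i u.s)
      (band (D.pk.same D.base h (D.stabW u.s ++ (it.h ++ u.a)))
        (k it.j (it.g ++ u.a))))))) (D.item u.k))

/-- the word of `zz` for the exponent `d` of `t` -/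
noncomputable def relZ (d : Nat) : List Nat :=
  nth [] [[], [5], [149], [329], [5]] d

/-- the inverse word of `relZ d` -/
noncomputable def relZi (d : Nat) : List Nat :=
  nth [] [[], [5], [329], [149], [5]] d

/-- follow `(zz t^d)` once for each use -/
noncomputable def Deriv.fwdK (q d : Nat) (us : List Use) :
    Nat → List Nat → (Nat → List Nat → Bool) → Bool :=
  List.rec (motive := fun _ => Nat → List Nat → (Nat → List Nat → Bool) → Bool)
    (fun i h k => k i h)
    (fun u _ ih i h k => D.useK q u d i (h ++ relZ d) fun j g => ih j g k) us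

/-- follow `(t^-d zz^-1)` once for each use -/
noncomputable def Deriv.bwdK (q d : Nat) (us : List Use) :
    Nat → List Nat → (Nat → List Nat → Bool) → Bool :=
  List.rec (motive := fun _ => Nat → List Nat → (Nat → List Nat → Bool) → Bool)
    (fun i h k => k i h)
    (fun u _ ih i h k => D.useK q u (Nat.sub 5 d) i h fun j g => ih j (g ++ relZi d) k) us

/-- the item `it` ends in `(j, g)` -/
noncomputable def Deriv.endsAt (it : Item) (j : Nat) (g : List Nat) : Bool :=
  band (Nat.beq it.j j) (D.pk.same D.base it.g g)

/-- the item `it` starts in `(i, h)` -/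
noncomputable def Deriv.startsAt (it : Item) (i : Nat) (h : List Nat) : Bool :=
  band (Nat.beq it.i i) (D.pk.same D.base it.h h)

/-- a stabiliser item whose inverse is right -/
noncomputable def Deriv.isStab (it : Item) : Bool :=
  band (Nat.beq it.d 0) (band (Nat.beq it.j it.i) (band (eqLN it.g [])
    (D.pk.same D.base (it.h ++ it.hi) [])))

/-- the item `q` follows from earlier ones -/
noncomputable def Deriv.stepOK (q : Nat) : Bool :=
  (fun it => Just.rec (motive := fun _ => Bool)
    (band (D.isStab it) (Nat.beq it.i 0))
    (band (Nat.ble 1 it.j) (band (Nat.beq it.d 1) (band (eqLN it.g [])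
      ((fun p : Nat × List Nat => band (Nat.blt p.1 it.j) (band (Nat.beq it.i p.1) (eqLN it.h p.2)))
        (nth (0, []) D.par (Nat.sub it.j 1))))))
    (fun k => band (Nat.blt k q) ((fun o => band (Nat.blt o.d 5) (band (Nat.ble 1 o.d)
      (band (Nat.beq it.d (Nat.sub 5 o.d))
        (band (D.startsAt it o.j o.g) (D.endsAt it o.i o.h))))) (D.item k)))
    (fun k => band (Nat.blt k q) ((fun o => band (Nat.ble 1 it.d) (band (Nat.beq it.d (Nat.mod (Nat.mul 3 o.d) 5))
      (band (D.startsAt it o.i (o.h ++ [1])) (D.endsAt it o.j (o.g ++ [1]))))) (D.item k)))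
    (fun h a b u v => band (band (Nat.ble 1 it.d) (Nat.beq it.d (Nat.mod (Nat.add a b) 5)))
      (band (D.pk.same D.base it.h h)
        (D.useK q u a it.i h fun i' h' => D.useK q v b i' h' fun j g => D.endsAt it j g)))
    (fun i h d us vs => band (Nat.beq it.d d) (band (Nat.beq (Nat.add us.length vs.length) 2)
      (band (Nat.blt d 5) (band (Nat.ble 1 d)
        (band (D.fwdK q d us i h fun fi fh => D.startsAt it fi (fh ++ relZ d))
          (D.bwdK q d vs i h fun bi bh => D.endsAt it bi bh))))))
    (fun h d us => band (D.isStab it) (band (Nat.beq us.length 3) (band (Nat.blt d 5)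
      (band (Nat.ble 1 d) (D.fwdK q d us it.i h fun j g =>
        band (Nat.beq j it.i) (D.pk.same D.base (it.h ++ h) g))))))
    (fun i h d u v => band (D.isStab it) (D.useK q u d i h fun j g => D.useK q v d i h fun j' g' =>
      band (Nat.beq j it.i) (band (Nat.beq j' it.i) (D.pk.same D.base (it.h ++ g') g))))
    (fun s => band (D.isStab it) (band (D.stabsOK q it.i s) (D.pk.same D.base it.h (D.stabW s))))
    (D.just q)) (D.item q)

end Cfsg.Agent.Lib.HN3
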