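import Mathlib
import Cfsg.Agent.Lib.HN3.Base
import Cfsg.Agent.Lib.HN3.DerivK

/-!
Soundness of the derivation checker: the items are equations between right cosets of the image
of `Hbar`.
-/

namespace Cfsg.Agent.Lib.HN3

variable {G : Type} [Group G]

/-- a group with the relations: a map from `Hbar` and one more element `t` -/
structure Ctx (G : Type) [Group G] where
  φ : Hbar →* G
  t : G
  t5 : t ^ 5 = 1
  ty : t * φ (rep.f 2) = φ (rep.f 2) * t
  tx : t * φ (rep.f 0) = φ (rep.f 0) * t ^ 3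
  zt : (φ (rep.f 4) * t) ^ 3 = 1
  inj : rep.Inj hBase

namespace Ctx

variable (C : Ctx G)

/-- the value of a word -/
noncomputable def hv (u : List ℕ) : G := C.φ (rep.ev u)

/-- the same right coset -/
def Eqv (a b : G) : Prop := a * b⁻¹ ∈ C.φ.range

theorem hv_append (u v : List ℕ) : C.hv (u ++ v) = C.hv u * C.hv v := by
  simp [hv, rep.ev_append]

theorem hv_nil : C.hv [] = 1 := by simp [hv, rep.ev_nil]

theorem hv_same {u v : List ℕ} (h : hPk.same hBase u v = true) : C.hv u = C.hv v := by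
  rw [hv, hv, rep.eq_of_same hBase_lt C.inj h]

variable {C}

theorem Eqv.refl (a : G) : C.Eqv a a := by simp [Eqv, one_mem]

theorem Eqv.symm {a b : G} (h : C.Eqv a b) : C.Eqv b a := by
  have := inv_mem h
  simpa [Eqv] using this

theorem Eqv.trans {a b c : G} (h : C.Eqv a b) (h' : C.Eqv b c) : C.Eqv a c := by
  have := mul_mem h h'
  simpa [Eqv, mul_assoc] using this

theorem Eqv.mul_right {a b : G} (h : C.Eqv a b) (c : G) : C.Eqv (a * c) (b * c) := by
  simpa [Eqv, mul_assoc] using h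

theorem eqv_of_mem {a : G} (h : a ∈ C.φ.range) : C.Eqv a 1 := by simpa [Eqv] using h

variable (C)

theorem t_pow_mul (a b : ℕ) : C.t ^ a * C.t ^ b = C.t ^ ((a + b) % 5) := by
  rw [← pow_add, ← Nat.mod_add_div (a + b) 5, pow_add, pow_mul, C.t5, one_pow, mul_one,
    Nat.mod_add_div]

theorem t_pow_sub {d : ℕ} (hd : d ≤ 5) : C.t ^ (5 - d) = (C.t ^ d)⁻¹ := by
  refine eq_inv_of_mul_eq_one_left ?_
  rw [← pow_add, Nat.sub_add_cancel hd, C.t5]

theorem pow_x (d : ℕ) : C.t ^ d * C.φ (rep.f 0) = C.φ (rep.f 0) * C.t ^ (3 * d % 5) := by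
  have : ∀ e, C.t ^ e * C.φ (rep.f 0) = C.φ (rep.f 0) * C.t ^ (3 * e) := by
    intro e
    induction e with
    | zero => simp
    | succ e ih =>
      rw [pow_succ, mul_assoc, C.tx, ← mul_assoc, ih, mul_assoc, ← pow_add]; ring_nf
  rw [this]
  congr 1
  conv_lhs => rw [← Nat.mod_add_div (3 * d) 5, pow_add, pow_mul, C.t5, one_pow, mul_one]

theorem hv_one : C.hv [1] = C.φ (rep.f 0) := by
  rw [hv, Rep.ev, show decode [1] = [0] from by decide +kernel]; simp

theorem hv_two : C.hv [2] = (C.φ (rep.f 0))⁻¹ := by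
  refine eq_inv_of_mul_eq_one_left ?_
  rw [← hv_one, ← hv_append, ← hv_nil C]
  exact C.hv_same (by decide +kernel)

theorem commute_y : Commute C.t (C.hv [3]) := by
  rw [hv, Rep.ev, show decode [3] = [2] from by decide +kernel]
  simp only [List.map_cons, List.map_nil, List.prod_cons, List.prod_nil, mul_one]
  exact C.ty

theorem commute_c : Commute C.t (C.hv [2] * C.hv [3] * C.hv [1]) := by
  have h3 : Commute (C.t ^ 3) (C.hv [2] * C.hv [3] * C.hv [1]) := by
    show C.t ^ 3 * _ = _ * C.t ^ 3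
    have hy : C.t * C.hv [3] = C.hv [3] * C.t := C.commute_y
    rw [hv_two, hv_one]
    have e : C.t ^ 3 * (C.φ (rep.f 0))⁻¹ = (C.φ (rep.f 0))⁻¹ * C.t := by
      rw [mul_inv_eq_iff_eq_mul, mul_assoc, C.tx, inv_mul_cancel_left]
    calc C.t ^ 3 * ((C.φ (rep.f 0))⁻¹ * C.hv [3] * C.φ (rep.f 0))
        = (C.t ^ 3 * (C.φ (rep.f 0))⁻¹) * C.hv [3] * C.φ (rep.f 0) := by group
      _ = (C.φ (rep.f 0))⁻¹ * (C.t * C.hv [3]) * C.φ (rep.f 0) := by rw [e]; group
      _ = (C.φ (rep.f 0))⁻¹ * C.hv [3] * (C.t * C.φ (rep.f 0)) := by rw [hy]; group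
      _ = (C.φ (rep.f 0))⁻¹ * C.hv [3] * C.φ (rep.f 0) * C.t ^ 3 := by rw [C.tx]; group
  have h6 : (C.t ^ 3) ^ 2 = C.t := by
    rw [← pow_mul]
    show C.t ^ (5 + 1) = C.t
    rw [pow_succ, C.t5, one_mul]
  rw [← h6]
  exact h3.pow_left 2

theorem token_commute : ∀ x ∈ cTokens, Commute C.t (C.hv [x]) := by
  intro x hx
  have hy' : C.hv [cTokens.getD 1 0] = (C.hv [cTokens.getD 0 0])⁻¹ := by
    refine eq_inv_of_mul_eq_one_left ?_
    rw [← hv_append, ← hv_nil C]
    exact C.hv_same (by decide +kernel)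
  have hc : C.hv [cTokens.getD 2 0] = C.hv [2] * C.hv [3] * C.hv [1] := by
    rw [← hv_append, ← hv_append]
    exact C.hv_same (by decide +kernel)
  have hc' : C.hv [cTokens.getD 3 0] = (C.hv [cTokens.getD 2 0])⁻¹ := by
    refine eq_inv_of_mul_eq_one_left ?_
    rw [← hv_append, ← hv_nil C]
    exact C.hv_same (by decide +kernel)
  have h0 : C.hv [cTokens.getD 0 0] = C.hv [3] := rfl
  obtain ⟨i, hi, rfl⟩ := List.getElem_of_mem hx
  rw [← List.getD_eq_getElem _ 0 hi]
  have hlen : cTokens.length = 4 := rfl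
  rw [hlen] at hi
  interval_cases i
  · rw [h0]; exact C.commute_y
  · rw [hy', h0]; exact C.commute_y.inv_right
  · rw [hc]; exact C.commute_c
  · rw [hc', hc]; exact C.commute_c.inv_right

theorem list_commute : ∀ a : List ℕ, (∀ x ∈ a, x ∈ cTokens) → Commute C.t (C.hv a)
  | [], _ => by rw [hv_nil]; exact Commute.one_right _
  | x :: a, h => by
    rw [show x :: a = [x] ++ a from rfl, hv_append]
    exact (C.token_commute x (h x (by simp))).mul_right (list_commute a fun y hy => h y (by simp [hy]))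

theorem x4 : C.φ (rep.f 0) * C.φ (rep.f 0) = C.hv [2, 2] := by
  rw [← hv_one, ← hv_append]
  exact C.hv_same (by decide +kernel)

theorem rel_one : (C.hv (relZ 1) * C.t ^ 1) ^ 3 = 1 := by
  rw [pow_one, hv, Rep.ev, show decode (relZ 1) = [4] from by decide +kernel]
  simpa using C.zt

theorem rel_three : (C.hv (relZ 3) * C.t ^ 3) ^ 3 = 1 := by
  have e : C.hv (relZ 3) * C.t ^ 3 = (C.φ (rep.f 0))⁻¹ * (C.hv (relZ 1) * C.t ^ 1) * C.φ (rep.f 0) := by
    have h : C.hv (relZ 3) = (C.φ (rep.f 0))⁻¹ * C.hv (relZ 1) * C.φ (rep.f 0) := by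
      rw [← hv_two, ← hv_one, ← hv_append, ← hv_append]
      exact C.hv_same (by decide +kernel)
    rw [h, pow_one, mul_assoc (C.φ (rep.f 0))⁻¹ (_ * C.t), mul_assoc _ C.t, C.tx]
    group
  rw [e]
  calc ((C.φ (rep.f 0))⁻¹ * (C.hv (relZ 1) * C.t ^ 1) * C.φ (rep.f 0)) ^ 3
      = (C.φ (rep.f 0))⁻¹ * (C.hv (relZ 1) * C.t ^ 1) ^ 3 * C.φ (rep.f 0) := by
        simp [pow_succ, mul_assoc]
    _ = 1 := by rw [C.rel_one]; simp

theorem rel_flip {d : ℕ} (hd : d ≤ 5) (h : (C.hv (relZ d) * C.t ^ d) ^ 3 = 1)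
    (he : hPk.same hBase (relZ (5 - d) ++ relZ d) [] = true) :
    (C.hv (relZ (5 - d)) * C.t ^ (5 - d)) ^ 3 = 1 := by
  have hz : C.hv (relZ (5 - d)) = (C.hv (relZ d))⁻¹ := by
    refine eq_inv_of_mul_eq_one_left ?_
    rw [← hv_append, C.hv_same he, hv_nil]
  have e : C.hv (relZ (5 - d)) * C.t ^ (5 - d) =
      (C.hv (relZ d))⁻¹ * (C.hv (relZ d) * C.t ^ d)⁻¹ * C.hv (relZ d) := by
    rw [hz, C.t_pow_sub hd]; group
  rw [e]
  calc ((C.hv (relZ d))⁻¹ * (C.hv (relZ d) * C.t ^ d)⁻¹ * C.hv (relZ d)) ^ 3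
      = (C.hv (relZ d))⁻¹ * ((C.hv (relZ d) * C.t ^ d) ^ 3)⁻¹ * C.hv (relZ d) := by
        simp [pow_succ, mul_assoc]
    _ = 1 := by rw [h]; simp

theorem rel {d : ℕ} (h1 : 1 ≤ d) (h2 : d < 5) : (C.hv (relZ d) * C.t ^ d) ^ 3 = 1 := by
  interval_cases d
  · exact C.rel_one
  · exact C.rel_flip (d := 3) (by decide) C.rel_three (by decide +kernel)
  · exact C.rel_three
  · exact C.rel_flip (d := 1) (by decide) C.rel_one (by decide +kernel)

theorem hv_relZi {d : ℕ} (h1 : 1 ≤ d) (h2 : d < 5) : C.hv (relZi d) = (C.hv (relZ d))⁻¹ := by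
  refine eq_inv_of_mul_eq_one_left ?_
  rw [← hv_append, ← hv_nil C]
  refine C.hv_same ?_
  interval_cases d <;> decide +kernel

end Ctx

namespace Deriv

variable (D : Deriv)

/-- the orbit representatives -/
noncomputable def W (C : Ctx G) : ℕ → G
  | 0 => 1
  | j + 1 => if h : (nth (0, []) D.par j).1 < j + 1 then
      W C (nth (0, []) D.par j).1 * C.hv (nth (0, []) D.par j).2 * C.t
    else 1
decreasing_by exact h

/-- the meaning of an item -/
def Holds (C : Ctx G) (it : Item) : Prop :=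
  C.Eqv (D.W C it.i * C.hv it.h * C.t ^ it.d) (D.W C it.j * C.hv it.g)

variable {D} {C : Ctx G} (hpk : D.pk = hPk) (hbase : D.base = hBase) (htok : D.tokens = cTokens)
include hpk hbase htok

theorem same_hv {u v : List ℕ} (h : D.pk.same D.base u v = true) : C.hv u = C.hv v := by
  rw [hpk, hbase] at h
  exact C.hv_same h

theorem tok_mem : ∀ (l : List ℕ) {x : ℕ},
    memW [x] (List.rec (motive := fun _ => List (List ℕ)) [] (fun t _ ih => [t] :: ih) l) = true →
      x ∈ l
  | [], x, h => by simp [memW] at h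
  | t :: l, x, h => by
    rw [memW_iff] at h
    rcases List.mem_cons.1 h with h | h
    · simp [(List.cons.inj h).1]
    · exact List.mem_cons_of_mem _ (tok_mem l (memW_iff.2 h))

theorem tokOK_commute {a : List ℕ} (h : D.tokOK a = true) : Commute C.t (C.hv a) := by
  refine C.list_commute a fun x hx => ?_
  have := tok_mem hpk hbase htok _ (forallB_iff.1 h x hx)
  rwa [htok] at this

theorem stabW_eqv {q i : ℕ} (hq : ∀ k < q, D.Holds C (D.item k))
    (hinv : ∀ k < q, (D.item k).d = 0 → C.hv (D.item k).hi = (C.hv (D.item k).h)⁻¹) :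
    ∀ s : List (ℕ × Bool), D.stabsOK q i s = true →
      C.Eqv (D.W C i * C.hv (D.stabW s)) (D.W C i)
  | [], _ => by
    show C.Eqv (D.W C i * C.hv []) _
    rw [C.hv_nil, mul_one]; exact Ctx.Eqv.refl _
  | e :: s, h => by
    have h' : band (band (Nat.blt e.1 q) (band (Nat.beq (D.item e.1).i i)
        (band (Nat.beq (D.item e.1).d 0) (band (Nat.beq (D.item e.1).j i)
          (eqLN (D.item e.1).g []))))) (D.stabsOK q i s) = true := h
    simp only [band_eq, Bool.and_eq_true, beqN_iff, eqLN_iff] at h'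
    obtain ⟨⟨hk, hi, hd, hj, hg⟩, hs⟩ := h'
    have hk' : e.1 < q := Nat.le_of_ble_eq_true hk
    have hh := hq _ hk'
    rw [Holds, hi, hd, hj, hg, pow_zero, mul_one, C.hv_nil, mul_one] at hh
    have ih := stabW_eqv hq hinv s hs
    obtain ⟨k, b⟩ := e
    cases b
    · show C.Eqv (D.W C i * C.hv ((D.item k).h ++ D.stabW s)) _
      rw [C.hv_append, ← mul_assoc]
      exact (hh.mul_right _).trans ih
    · show C.Eqv (D.W C i * C.hv ((D.item k).hi ++ D.stabW s)) _
      rw [C.hv_append, hinv k hk' hd, ← mul_assoc]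
      have h2 := (hh.mul_right (C.hv (D.item k).h)⁻¹).symm
      rw [mul_inv_cancel_right] at h2
      exact (h2.mul_right _).trans ih

theorem useK_sound {q d i : ℕ} {h : List ℕ} {u : Use} {k : ℕ → List ℕ → Bool}
    (hq : ∀ k < q, D.Holds C (D.item k))
    (hinv : ∀ k < q, (D.item k).d = 0 → C.hv (D.item k).hi = (C.hv (D.item k).h)⁻¹)
    (hu : D.useK q u d i h k = true) :
    ∃ j g, k j g = true ∧ C.Eqv (D.W C i * C.hv h * C.t ^ d) (D.W C j * C.hv g) := by
  have h' : band (Nat.blt u.k q) (band (Nat.beq (D.item u.k).i i)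
      (band (Nat.beq (D.item u.k).d d) (band (D.tokOK u.a) (band (D.stabsOK q i u.s)
        (band (D.pk.same D.base h (D.stabW u.s ++ ((D.item u.k).h ++ u.a)))
          (k (D.item u.k).j ((D.item u.k).g ++ u.a))))))) = true := hu
  simp only [band_eq, Bool.and_eq_true, beqN_iff] at h'
  obtain ⟨hk, hi, hd, ha, hs, he, hk'⟩ := h'
  refine ⟨_, _, hk', ?_⟩
  have hh := hq _ (Nat.le_of_ble_eq_true hk)
  rw [Holds, hi, hd] at hh
  have hs' := stabW_eqv hpk hbase htok hq hinv u.s hs
  have hc : Commute (C.t ^ d) (C.hv u.a) :=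
    (tokOK_commute hpk hbase htok ha).pow_left d
  rw [same_hv hpk hbase htok he, C.hv_append, C.hv_append, C.hv_append]
  have h1 : C.Eqv (D.W C i * (C.hv (D.stabW u.s) * (C.hv (D.item u.k).h * C.hv u.a)) * C.t ^ d)
      (D.W C i * C.hv (D.item u.k).h * C.t ^ d * C.hv u.a) := by
    have := hs'.mul_right (C.hv (D.item u.k).h * C.hv u.a * C.t ^ d)
    convert this using 1
    · group
    · rw [mul_assoc (D.W C i * _) (C.t ^ d), hc.eq]; group
  refine h1.trans ?_
  have := hh.mul_right (C.hv u.a)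
  convert this using 1
  group

theorem fwdK_sound {q d : ℕ}
    (hq : ∀ k < q, D.Holds C (D.item k))
    (hinv : ∀ k < q, (D.item k).d = 0 → C.hv (D.item k).hi = (C.hv (D.item k).h)⁻¹) :
    ∀ (us : List Use) (i : ℕ) (h : List ℕ) (k : ℕ → List ℕ → Bool), D.fwdK q d us i h k = true →
      ∃ j g, k j g = true ∧
        C.Eqv (D.W C i * C.hv h * (C.hv (relZ d) * C.t ^ d) ^ us.length) (D.W C j * C.hv g)
  | [], i, h, k, hk => ⟨i, h, hk, by simp [Ctx.Eqv.refl]⟩
  | u :: us, i, h, k, hk => by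
    obtain ⟨j, g, hjg, e⟩ := useK_sound hpk hbase htok hq hinv (h := h ++ relZ d)
      (k := fun j g => D.fwdK q d us j g k) hk
    obtain ⟨j', g', hk', e'⟩ := fwdK_sound hq hinv us j g k hjg
    refine ⟨j', g', hk', ?_⟩
    have := (e.mul_right ((C.hv (relZ d) * C.t ^ d) ^ us.length)).trans e'
    convert this using 1
    rw [C.hv_append, List.length_cons, pow_succ']; simp only [mul_assoc]

theorem bwdK_sound {q d : ℕ} (h1 : 1 ≤ d) (h2 : d < 5)
    (hq : ∀ k < q, D.Holds C (D.item k))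
    (hinv : ∀ k < q, (D.item k).d = 0 → C.hv (D.item k).hi = (C.hv (D.item k).h)⁻¹) :
    ∀ (us : List Use) (i : ℕ) (h : List ℕ) (k : ℕ → List ℕ → Bool), D.bwdK q d us i h k = true →
      ∃ j g, k j g = true ∧
        C.Eqv (D.W C i * C.hv h * ((C.hv (relZ d) * C.t ^ d)⁻¹) ^ us.length) (D.W C j * C.hv g)
  | [], i, h, k, hk => ⟨i, h, hk, by simp [Ctx.Eqv.refl]⟩
  | u :: us, i, h, k, hk => by
    obtain ⟨j, g, hjg, e⟩ := useK_sound hpk hbase htok hq hinv (d := Nat.sub 5 d)
      (k := fun j g => D.bwdK q d us j (g ++ relZi d) k) hk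
    obtain ⟨j', g', hk', e'⟩ := bwdK_sound h1 h2 hq hinv us j _ k hjg
    refine ⟨j', g', hk', ?_⟩
    have e1 := e.mul_right (C.hv (relZ d))⁻¹
    rw [show Nat.sub 5 d = 5 - d from rfl, C.t_pow_sub h2.le] at e1
    rw [C.hv_append, C.hv_relZi h1 h2] at e'
    have := (e1.mul_right (((C.hv (relZ d) * C.t ^ d)⁻¹) ^ us.length)).trans
      (by simpa [mul_assoc] using e')
    convert this using 1
    rw [List.length_cons, pow_succ', mul_inv_rev]; simp only [mul_assoc]

theorem stab_spec {it : Item} (h : D.isStab it = true) :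
    it.d = 0 ∧ it.j = it.i ∧ it.g = [] ∧ C.hv it.hi = (C.hv it.h)⁻¹ := by
  have h' : band (Nat.beq it.d 0) (band (Nat.beq it.j it.i) (band (eqLN it.g [])
      (D.pk.same D.base (it.h ++ it.hi) []))) = true := h
  simp only [band_eq, Bool.and_eq_true, beqN_iff, eqLN_iff] at h'
  refine ⟨h'.1, h'.2.1, h'.2.2.1, eq_inv_of_mul_eq_one_right ?_⟩
  rw [← C.hv_append, same_hv hpk hbase htok h'.2.2.2, C.hv_nil]

theorem startsAt_hv {it : Item} {i : ℕ} {h : List ℕ} (e : D.startsAt it i h = true) :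
    it.i = i ∧ C.hv it.h = C.hv h := by
  have h' : band (Nat.beq it.i i) (D.pk.same D.base it.h h) = true := e
  simp only [band_eq, Bool.and_eq_true, beqN_iff] at h'
  exact ⟨h'.1, same_hv hpk hbase htok h'.2⟩

theorem endsAt_hv {it : Item} {j : ℕ} {g : List ℕ} (e : D.endsAt it j g = true) :
    it.j = j ∧ C.hv it.g = C.hv g := by
  have h' : band (Nat.beq it.j j) (D.pk.same D.base it.g g) = true := e
  simp only [band_eq, Bool.and_eq_true, beqN_iff] at h'
  exact ⟨h'.1, same_hv hpk hbase htok h'.2⟩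

/-- every item of a checked derivation holds -/
theorem holds_all {N : ℕ} (hN : ∀ q < N, D.stepOK q = true) : ∀ q < N,
    D.Holds C (D.item q) ∧
      ((D.item q).d = 0 → C.hv (D.item q).hi = (C.hv (D.item q).h)⁻¹) := by
  intro q
  induction q using Nat.strongRecOn with
  | _ q IH =>
    intro hqN
    have hq : ∀ k < q, D.Holds C (D.item k) := fun k hk => (IH k hk (hk.trans hqN)).1
    have hinv : ∀ k < q, (D.item k).d = 0 → C.hv (D.item k).hi = (C.hv (D.item k).h)⁻¹ :=
      fun k hk => (IH k hk (hk.trans hqN)).2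
    have hs := hN q hqN
    unfold Deriv.stepOK at hs
    generalize D.item q = it at hs ⊢
    cases hj : D.just q with
    | gen =>
      rw [hj] at hs
      simp only [band_eq, Bool.and_eq_true, beqN_iff] at hs
      obtain ⟨hd, hji, hg, hi⟩ := stab_spec (C := C) hpk hbase htok hs.1
      refine ⟨?_, fun _ => hi⟩
      rw [Holds, hd, hji, hg, hs.2, pow_zero, mul_one, C.hv_nil, mul_one]
      simp only [W, one_mul]
      exact Ctx.eqv_of_mem ⟨_, rfl⟩
    | orb =>
      rw [hj] at hs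
      simp only [band_eq, Bool.and_eq_true, beqN_iff, eqLN_iff] at hs
      obtain ⟨h1, hd, hg, hp, hi, hh⟩ := hs
      refine ⟨?_, fun h0 => by omega⟩
      obtain ⟨j', hj'⟩ := Nat.exists_eq_succ_of_ne_zero
        (Nat.pos_iff_ne_zero.1 (Nat.le_of_ble_eq_true h1))
      rw [hj'] at hp hi hh
      rw [Holds, hd, hg, hj', hi, hh, pow_one, C.hv_nil, mul_one]
      simp only [Nat.succ_eq_add_one, Nat.sub_eq, Nat.add_sub_cancel] at hp hi hh ⊢
      have hp' : (nth (0, []) D.par j').1 < j' + 1 := Nat.le_of_ble_eq_true hp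
      conv => arg 3; rw [W, dif_pos hp']
      exact Ctx.Eqv.refl _
    | rev k =>
      rw [hj] at hs
      simp only [band_eq, Bool.and_eq_true, beqN_iff] at hs
      obtain ⟨hk, h5, h1, hd, hst, hen⟩ := hs
      obtain ⟨e1, e2⟩ := startsAt_hv (C := C) hpk hbase htok hst
      obtain ⟨e3, e4⟩ := endsAt_hv (C := C) hpk hbase htok hen
      have hd5 : (D.item k).d < 5 := Nat.le_of_ble_eq_true h5
      have hd1 : 1 ≤ (D.item k).d := Nat.le_of_ble_eq_true h1
      refine ⟨?_, fun h0 => ?_⟩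
      · have hh := hq k (Nat.le_of_ble_eq_true hk)
        rw [Holds] at hh ⊢
        rw [hd, e1, e2, e3, e4, show Nat.sub 5 (D.item k).d = 5 - (D.item k).d from rfl,
          C.t_pow_sub hd5.le]
        have := hh.symm.mul_right (C.t ^ (D.item k).d)⁻¹
        rwa [mul_inv_cancel_right] at this
      · rw [hd] at h0
        have : 5 - (D.item k).d = 0 := h0
        omega
    | conjx k =>
      rw [hj] at hs
      simp only [band_eq, Bool.and_eq_true, beqN_iff] at hs
      obtain ⟨hk, hpos, hd, hst, hen⟩ := hs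
      rw [show Nat.mod (Nat.mul 3 (D.item k).d) 5 = 3 * (D.item k).d % 5 from rfl] at hd
      obtain ⟨e1, e2⟩ := startsAt_hv (C := C) hpk hbase htok hst
      obtain ⟨e3, e4⟩ := endsAt_hv (C := C) hpk hbase htok hen
      have hk' := Nat.le_of_ble_eq_true hk
      refine ⟨?_, fun h0 => ?_⟩
      · have hh := hq k hk'
        rw [Holds] at hh ⊢
        rw [hd, e1, e2, e3, e4, C.hv_append, C.hv_append, C.hv_one]
        have := hh.mul_right (C.φ (rep.f 0))
        rw [mul_assoc _ _ (C.φ (rep.f 0)), C.pow_x] at this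
        simpa [mul_assoc] using this
      · have : 1 ≤ it.d := Nat.le_of_ble_eq_true hpos
        omega
    | add h a b u v =>
      rw [hj] at hs
      simp only [band_eq, Bool.and_eq_true, beqN_iff] at hs
      obtain ⟨⟨hpos, hd⟩, he, hu⟩ := hs
      obtain ⟨i', h', hv', e1⟩ := useK_sound hpk hbase htok hq hinv hu
      obtain ⟨j, g, hend, e2⟩ := useK_sound hpk hbase htok hq hinv hv'
      obtain ⟨e3, e4⟩ := endsAt_hv (C := C) hpk hbase htok hend
      refine ⟨?_, fun h0 => ?_⟩
      · rw [Holds, same_hv hpk hbase htok he, e3, e4, hd]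
        have := (e1.mul_right (C.t ^ b)).trans e2
        rw [mul_assoc _ (C.t ^ a), C.t_pow_mul] at this
        exact this
      · have : 1 ≤ it.d := Nat.le_of_ble_eq_true hpos
        omega
    | ded i h d us vs =>
      rw [hj] at hs
      simp only [band_eq, Bool.and_eq_true, beqN_iff] at hs
      obtain ⟨hd, hlen, h5, h1, hf, hb⟩ := hs
      have h5' : d < 5 := Nat.le_of_ble_eq_true h5
      have h1' : 1 ≤ d := Nat.le_of_ble_eq_true h1
      obtain ⟨fi, fh, hst, ef⟩ := fwdK_sound hpk hbase htok hq hinv us i h _ hf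
      obtain ⟨bi, bh, hen, eb⟩ := bwdK_sound hpk hbase htok h1' h5' hq hinv vs i h _ hb
      obtain ⟨e1, e2⟩ := startsAt_hv (C := C) hpk hbase htok hst
      obtain ⟨e3, e4⟩ := endsAt_hv (C := C) hpk hbase htok hen
      refine ⟨?_, fun h0 => by omega⟩
      rw [Holds, hd, e1, e2, e3, e4, C.hv_append]
      have h3 : (C.hv (relZ d) * C.t ^ d) ^ us.length * (C.hv (relZ d) * C.t ^ d) =
          ((C.hv (relZ d) * C.t ^ d)⁻¹) ^ vs.length := by
        rw [inv_pow, eq_inv_iff_mul_eq_one, ← pow_succ, ← pow_add]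
        rw [show us.length + 1 + vs.length = 3 from by
          have : us.length + vs.length = 2 := hlen
          omega]
        exact C.rel h1' h5'
      have := (ef.mul_right (C.hv (relZ d) * C.t ^ d)).symm
      rw [mul_assoc _ (_ ^ _), h3] at this
      convert this.trans eb using 1
      group
    | loop h d us =>
      rw [hj] at hs
      simp only [band_eq, Bool.and_eq_true, beqN_iff] at hs
      obtain ⟨hst, hlen, h5, h1, hf⟩ := hs
      obtain ⟨hd, hji, hg, hi⟩ := stab_spec (C := C) hpk hbase htok hst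
      obtain ⟨j, g, hk, ef⟩ := fwdK_sound hpk hbase htok hq hinv us it.i h _ hf
      simp only [band_eq, Bool.and_eq_true, beqN_iff] at hk
      refine ⟨?_, fun _ => hi⟩
      rw [Holds, hd, hji, hg, pow_zero, mul_one, C.hv_nil, mul_one]
      rw [hlen, C.rel (Nat.le_of_ble_eq_true h1) (Nat.le_of_ble_eq_true h5), mul_one, hk.1,
        ← same_hv hpk hbase htok hk.2, C.hv_append] at ef
      have := (ef.mul_right (C.hv h)⁻¹).symm
      simpa [mul_assoc] using this
    | clash i h d u v =>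
      rw [hj] at hs
      simp only [band_eq, Bool.and_eq_true, beqN_iff] at hs
      obtain ⟨hst, hu⟩ := hs
      obtain ⟨hd, hji, hg, hi⟩ := stab_spec (C := C) hpk hbase htok hst
      obtain ⟨j, g, hv', e1⟩ := useK_sound hpk hbase htok hq hinv hu
      obtain ⟨j', g', hk, e2⟩ := useK_sound hpk hbase htok hq hinv hv'
      simp only [band_eq, Bool.and_eq_true, beqN_iff] at hk
      refine ⟨?_, fun _ => hi⟩
      rw [Holds, hd, hji, hg, pow_zero, mul_one, C.hv_nil, mul_one]
      have e := e1.symm.trans e2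
      rw [hk.1, hk.2.1, ← same_hv hpk hbase htok hk.2.2, C.hv_append] at e
      have := e.mul_right (C.hv g')⁻¹
      simpa [mul_assoc] using this
    | prod s =>
      rw [hj] at hs
      simp only [band_eq, Bool.and_eq_true] at hs
      obtain ⟨hd, hji, hg, hi⟩ := stab_spec (C := C) hpk hbase htok hs.1
      refine ⟨?_, fun _ => hi⟩
      rw [Holds, hd, hji, hg, pow_zero, mul_one, C.hv_nil, mul_one,
        same_hv hpk hbase htok hs.2.2]
      exact stabW_eqv hpk hbase htok hq hinv s hs.2.1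

end Deriv

end Cfsg.Agent.Lib.HN3
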