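import Cfsg.Agent.Lib.HN3.Kernel

/-!
Short certificates for lower bounds of orders: each level lists the points of an orbit, each with
a predecessor and the generator that leads to it.
-/

namespace Cfsg.Agent.Lib.HN3

/-- default orbit point -/
def noPt : Nat × Nat × Nat := (65536, 0, 0)

/-- one level: base index, generators, points `(point, predecessor, generator)`, positions -/
structure LowLev where
  b : Nat
  gens : List (List Nat)
  len : Nat
  idx : Nat
  pts : List (List (Nat × Nat × Nat))

/-- point number `q` -/
noncomputable def LowLev.at (lv : LowLev) (q : Nat) : Nat × Nat × Nat :=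
  nth noPt (nth [] lv.pts (Nat.div q 32)) (Nat.mod q 32)

/-- generators of the first level -/
noncomputable def lowHead (L : List LowLev) : List (List Nat) :=
  List.rec (motive := fun _ => List (List Nat)) [] (fun lv _ _ => lv.gens) L

/-- product of the orbit lengths -/
noncomputable def lowCard (L : List LowLev) : Nat :=
  List.rec (motive := fun _ => Nat) 1 (fun lv _ ih => Nat.mul lv.len ih) L

/-- one orbit point -/
noncomputable def Pk.lowPtOK (D : Pk) (base : List Nat) (lv : LowLev) (q : Nat) : Bool :=
  (fun e => band (Nat.beq (at16 lv.idx e.1) q)
    (Nat.rec (motive := fun _ => Bool) (Nat.beq e.1 (nth 0 base lv.b))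
      (fun _ _ => band (Nat.blt e.2.1 q) (band (Nat.blt e.2.2 lv.gens.length)
        (Nat.beq (D.go (nth [] lv.gens e.2.2) (lv.at e.2.1).1) e.1))) q))
    (lv.at q)

/-- a chain giving a lower bound -/
noncomputable def Pk.lowOK (D : Pk) (base : List Nat) (L : List LowLev) : Bool :=
  List.rec (motive := fun _ => Bool) true
    (fun lv T ih => band ih (band (Nat.blt lv.b base.length)
      (band (forallB (fun s => band (memW s lv.gens)
          (Nat.beq (D.go s (nth 0 base lv.b)) (nth 0 base lv.b))) (lowHead T))
        (belowB (D.lowPtOK base lv) lv.len)))) L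

end Cfsg.Agent.Lib.HN3
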