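import Cfsg.Agent.Lib.HN3.DerivK
import Cfsg.Agent.Lib.HN3.LowK

/-!
Checks behind the index and the action: classes of each stabiliser, roots of edges, relation
walks.  A step from `(j, h)` names a root and a word `a` fixing the first point, and asserts
that `h` is a stabiliser times `hf ++ a`, where the root carries `(j, hf)` to `(k, g)`.
-/

namespace Cfsg.Agent.Lib.HN3

/-- class entry: point, predecessor, item, root -/
abbrev ClassE := Nat × Nat × Nat × Nat

/-- default class entry -/
def noClass : ClassE := (65536, 0, 0, 0)

/-- one orbit: generator items of its stabiliser, chain, items of the first level, classes -/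
structure Orbd where
  gens : List Nat
  chain : List Lev
  head : List Nat
  idx : Nat
  ent : List (List ClassE)

/-- class entry number `q` -/
noncomputable def Orbd.cls (O : Orbd) (q : Nat) : ClassE :=
  nth noClass (nth [] O.ent (Nat.div q 32)) (Nat.mod q 32)

/-- position of a point among the classes -/
noncomputable def Orbd.pos (O : Orbd) (p : Nat) : Nat := at16 O.idx p

/-- one root: orbit, point, item, inverse words, number of points, stabiliser chain of the point -/
structure Root where
  i : Nat
  p : Nat
  k : Nat
  hfi : List Nat
  gi : List Nat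
  len : Nat
  fix : List LowLev

/-- default root -/
def noRoot : Root := ⟨0, 0, 0, [], [], 0, []⟩

/-- a step: root, word fixing the first point, its inverse -/
structure Step where
  r : Nat
  a : List Nat
  ai : List Nat

variable (D : Deriv) (Os : List Orbd) (Rs : List Root)

/-- the default orbit -/
noncomputable def noOrb : Orbd := ⟨[], [], [], 0, []⟩

/-- an element given by a word lies in the stabiliser of orbit `j` -/
noncomputable def inS (j : Nat) (u : List Nat) : Bool :=
  D.pk.sift D.base (nth noOrb Os j).chain (D.pk.mov u D.base)

/-- the class number `q` of orbit `i` -/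
noncomputable def classOK (i q : Nat) : Bool :=
  (fun O => (fun e => band (Nat.blt e.1 D.pk.n) (band (Nat.beq (O.pos e.1) q)
    ((fun it => band (Nat.beq it.i i)
      (Bool.rec (motive := fun _ => Bool)
        (band (Nat.blt e.2.1 q) (band (Nat.beq it.d 0) (band (memW [e.2.2.1] (List.rec
          (motive := fun _ => List (List Nat)) [] (fun t _ ih => [t] :: ih) O.gens))
          ((fun b => band (Nat.beq b.2.2.2 e.2.2.2) (Nat.beq (D.pk.go it.h b.1) e.1))
            (O.cls e.2.1)))))
        ((fun R => band (Nat.blt e.2.2.2 Rs.length) (band (Nat.beq R.i i) (band (Nat.beq R.p e.1)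
          (band (Nat.beq R.k e.2.2.1) (band (Nat.beq it.d 1) (Nat.beq (D.pk.go it.h e.1) 0))))))
          (nth noRoot Rs e.2.2.2))
        (Nat.beq e.2.1 q)))
      (D.item e.2.2.1)))) (O.cls q))
    (nth noOrb Os i)

/-- the generators of the stabiliser of orbit `i` keep the root of class `q` -/
noncomputable def rootInv (i q : Nat) : Bool :=
  (fun O => (fun e => forallB (fun w => hold (D.pk.go w e.1) fun p =>
    Nat.beq (O.cls (O.pos p)).2.2.2 e.2.2.2) (headGens O.chain)) (O.cls q)) (nth noOrb Os i)

/-- `k` is a stabiliser item of orbit `i` -/
noncomputable def stabItem (count i k : Nat) : Bool :=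
  band (Nat.blt k count) ((fun it => band (Nat.beq it.i i) (band (Nat.beq it.d 0)
    (band (Nat.beq it.j i) (eqLN it.g [])))) (D.item k))

/-- generators and chain of orbit `i` -/
noncomputable def orbOK (count i : Nat) : Bool :=
  (fun O => band (forallB (fun k => band (stabItem D count i k)
      (memW (D.item k).h (headGens O.chain))) O.gens)
    (band (forallB (fun k => stabItem D count i k) O.head)
      (Nat.rec (motive := fun _ => Bool) true (fun _ _ => forallB (fun w =>
        List.rec (motive := fun _ => Bool) false
          (fun k _ ih => Bool.rec (motive := fun _ => Bool) ih true (eqLN (D.item k).h w)) O.head)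
        (headGens O.chain)) i)))
    (nth noOrb Os i)

/-- number of classes of orbit `i` below `n` with root `r` -/
noncomputable def countRoot (i r n : Nat) : Nat :=
  Nat.rec (motive := fun _ => Nat) 0
    (fun q ih => hold ih fun c => Bool.rec (motive := fun _ => Nat) c (Nat.succ c)
      (Nat.beq ((nth noOrb Os i).cls q).2.2.2 r)) n

/-- root number `r` -/
noncomputable def rootOK (count r : Nat) : Bool :=
  (fun R => band (Nat.blt R.k count) ((fun it => band (Nat.beq it.i R.i) (band (Nat.beq it.d 1)
    (band (Nat.blt it.j Os.length)
      (band (D.pk.same D.base (it.h ++ R.hfi) []) (band (D.pk.same D.base (it.g ++ R.gi) [])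
        (band (D.pk.lowOK D.base R.fix) (band (Nat.beq (countRoot Os R.i r D.pk.n) R.len)
          (band (Nat.beq (Nat.mul (lowCard R.fix) R.len) (chainCard (nth noOrb Os R.i).chain))
            (forallB (fun w => band (Nat.beq (D.pk.go w R.p) R.p) (band (inS D Os R.i w)
              (inS D Os it.j (it.g ++ (R.hfi ++ (w ++ (it.h ++ R.gi))))))) (lowHead R.fix))))))))))
    (D.item R.k))) (nth noRoot Rs r)

/-- one step from `(j, h)` -/
noncomputable def stepK (s : Step) (j : Nat) (h : List Nat) (k : Nat → List Nat → Bool) : Bool :=
  (fun R => band (Nat.beq R.i j) (band (Nat.blt s.r Rs.length)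
    (band (Nat.beq (D.pk.go s.a 0) 0) (band (D.pk.same D.base (s.a ++ s.ai) [])
      (band (inS D Os j (h ++ (s.ai ++ R.hfi)))
        (k (D.item R.k).j ((D.item R.k).g ++ s.a))))))) (nth noRoot Rs s.r)

/-- several steps, each after the word `pre` -/
noncomputable def walkK (pre : List Nat) (ss : List Step) :
    Nat → List Nat → (Nat → List Nat → Bool) → Bool :=
  List.rec (motive := fun _ => Nat → List Nat → (Nat → List Nat → Bool) → Bool)
    (fun j h k => k j h)
    (fun s _ ih j h k => stepK D Os Rs s j (h ++ pre) fun j' h' => ih j' h' k) ss

/-- five steps from root `r` return -/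
noncomputable def fiveOK (r : Nat) (ss : List Step) : Bool :=
  (fun R => band (Nat.beq ss.length 5) (walkK D Os Rs [] ss R.i (D.item R.k).h fun j g =>
    band (Nat.beq j R.i) (inS D Os j (g ++ R.hfi)))) (nth noRoot Rs r)

/-- left multiplication by `x` against three steps, at root `r` -/
noncomputable def conjOK (r : Nat) (one : List Step) (three : List Step) (gi : List Nat) : Bool :=
  (fun R => band (Nat.beq one.length 1) (band (Nat.beq three.length 3)
    (walkK D Os Rs [] one R.i ((D.item R.k).h ++ [2]) fun j g =>
      walkK D Os Rs [] three R.i (D.item R.k).h fun j' g' =>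
        band (Nat.beq j j') (band (D.pk.same D.base ((g' ++ [2]) ++ gi) [])
          (inS D Os j (g ++ gi)))))) (nth noRoot Rs r)

/-- three steps each after `z` from `(i, hf ++ a)` return -/
noncomputable def threeOK (r : Nat) (a ai : List Nat) (ss : List Step) : Bool :=
  (fun R => band (Nat.beq ss.length 3)
    (band (D.pk.same D.base (a ++ ai) [])
      (walkK D Os Rs [5] ss R.i ((D.item R.k).h ++ a) fun j g =>
        band (Nat.beq j R.i) (inS D Os j (g ++ (ai ++ R.hfi)))))) (nth noRoot Rs r)

/-- one coset representative of the centraliser of `z`, or a link to an earlier one -/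
inductive ZCase
  | start (ss : List Step)
  | link (par : Nat) (g : Nat)

/-- the word `u` commutes with `z` -/
noncomputable def zComm (u : List Nat) : Bool := D.pk.same D.base (u ++ [5]) ([5] ++ u)

/-- representative `m` at root `r` -/
noncomputable def zOK (Cs : List (List Nat × List Nat)) (r : Nat) (cs : List ZCase) (m : Nat) :
    Bool :=
  (fun R => (fun a => ZCase.rec (motive := fun _ => Bool)
    (fun ss => threeOK D Os Rs r a.1 a.2 ss)
    (fun q g => band (Nat.blt q m) (band (Nat.blt g (lowHead R.fix).length)
      (zComm D (a.2 ++ (R.hfi ++ (nth [] (lowHead R.fix) g ++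
        ((D.item R.k).h ++ (nth ([], []) Cs q).1)))))))
    (nth (ZCase.link m 0) cs m)) (nth ([], []) Cs m)) (nth noRoot Rs r)

/-- the representatives are closed under the tokens -/
noncomputable def cosetOK (Cs : List (List Nat × List Nat)) (to : List (List Nat)) (m : Nat) :
    Bool :=
  (fun a => band (D.pk.same D.base (a.1 ++ a.2) []) (band (Nat.beq (D.pk.go a.1 0) 0)
    (band (Nat.beq (nth [] to m).length D.tokens.length)
      (belowB (fun l => hold (nth 0 (nth [] to m) l) fun m' =>
        band (Nat.blt m' Cs.length)
          (zComm D ((nth ([], []) Cs m').2 ++ ([nth 0 D.tokens l] ++ a.1))))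
        D.tokens.length)))) (nth ([], []) Cs m)

/-- orbit `j + 1` is where its parent leads -/
noncomputable def defOK (j : Nat) (s : Step) : Bool :=
  (fun p => stepK D Os Rs s p.1 p.2 fun j' g => band (Nat.beq j' (Nat.succ j))
    (inS D Os j' g)) (nth (0, []) D.par j)

end Cfsg.Agent.Lib.HN3
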