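import Mathlib
import Cfsg.Prelude.Def_Spor_HN
import Cfsg.Agent.Lib.HN3.Deriv

/-!
The presented Harada–Norton group as a group with the relations checked by the derivation.
-/

namespace Cfsg.Agent.Lib.HN3

open Cfsg.Spor (HN coxRelators)
open PresentedGroup (mk)

/-- the images of the four generators -/
noncomputable def hnGen (a : Cfsg.Spor.HN.Gen) : HN := PresentedGroup.of a

theorem mk_extra {r : FreeGroup Cfsg.Spor.HN.Gen} (h : r ∈ Cfsg.Spor.HN.extra) :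
    FreeGroup.lift hnGen r = 1 := by
  have e : FreeGroup.lift hnGen =
      mk (coxRelators Cfsg.Spor.HN.edges ∪ {r | r ∈ Cfsg.Spor.HN.extra}) := by
    ext a; rw [FreeGroup.lift_apply_of]; rfl
  rw [e]
  exact PresentedGroup.one_of_mem (Or.inr h)

theorem hn_hRel : HRel (hnGen .x) (hnGen .y) (hnGen .z) := by
  have h : ∀ i (hi : i < Cfsg.Spor.HN.extra.length),
      FreeGroup.lift hnGen (Cfsg.Spor.HN.extra[i]) = 1 := fun i hi =>
    mk_extra (List.getElem_mem hi)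
  constructor
  · simpa [Cfsg.Spor.HN.extra] using h 0 (by decide)
  · simpa [Cfsg.Spor.HN.extra] using h 1 (by decide)
  · simpa [Cfsg.Spor.HN.extra] using h 2 (by decide)
  · simpa [Cfsg.Spor.HN.extra] using h 3 (by decide)
  · simpa [Cfsg.Spor.HN.extra] using h 4 (by decide)
  · simpa [Cfsg.Spor.HN.extra] using h 5 (by decide)
  · simpa [Cfsg.Spor.HN.extra] using h 6 (by decide)
  · simpa [Cfsg.Spor.HN.extra] using h 7 (by decide)
  · simpa [Cfsg.Spor.HN.extra] using h 8 (by decide)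
  · simpa [Cfsg.Spor.HN.extra] using h 9 (by decide)

theorem hn_t5 : hnGen .t ^ 5 = 1 := by
  have := mk_extra (r := Cfsg.Spor.HN.t ^ 5) (by simp [Cfsg.Spor.HN.extra])
  simpa using this

theorem hn_ty : hnGen .t * hnGen .y = hnGen .y * hnGen .t := by
  have := mk_extra (r := Cfsg.Spor.HN.t⁻¹ * Cfsg.Spor.HN.y⁻¹ * Cfsg.Spor.HN.t * Cfsg.Spor.HN.y)
    (by simp [Cfsg.Spor.HN.extra])
  have h : (hnGen .t)⁻¹ * (hnGen .y)⁻¹ * hnGen .t * hnGen .y = 1 := by
    simpa using this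
  have := congrArg (fun a => hnGen .y * hnGen .t * a) h
  simpa [mul_assoc] using this

theorem hn_tx : hnGen .t * hnGen .x = hnGen .x * hnGen .t ^ 3 := by
  have := mk_extra (r := (Cfsg.Spor.HN.x⁻¹ * Cfsg.Spor.HN.t * Cfsg.Spor.HN.x) *
    (Cfsg.Spor.HN.t ^ 2)) (by simp [Cfsg.Spor.HN.extra])
  have h : (hnGen .x)⁻¹ * hnGen .t * hnGen .x * hnGen .t ^ 2 = 1 := by
    simpa using this
  have e : hnGen .t ^ 2 * hnGen .t ^ 3 = 1 := by rw [← pow_add]; exact hn_t5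
  have := congrArg (fun a => hnGen .x * a * hnGen .t ^ 3) h
  simpa [mul_assoc, e] using this

theorem hn_zt : (hnGen .z * hnGen .t) ^ 3 = 1 := by
  have := mk_extra (r := (Cfsg.Spor.HN.z * Cfsg.Spor.HN.t) ^ 3) (by simp [Cfsg.Spor.HN.extra])
  simpa using this

theorem exists_ctx (hB : HBound) : ∃ C : Ctx HN, C.φ (rep.f 0) = hnGen .x ∧
    C.φ (rep.f 2) = hnGen .y ∧ C.φ (rep.f 4) = hnGen .z ∧ C.t = hnGen .t := by
  obtain ⟨φ, h0, h2, h4⟩ := exists_hom hB hn_hRel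
  refine ⟨⟨φ, hnGen .t, hn_t5, ?_, ?_, ?_, inj_base hB⟩, h0, h2, h4, rfl⟩
  · rw [h2]; exact hn_ty
  · rw [h0]; exact hn_tx
  · rw [h4]; exact hn_zt

end Cfsg.Agent.Lib.HN3
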