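import Cfsg.Agent.Lib.HN3.HNRoots
import Cfsg.Agent.Lib.HN3.HNItems

/-!
Generated: kernel checks.
-/

set_option maxRecDepth 100000
set_option Elab.async false

namespace Cfsg.Agent.Lib.HN3

theorem hnRootOK3 : belowB (fun r => rootOK hnDeriv hnOrbs hnRoots hnCount (Nat.add 78 r)) 23 = true := by decide +kernel

end Cfsg.Agent.Lib.HN3
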