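import Cfsg.Agent.Lib.HN3.HNWalks
import Cfsg.Agent.Lib.HN3.HNItems

/-!
Generated: kernel checks.
-/

set_option maxRecDepth 100000
set_option Elab.async false

namespace Cfsg.Agent.Lib.HN3

theorem hnFiveOK : belowB (fun r => fiveOK hnDeriv hnOrbs hnRoots r (nth [] (nth [] hnFive (Nat.div r 32)) (Nat.mod r 32))) 101 = true := by decide +kernel

theorem hnConjOK : belowB (fun r => (fun c : List Step × List Step × List Nat => conjOK hnDeriv hnOrbs hnRoots r c.1 c.2.1 c.2.2) (nth ([], [], []) (nth [] hnConj (Nat.div r 32)) (Nat.mod r 32))) 101 = true := by decide +kernel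

theorem hnDefsOK : belowB (fun j => defOK hnDeriv hnOrbs hnRoots j (nth ⟨0, [], []⟩ hnDefs j)) 8 = true := by decide +kernel

theorem hnCosetOK : belowB (cosetOK hnDeriv hnReps hnRepTable) 50 = true := by decide +kernel

end Cfsg.Agent.Lib.HN3
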