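import Cfsg.Agent.Lib.HN3.HOrderSteps1
import Cfsg.Agent.Lib.HN3.HOrderSteps2

/-!
Every element of the group lies in one of 352 cosets of the subgroup generated by `x` and `y`.
-/

namespace Cfsg.Agent.Lib.HN3.HOrder

variable {G : Type*} [Group G] {x y z : G}

theorem facts_hold (h : HRel x y z) : ∀ i, i < 1106 → Holds DataD.F x y z i := by
  have s0 : ∀ i, i < 0 → Holds DataD.F x y z i := fun i hi => absurd hi (Nat.not_lt_zero i)
  have s1 : ∀ i, i < 56 → Holds DataD.F x y z i := fun i hi =>
    factsOK_sound h DataD.steps0 0 s0 DataD.steps0_ok i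
      (by rw [DataD.steps0_len]; exact hi)
  have s2 : ∀ i, i < 112 → Holds DataD.F x y z i := fun i hi =>
    factsOK_sound h DataD.steps1 56 s1 DataD.steps1_ok i
      (by rw [DataD.steps1_len]; exact hi)
  have s3 : ∀ i, i < 168 → Holds DataD.F x y z i := fun i hi =>
    factsOK_sound h DataD.steps2 112 s2 DataD.steps2_ok i
      (by rw [DataD.steps2_len]; exact hi)
  have s4 : ∀ i, i < 224 → Holds DataD.F x y z i := fun i hi =>
    factsOK_sound h DataD.steps3 168 s3 DataD.steps3_ok i
      (by rw [DataD.steps3_len]; exact hi)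
  have s5 : ∀ i, i < 280 → Holds DataD.F x y z i := fun i hi =>
    factsOK_sound h DataD.steps4 224 s4 DataD.steps4_ok i
      (by rw [DataD.steps4_len]; exact hi)
  have s6 : ∀ i, i < 336 → Holds DataD.F x y z i := fun i hi =>
    factsOK_sound h DataD.steps5 280 s5 DataD.steps5_ok i
      (by rw [DataD.steps5_len]; exact hi)
  have s7 : ∀ i, i < 392 → Holds DataD.F x y z i := fun i hi =>
    factsOK_sound h DataD.steps6 336 s6 DataD.steps6_ok i
      (by rw [DataD.steps6_len]; exact hi)
  have s8 : ∀ i, i < 448 → Holds DataD.F x y z i := fun i hi =>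
    factsOK_sound h DataD.steps7 392 s7 DataD.steps7_ok i
      (by rw [DataD.steps7_len]; exact hi)
  have s9 : ∀ i, i < 504 → Holds DataD.F x y z i := fun i hi =>
    factsOK_sound h DataD.steps8 448 s8 DataD.steps8_ok i
      (by rw [DataD.steps8_len]; exact hi)
  have s10 : ∀ i, i < 560 → Holds DataD.F x y z i := fun i hi =>
    factsOK_sound h DataD.steps9 504 s9 DataD.steps9_ok i
      (by rw [DataD.steps9_len]; exact hi)
  have s11 : ∀ i, i < 616 → Holds DataD.F x y z i := fun i hi =>
    factsOK_sound h DataD.steps10 560 s10 DataD.steps10_ok i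
      (by rw [DataD.steps10_len]; exact hi)
  have s12 : ∀ i, i < 672 → Holds DataD.F x y z i := fun i hi =>
    factsOK_sound h DataD.steps11 616 s11 DataD.steps11_ok i
      (by rw [DataD.steps11_len]; exact hi)
  have s13 : ∀ i, i < 728 → Holds DataD.F x y z i := fun i hi =>
    factsOK_sound h DataD.steps12 672 s12 DataD.steps12_ok i
      (by rw [DataD.steps12_len]; exact hi)
  have s14 : ∀ i, i < 784 → Holds DataD.F x y z i := fun i hi =>
    factsOK_sound h DataD.steps13 728 s13 DataD.steps13_ok i
      (by rw [DataD.steps13_len]; exact hi)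
  have s15 : ∀ i, i < 840 → Holds DataD.F x y z i := fun i hi =>
    factsOK_sound h DataD.steps14 784 s14 DataD.steps14_ok i
      (by rw [DataD.steps14_len]; exact hi)
  have s16 : ∀ i, i < 896 → Holds DataD.F x y z i := fun i hi =>
    factsOK_sound h DataD.steps15 840 s15 DataD.steps15_ok i
      (by rw [DataD.steps15_len]; exact hi)
  have s17 : ∀ i, i < 952 → Holds DataD.F x y z i := fun i hi =>
    factsOK_sound h DataD.steps16 896 s16 DataD.steps16_ok i
      (by rw [DataD.steps16_len]; exact hi)
  have s18 : ∀ i, i < 1008 → Holds DataD.F x y z i := fun i hi =>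
    factsOK_sound h DataD.steps17 952 s17 DataD.steps17_ok i
      (by rw [DataD.steps17_len]; exact hi)
  have s19 : ∀ i, i < 1064 → Holds DataD.F x y z i := fun i hi =>
    factsOK_sound h DataD.steps18 1008 s18 DataD.steps18_ok i
      (by rw [DataD.steps18_len]; exact hi)
  have s20 : ∀ i, i < 1106 → Holds DataD.F x y z i := fun i hi =>
    factsOK_sound h DataD.steps19 1064 s19 DataD.steps19_ok i
      (by rw [DataD.steps19_len]; exact hi)
  exact s20

/-- the representative of a coset -/
noncomputable def repW (i : ℕ) : List ℕ := up (DataD.reps.getD i 0)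

/-- the next coset and the fact proving it -/
noncomputable def nextOK (i : ℕ) (l : ℕ) (k : ℕ) : Bool :=
  (fun p : ℕ × ℕ => Nat.blt p.1 352 && (Nat.blt p.2 1106 &&
    (Cfsg.Agent.Lib.CosetTable.eqL (up (DataD.F.getD p.2 (0, 0)).1) (repW i ++ [l]) &&
      Cfsg.Agent.Lib.CosetTable.eqL (up (DataD.F.getD p.2 (0, 0)).2) (repW p.1))))
    ((DataD.next.getD i []).getD k (0, 0))

theorem next_ok : (List.range 352).all
    (fun i => nextOK i 0 0 && (nextOK i 2 1 && nextOK i 4 2)) = true := by
  decide +kernel

theorem repW_zero : repW 0 = [] := by decide +kernel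

end Cfsg.Agent.Lib.HN3.HOrder
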