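import Mathlib
import Cfsg.Agent.Lib.HN3.Base
import Cfsg.Agent.Lib.HN3.HOrderDC

/-!
Three elements with the relations `HRel` generate a group of order at most 177408000.
-/

namespace Cfsg.Agent.Lib.HN3.HOrder

variable {G : Type*} [Group G] {x y z : G}

/-- the element is in one of the 352 cosets -/
def InCosets (x y z : G) (g : G) : Prop :=
  ∃ i, i < 352 ∧ g * (ev (hf x y z) (repW i))⁻¹ ∈ Subgroup.closure ({x, y} : Set G)

theorem inCosets_step (h : HRel x y z) {g : G} (hg : InCosets x y z g) :
    InCosets x y z (g * x) ∧ InCosets x y z (g * y) ∧ InCosets x y z (g * z) := by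
  obtain ⟨i, hi, hm⟩ := hg
  have hok := List.all_eq_true.1 next_ok i (List.mem_range.2 hi)
  simp only [Bool.and_eq_true] at hok
  have key : ∀ l k, nextOK i l k = true → InCosets x y z (g * hf x y z l) := by
    intro l k q
    simp only [nextOK, Bool.and_eq_true, Cfsg.Agent.Lib.CosetTable.blt_iff] at q
    obtain ⟨q1, q2, q3, q4⟩ := q
    have hf' := facts_hold h _ q2
    rw [Holds, Cfsg.Agent.Lib.CosetTable.eq_of_eqL q3,
      Cfsg.Agent.Lib.CosetTable.eq_of_eqL q4] at hf'
    refine ⟨_, q1, ?_⟩
    have := mul_mem hm hf'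
    rw [ev_append, ev_cons, ev_nil, mul_one] at this
    simpa [mul_assoc] using this
  exact ⟨key 0 0 hok.1, key 2 1 hok.2.1, key 4 2 hok.2.2⟩

theorem inCosets_all (h : HRel x y z) {g : G} (hg : g ∈ Subgroup.closure ({x, y, z} : Set G)) :
    InCosets x y z g := by
  have C := central h
  induction hg using Subgroup.closure_induction_right with
  | one => exact ⟨0, by norm_num, by simp [repW_zero, ev, one_mem]⟩
  | mul_right a t _ ht ha =>
    obtain ⟨h1, h2, h3⟩ := inCosets_step h ha
    rcases ht with q | q | q <;> rw [q] <;> assumption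
  | mul_inv_cancel a t _ ht ha =>
    rcases ht with q | q | q <;> rw [q]
    · rw [C.x_inv, ← mul_assoc, ← mul_assoc]
      exact (inCosets_step h (inCosets_step h (inCosets_step h ha).1).1).1
    · have e : y⁻¹ = y * y * y * y * y := by
        refine inv_eq_of_mul_eq_one_right ?_
        rw [← h.r1]
        simp [pow_succ, mul_assoc]
      rw [e, ← mul_assoc, ← mul_assoc, ← mul_assoc, ← mul_assoc]
      exact (inCosets_step h (inCosets_step h (inCosets_step h (inCosets_step h
        (inCosets_step h ha).2.1).2.1).2.1).2.1).2.1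
    · rw [inv_eq_of_mul_eq_one_right C.zz]
      exact (inCosets_step h ha).2.2

theorem card_le (h : HRel x y z) :
    Finite (Subgroup.closure ({x, y, z} : Set G)) ∧
      Nat.card (Subgroup.closure ({x, y, z} : Set G)) ≤ 177408000 := by
  classical
  obtain ⟨hfin, hle⟩ := xy_card h
  let φ : Subgroup.closure ({x, y} : Set G) × Fin 352 → G :=
    fun p => (p.1 : G) * ev (hf x y z) (repW p.2)
  have hsub : ((Subgroup.closure ({x, y, z} : Set G)) : Set G) ⊆ Set.range φ := by
    intro g hg
    obtain ⟨i, hi, hm⟩ := inCosets_all h hg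
    exact ⟨(⟨_, hm⟩, ⟨i, hi⟩), by simp [φ]⟩
  have hf' : (Set.range φ).Finite := Set.finite_range _
  refine ⟨(hf'.subset hsub).to_subtype, ?_⟩
  refine (Nat.card_mono hf' hsub).trans ((Finite.card_range_le _).trans ?_)
  rw [Nat.card_prod, Nat.card_eq_fintype_card (α := Fin 352), Fintype.card_fin]
  omega

end Cfsg.Agent.Lib.HN3.HOrder

namespace Cfsg.Agent.Lib.HN3

/-- the bound on the groups with the relations -/
theorem hBound : HBound := fun _ _ _ _ _ h => HOrder.card_le h

end Cfsg.Agent.Lib.HN3
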