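import Cfsg.Agent.Lib.HN3.HOrderDataM

/-!
The derivation of the table of 120 cosets is correct.
-/

namespace Cfsg.Agent.Lib.HN3.HOrder.DataM

open Cfsg.Agent.Lib.CosetTable (rangeAll)

theorem rules_ok : cert.rulesOK = true := by decide +kernel
theorem streams_ok : cert.goStreams streams 0 = true := by decide +kernel
theorem streams_len : Cert.total streams = nFacts := by decide +kernel
theorem rows_ok : rangeAll (tab.rowOK cert nFacts) 120 0 = true := by decide +kernel
theorem words_ok : tab.wordsOK words 0 = true := by decide +kernel
theorem words_len : words.length = 120 := by decide +kernel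

end Cfsg.Agent.Lib.HN3.HOrder.DataM
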