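import Cfsg.Agent.Lib.CosetTable.Check

/-!
A checker for coset table derivations in which the letters need not be involutions, and for
rewriting of words.

A fact `(u, l, v)` says that the letter `l` maps node `u` to node `v`; the label `k` is the
identity.  A fact is a definition of the node `v`, or follows from a path of earlier facts and a
rule "the word `w` equals the letter `l`".
-/

namespace Cfsg.Agent.Lib.HN3.HOrder

open Cfsg.Agent.Lib.CosetTable (T force andB iteB natAt rangeAll eqL allL at16 at24)

/-- a rule: the word `w` equals the letter `l`, or closes a subgroup word -/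
structure Rule where
  l : Nat
  w : List Nat
  sub : Bool
  ci : Nat
  rot : Nat

/-- a derivation of a coset table -/
structure Cert where
  k : Nat
  inv : List Nat
  cyc : List (List Nat)
  subs : List (List Nat)
  rules : List Rule
  facts : T
  defs : T

/-- entry of a list of rules -/
noncomputable def ruleAt (k : Nat) (l : List Rule) : Nat → Rule :=
  List.rec (motive := fun _ => Nat → Rule) (fun _ => ⟨k, [], false, 0, 0⟩)
    (fun x _ ih i => Nat.rec (motive := fun _ => Rule) x (fun m _ => ih m) i) l

/-- entry of a list of words -/
noncomputable def wordAt (l : List (List Nat)) : Nat → List Nat :=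
  List.rec (motive := fun _ => Nat → List Nat) (fun _ => [])
    (fun x _ ih i => Nat.rec (motive := fun _ => List Nat) x (fun m _ => ih m) i) l

/-- inverse of a word -/
noncomputable def invW (inv : List Nat) (w : List Nat) : List Nat :=
  List.rec (motive := fun _ => List Nat) [] (fun a _ ih => ih ++ [natAt inv a]) w

/-- membership of a word -/
noncomputable def memL (w : List Nat) (l : List (List Nat)) : Bool :=
  List.rec (motive := fun _ => Bool) false
    (fun x _ ih => iteB (eqL x w) true ih) l

namespace Cert

variable (C : Cert)

noncomputable def fU (e : Nat) : Nat := Nat.shiftRight e 26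
noncomputable def fV (e : Nat) : Nat := Nat.land (Nat.shiftRight e 5) 2097151
noncomputable def fL (e : Nat) : Nat := Nat.land e 31

/-- follow the path in `S` from `cur` to `tgt`, reading `w` -/
noncomputable def follow (i tgt m : Nat) : Nat → Nat → List Nat → Bool :=
  Nat.rec (motive := fun _ => Nat → Nat → List Nat → Bool)
    (fun _ cur w => andB (Nat.beq cur tgt) (eqL w []))
    (fun _ ih S cur w =>
      force S fun S' => force (Nat.land S' 16777215) fun p => force cur fun c =>
        force (C.facts.get (Nat.div p 2)) fun e =>
          andB (Nat.blt (Nat.div p 2) i)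
            (iteB (Nat.beq (Nat.mod p 2) 0)
              (andB (Nat.beq c (fU e))
                (iteB (Nat.beq (fL e) C.k) (ih (Nat.shiftRight S' 24) (fV e) w)
                  (List.rec (motive := fun _ => Bool) false
                    (fun a w' _ => andB (Nat.beq a (fL e)) (ih (Nat.shiftRight S' 24) (fV e) w'))
                    w)))
              (andB (Nat.beq c (fV e))
                (iteB (Nat.beq (fL e) C.k) (ih (Nat.shiftRight S' 24) (fU e) w)
                  (List.rec (motive := fun _ => Bool) false
                    (fun a w' _ => andB (Nat.beq a (natAt C.inv (fL e)))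
                      (ih (Nat.shiftRight S' 24) (fU e) w'))
                    w)))))
    m

/-- fact `i` justified by the head of `S` -/
noncomputable def stepOK (i S : Nat) : Bool :=
  force (Nat.land S 16777215) fun kind => force (C.facts.get i) fun e =>
    iteB (Nat.beq kind 0)
      (andB (Nat.blt (fL e) C.k)
        (andB (Nat.blt (fU e) (fV e))
          (force (C.defs.get (fV e)) fun d =>
            andB (Nat.beq (Nat.shiftRight d 5) (fU e)) (Nat.beq (Nat.land d 31) (fL e)))))
      ((fun r : Rule =>
          andB (Nat.beq r.l (fL e))
            (andB (iteB r.sub (Nat.beq (fV e) 0) true)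
              (C.follow i (fV e) (Nat.land (Nat.shiftRight S 24) 16777215) (Nat.shiftRight S 48)
                (fU e) r.w)))
        (ruleAt C.k C.rules (Nat.sub kind 1)))

/-- `n` consecutive facts from one stream -/
noncomputable def goStream (n : Nat) : Nat → Nat → Bool :=
  Nat.rec (motive := fun _ => Nat → Nat → Bool) (fun _ _ => true)
    (fun _ ih i S => force i fun j => force S fun S' =>
      andB (C.stepOK j S')
        (ih (Nat.succ j)
          (Nat.shiftRight S'
            (Nat.mul 24 (Nat.add 2 (Nat.land (Nat.shiftRight S' 24) 16777215)))))) n

/-- several streams -/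
noncomputable def goStreams (L : List (Nat × Nat)) : Nat → Bool :=
  List.rec (motive := fun _ => Nat → Bool) (fun _ => true)
    (fun q _ ih i => force i fun j => andB (C.goStream q.1 j q.2) (ih (Nat.add j q.1))) L

/-- number of facts of a list of streams -/
def total : List (Nat × Nat) → Nat
  | [] => 0
  | (n, _) :: r => n + total r

/-- rotation of a word -/
noncomputable def rotate (c : List Nat) (m : Nat) : List Nat := c.drop m ++ c.take m

/-- a valid rule -/
noncomputable def ruleOK (r : Rule) : Bool :=
  andB (Nat.ble r.l C.k)
    (iteB r.sub
      (andB (Nat.blt r.l C.k) (andB (allL (fun a => Nat.ble a C.k) r.w)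
        (memL (invW C.inv r.w ++ [r.l]) C.subs)))
      (iteB (andB (Nat.beq r.l C.k) (eqL r.w [])) true
        (eqL (rotate (wordAt C.cyc r.ci) r.rot)
          (iteB (Nat.beq r.l C.k) r.w (r.w ++ [natAt C.inv r.l])))))

/-- the rules and the inverse map -/
noncomputable def rulesOK : Bool :=
  andB (allL C.ruleOK C.rules)
    (andB (Nat.beq (natAt C.inv C.k) C.k) (Nat.beq C.inv.length (Nat.succ C.k)))

end Cert

/-- a final table: node of each coset, images, facts of the edges, a word for each coset -/
structure Tab where
  n : Nat
  k : Nat
  node : Nat
  perms : List Nat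
  eids : List Nat
  words : List (List Nat)

namespace Tab

variable (A : Tab)

noncomputable def act (g i : Nat) : Nat := at16 (natAt A.perms g) i
noncomputable def nd (i : Nat) : Nat := at24 A.node i
noncomputable def eid (g i : Nat) : Nat := at24 (natAt A.eids g) i

/-- follow a word -/
noncomputable def walk (w : List Nat) : Nat → Nat :=
  List.rec (motive := fun _ => Nat → Nat) (fun i => i)
    (fun a _ ih i => force (A.act a i) ih) w

/-- one edge -/
noncomputable def edgeOK (C : Cert) (N i g : Nat) : Bool :=
  force (A.act g i) fun j => force (A.eid g i) fun e => force (C.facts.get e) fun f =>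
    andB (Nat.blt j A.n) (andB (Nat.beq (A.act (natAt C.inv g) j) i) (andB (Nat.blt e N)
      (andB (Nat.beq (Cert.fL f) g)
        (andB (Nat.beq (Cert.fU f) (A.nd i)) (Nat.beq (Cert.fV f) (A.nd j))))))

/-- one row -/
noncomputable def rowOK (C : Cert) (N i : Nat) : Bool :=
  rangeAll (A.edgeOK C N i) A.k 0

/-- every word of `L` fixes `i` -/
noncomputable def fixOK (L : List (List Nat)) (i : Nat) : Bool :=
  allL (fun w => Nat.beq (A.walk w i) i) L

/-- the words reach the cosets, counted from `i` -/
noncomputable def wordsOK (L : List (List Nat)) : Nat → Bool :=
  List.rec (motive := fun _ => Nat → Bool) (fun _ => true)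
    (fun w _ ih i => force i fun j =>
      andB (allL (fun a => Nat.blt a A.k) w)
        (andB (Nat.beq (A.walk w 0) j) (ih (Nat.succ j)))) L

end Tab

end Cfsg.Agent.Lib.HN3.HOrder
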