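import Mathlib
import Cfsg.Agent.Lib.CosetTable.Sound
import Cfsg.Agent.Lib.HN3.HOrderKernel

/-!
Soundness of the derivation checker: the words of a verified table meet every coset.
-/

namespace Cfsg.Agent.Lib.HN3.HOrder

open Cfsg.Agent.Lib.CosetTable (andB force_eq andB_eq iteB_eq eq_of_eqL allL_spec beq_iff blt_iff
  ble_iff rangeAll rangeAll_spec natAt)

variable {G : Type*} [Group G] (f : ℕ → G)

/-- the value of a word -/
def ev (w : List ℕ) : G := (w.map f).prod

theorem ev_nil : ev f [] = 1 := rfl

theorem ev_cons (a : ℕ) (w : List ℕ) : ev f (a :: w) = f a * ev f w := by simp [ev]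

theorem ev_append (u v : List ℕ) : ev f (u ++ v) = ev f u * ev f v := by simp [ev]

theorem ev_rotate {c : List ℕ} (m : ℕ) (h : ev f c = 1) : ev f (Cert.rotate c m) = 1 := by
  rw [Cert.rotate, ev_append, mul_eq_one_comm, ← ev_append, List.take_append_drop, h]

theorem wordAt_cases : ∀ (l : List (List ℕ)) (i : ℕ), wordAt l i = [] ∨ wordAt l i ∈ l
  | [], _ => Or.inl rfl
  | x :: l, 0 => Or.inr (List.mem_cons_self ..)
  | x :: l, i + 1 => by
    rcases wordAt_cases l i with h | h
    · exact Or.inl h
    · exact Or.inr (List.mem_cons_of_mem _ h)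

theorem memL_iff {w : List ℕ} : ∀ {l : List (List ℕ)}, memL w l = true → w ∈ l
  | [], h => Bool.noConfusion (h : false = true)
  | x :: l, h => by
    change Cfsg.Agent.Lib.CosetTable.iteB (Cfsg.Agent.Lib.CosetTable.eqL x w) true (memL w l) = true at h
    rw [iteB_eq] at h
    cases hx : Cfsg.Agent.Lib.CosetTable.eqL x w
    · rw [hx] at h; exact List.mem_cons_of_mem _ (memL_iff h)
    · rw [eq_of_eqL hx]; exact List.mem_cons_self ..

theorem ruleAt_cases (k : ℕ) : ∀ (l : List Rule) (i : ℕ),
    ruleAt k l i = ⟨k, [], false, 0, 0⟩ ∨ ruleAt k l i ∈ l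
  | [], _ => Or.inl rfl
  | x :: l, 0 => Or.inr (List.mem_cons_self ..)
  | x :: l, i + 1 => by
    rcases ruleAt_cases k l i with h | h
    · exact Or.inl h
    · exact Or.inr (List.mem_cons_of_mem _ h)

/-- what the letters satisfy -/
structure Model (C : Cert) (M : Subgroup G) : Prop where
  one : f C.k = 1
  inv : ∀ a, a ≤ C.k → f (natAt C.inv a) = (f a)⁻¹
  cyc : ∀ w ∈ C.cyc, ev f w = 1
  subs : ∀ w ∈ C.subs, ev f w ∈ M
  rules : C.rulesOK = true

variable {f}

theorem ev_invW {inv : List ℕ} {k : ℕ} (h : ∀ a, a ≤ k → f (natAt inv a) = (f a)⁻¹) :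
    ∀ {w : List ℕ}, (∀ a ∈ w, a ≤ k) → ev f (invW inv w) = (ev f w)⁻¹
  | [], _ => by simp [invW, ev]
  | a :: w, hw => by
    show ev f (invW inv w ++ [natAt inv a]) = _
    rw [ev_append, ev_invW h (fun b hb => hw b (List.mem_cons_of_mem _ hb)), ev_cons f a,
      mul_inv_rev, ← h a (hw a (List.mem_cons_self ..))]
    simp [ev]

/-- the element of a node: the product of its defining letters -/
noncomputable def el (C : Cert) (f : ℕ → G) (v : ℕ) : G :=
  if h : Nat.shiftRight (C.defs.get v) 5 < v then
    el C f (Nat.shiftRight (C.defs.get v) 5) * f (Nat.land (C.defs.get v) 31)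
  else 1
termination_by v
decreasing_by exact h

theorem el_zero (C : Cert) : el C f 0 = 1 := by
  rw [el, dif_neg (Nat.not_lt_zero _)]

theorem el_def (C : Cert) {v : ℕ} (h : Nat.shiftRight (C.defs.get v) 5 < v) :
    el C f v = el C f (Nat.shiftRight (C.defs.get v) 5) * f (Nat.land (C.defs.get v) 31) := by
  rw [el, dif_pos h]

open Cert (fU fV fL)

/-- the statement of a fact -/
def FactOK (C : Cert) (f : ℕ → G) (M : Subgroup G) (i : ℕ) : Prop :=
  el C f (fU (C.facts.get i)) * f (fL (C.facts.get i)) * (el C f (fV (C.facts.get i)))⁻¹ ∈ M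

variable {C : Cert} {M : Subgroup G}

theorem follow_succ (i tgt m S cur : ℕ) (w : List ℕ) :
    C.follow i tgt (m + 1) S cur w =
      (let p := Nat.land S 16777215
       let e := C.facts.get (Nat.div p 2)
       Nat.blt (Nat.div p 2) i &&
        bif Nat.beq (Nat.mod p 2) 0 then
          Nat.beq cur (fU e) &&
            bif Nat.beq (fL e) C.k then C.follow i tgt m (Nat.shiftRight S 24) (fV e) w
            else List.rec (motive := fun _ => Bool) false
              (fun a w' _ => Nat.beq a (fL e) && C.follow i tgt m (Nat.shiftRight S 24) (fV e) w') w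
        else
          Nat.beq cur (fV e) &&
            bif Nat.beq (fL e) C.k then C.follow i tgt m (Nat.shiftRight S 24) (fU e) w
            else List.rec (motive := fun _ => Bool) false
              (fun a w' _ => Nat.beq a (natAt C.inv (fL e)) &&
                C.follow i tgt m (Nat.shiftRight S 24) (fU e) w') w) := by
  simp only [Cert.follow, force_eq, andB_eq, iteB_eq]

theorem follow_sound (hM : Model f C M) {i tgt : ℕ}
    (hprev : ∀ j, j < i → FactOK C f M j ∧ fL (C.facts.get j) ≤ C.k) :
    ∀ (m S cur : ℕ) (w : List ℕ), C.follow i tgt m S cur w = true →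
      el C f cur * ev f w * (el C f tgt)⁻¹ ∈ M
  | 0, S, cur, w, h => by
    change andB (Nat.beq cur tgt) (Cfsg.Agent.Lib.CosetTable.eqL w []) = true at h
    simp only [andB_eq, Bool.and_eq_true, beq_iff] at h
    rw [h.1, eq_of_eqL h.2, ev_nil, mul_one, mul_inv_cancel]
    exact one_mem M
  | m + 1, S, cur, w, h => by
    simp only [follow_succ, Bool.and_eq_true, blt_iff] at h
    obtain ⟨hlt, h⟩ := h
    obtain ⟨hf, hl⟩ := hprev _ hlt
    cases hb : Nat.beq (Nat.mod (Nat.land S 16777215) 2) 0
    · rw [hb] at h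
      simp only [cond_false, Bool.and_eq_true, beq_iff] at h
      obtain ⟨hc, h⟩ := h
      subst hc
      cases hk : Nat.beq (fL (C.facts.get (Nat.div (Nat.land S 16777215) 2))) C.k
      · rw [hk] at h
        cases w with
        | nil => exact Bool.noConfusion (h : false = true)
        | cons a w =>
          simp only [cond_false, Bool.and_eq_true, beq_iff] at h
          have := follow_sound hM hprev m _ _ _ h.2
          rw [ev_cons, h.1, hM.inv _ hl]
          have e := mul_mem (inv_mem hf) this
          convert e using 1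
          simp [mul_assoc]
      · rw [hk] at h
        have := follow_sound hM hprev m _ _ _ h
        rw [beq_iff] at hk
        have e := mul_mem (inv_mem hf) this
        rw [hk, hM.one] at e
        convert e using 1
        simp [mul_assoc]
    · rw [hb] at h
      simp only [cond_true, Bool.and_eq_true, beq_iff] at h
      obtain ⟨hc, h⟩ := h
      subst hc
      cases hk : Nat.beq (fL (C.facts.get (Nat.div (Nat.land S 16777215) 2))) C.k
      · rw [hk] at h
        cases w with
        | nil => exact Bool.noConfusion (h : false = true)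
        | cons a w =>
          simp only [cond_false, Bool.and_eq_true, beq_iff] at h
          have := follow_sound hM hprev m _ _ _ h.2
          rw [ev_cons, h.1]
          have e := mul_mem hf this
          convert e using 1
          simp [mul_assoc]
      · rw [hk] at h
        have := follow_sound hM hprev m _ _ _ h
        rw [beq_iff] at hk
        have e := mul_mem hf this
        rw [hk, hM.one] at e
        convert e using 1
        simp [mul_assoc]

theorem step_sound (hM : Model f C M) {i S : ℕ}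
    (hprev : ∀ j, j < i → FactOK C f M j ∧ fL (C.facts.get j) ≤ C.k)
    (h : C.stepOK i S = true) : FactOK C f M i ∧ fL (C.facts.get i) ≤ C.k := by
  simp only [Cert.stepOK, force_eq, iteB_eq] at h
  cases hk : Nat.beq (Nat.land S 16777215) 0
  · rw [hk] at h
    simp only [cond_false, andB_eq, Bool.and_eq_true, beq_iff] at h
    obtain ⟨hl, hv, hfol⟩ := h
    have he := follow_sound hM hprev _ _ _ _ hfol
    set r := ruleAt C.k C.rules (Nat.sub (Nat.land S 16777215) 1) with hr
    have hrule : r.l ≤ C.k ∧
        ((r.sub = false ∧ ev f r.w = f r.l) ∨ (r.sub = true ∧ (ev f r.w)⁻¹ * f r.l ∈ M)) := by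
      rcases ruleAt_cases C.k C.rules (Nat.sub (Nat.land S 16777215) 1) with e | e
      · rw [← hr] at e
        rw [e]
        exact ⟨le_rfl, Or.inl ⟨rfl, hM.one.symm⟩⟩
      · rw [← hr] at e
        have hR := hM.rules
        simp only [Cert.rulesOK, andB_eq, Bool.and_eq_true] at hR
        have h2 := allL_spec hR.1 r e
        simp only [Cert.ruleOK, andB_eq, iteB_eq, Bool.and_eq_true, ble_iff] at h2
        refine ⟨h2.1, ?_⟩
        cases hs : r.sub
        · rw [hs] at h2
          refine Or.inl ⟨rfl, ?_⟩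
          have h3 := h2.2
          simp only [cond_false] at h3
          cases hnil : Nat.beq r.l C.k && Cfsg.Agent.Lib.CosetTable.eqL r.w []
          · rw [hnil, cond_false] at h3
            have hrot := eq_of_eqL h3
            have h1 : ev f (Cert.rotate (wordAt C.cyc r.ci) r.rot) = 1 := by
              rcases wordAt_cases C.cyc r.ci with q | q
              · rw [q]; simp [Cert.rotate, ev]
              · exact ev_rotate f _ (hM.cyc _ q)
            rw [hrot] at h1
            cases hl0 : Nat.beq r.l C.k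
            · rw [hl0, cond_false, ev_append, ev_cons, ev_nil, mul_one, hM.inv _ h2.1,
                mul_inv_eq_one] at h1
              exact h1
            · rw [hl0, cond_true] at h1
              rw [beq_iff] at hl0
              rw [h1, hl0, hM.one]
          · simp only [Bool.and_eq_true, beq_iff] at hnil
            rw [eq_of_eqL hnil.2, hnil.1, ev_nil, hM.one]
        · rw [hs] at h2
          refine Or.inr ⟨rfl, ?_⟩
          simp only [cond_true, Bool.and_eq_true] at h2
          have h3 := hM.subs _ (memL_iff h2.2.2.2)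
          rw [ev_append, ev_cons, ev_nil, mul_one] at h3
          rwa [ev_invW hM.inv (fun a ha => ble_iff.1 (allL_spec h2.2.2.1 a ha))] at h3
    refine ⟨?_, hl ▸ hrule.1⟩
    rw [FactOK, ← hl]
    rcases hrule.2 with ⟨_, e⟩ | ⟨hs, e⟩
    · rwa [← e]
    · rw [hs, cond_true, beq_iff] at hv
      rw [hv, el_zero, inv_one, mul_one] at he ⊢
      have := mul_mem he e
      convert this using 1
      simp [mul_assoc]
  · rw [hk] at h
    simp only [cond_true, andB_eq, Bool.and_eq_true, beq_iff, blt_iff] at h
    obtain ⟨hl, hlt, hu, hg⟩ := h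
    refine ⟨?_, hl.le⟩
    rw [FactOK, el_def (v := fV (C.facts.get i)) C (by rw [hu]; exact hlt), hu, hg, mul_inv_cancel]
    exact one_mem M

theorem goStream_succ (n i S : ℕ) : C.goStream (n + 1) i S = (C.stepOK i S &&
    C.goStream n (i + 1) (Nat.shiftRight S
      (Nat.mul 24 (Nat.add 2 (Nat.land (Nat.shiftRight S 24) 16777215))))) := by
  simp only [Cert.goStream, force_eq, andB_eq, Nat.succ_eq_add_one]

theorem goStreams_cons (q : ℕ × ℕ) (r : List (ℕ × ℕ)) (i : ℕ) :
    C.goStreams (q :: r) i = (C.goStream q.1 i q.2 && C.goStreams r (i + q.1)) := by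
  simp only [Cert.goStreams, force_eq, andB_eq, Nat.add_eq]

theorem wordsOK_cons (A : Tab) (w : List ℕ) (L : List (List ℕ)) (i : ℕ) :
    A.wordsOK (w :: L) i = (Cfsg.Agent.Lib.CosetTable.allL (fun a => Nat.blt a A.k) w &&
      (Nat.beq (A.walk w 0) i && A.wordsOK L (i + 1))) := by
  simp only [Tab.wordsOK, force_eq, andB_eq, Nat.succ_eq_add_one]

theorem goStream_sound (hM : Model f C M) :
    ∀ (n i S : ℕ), (∀ j, j < i → FactOK C f M j ∧ fL (C.facts.get j) ≤ C.k) →
      C.goStream n i S = true → ∀ j, j < i + n → FactOK C f M j ∧ fL (C.facts.get j) ≤ C.k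
  | 0, i, S, hp, _ => fun j hj => hp j (by omega)
  | n + 1, i, S, hp, h => by
    rw [goStream_succ, Bool.and_eq_true] at h
    intro j hj
    refine goStream_sound hM n (i + 1) _ (fun j' hj' => ?_) h.2 j (by omega)
    rcases Nat.lt_succ_iff_lt_or_eq.1 hj' with q | rfl
    · exact hp j' q
    · exact step_sound hM hp h.1

theorem goStreams_sound (hM : Model f C M) :
    ∀ (L : List (ℕ × ℕ)) (i : ℕ), (∀ j, j < i → FactOK C f M j ∧ fL (C.facts.get j) ≤ C.k) →
      C.goStreams L i = true → ∀ j, j < i + Cert.total L → FactOK C f M j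
  | [], i, hp, _ => fun j hj => (hp j hj).1
  | (n, S) :: r, i, hp, h => by
    rw [goStreams_cons, Bool.and_eq_true] at h
    intro j hj
    simp only [Cert.total] at hj
    exact goStreams_sound hM r (i + n) (goStream_sound hM n i S hp h.1) h.2 j (by omega)

/-- a checked table -/
structure Checked (C : Cert) (A : Tab) (N : ℕ) : Prop where
  streams : ∃ L, C.goStreams L 0 = true ∧ Cert.total L = N
  k : A.k = C.k
  pos : 0 < A.n
  node0 : A.nd 0 = 0
  rows : ∀ i, i < A.n → A.rowOK C N i = true
  words : A.wordsOK A.words 0 = true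
  wlen : A.words.length = A.n

theorem Checked.edge {A : Tab} {N : ℕ} (K : Checked C A N) (hM : Model f C M) {i g : ℕ}
    (hi : i < A.n) (hg : g < A.k) :
    A.act g i < A.n ∧ A.act (natAt C.inv g) (A.act g i) = i ∧
      el C f (A.nd i) * f g * (el C f (A.nd (A.act g i)))⁻¹ ∈ M := by
  have h := rangeAll_spec (K.rows i hi) g (Nat.zero_le _) (by omega)
  simp only [Tab.edgeOK, force_eq, andB_eq, Bool.and_eq_true, beq_iff, blt_iff] at h
  obtain ⟨h1, h2, h3, h4, h5, h6⟩ := h
  obtain ⟨L, hL, hN⟩ := K.streams
  have := goStreams_sound hM L 0 (fun j hj => absurd hj (Nat.not_lt_zero _)) hL (A.eid g i) (by omega)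
  rw [FactOK, h4, h5, h6] at this
  exact ⟨h1, h2, this⟩

theorem walk_cons (A : Tab) (a : ℕ) (w : List ℕ) (i : ℕ) :
    A.walk (a :: w) i = A.walk w (A.act a i) := force_eq _ _

theorem Checked.walk {A : Tab} {N : ℕ} (K : Checked C A N) (hM : Model f C M) :
    ∀ {w : List ℕ}, (∀ a ∈ w, a < A.k) → ∀ {i : ℕ}, i < A.n →
      A.walk w i < A.n ∧ el C f (A.nd i) * ev f w * (el C f (A.nd (A.walk w i)))⁻¹ ∈ M
  | [], _, i, hi => ⟨hi, by simp [Tab.walk, ev, one_mem]⟩
  | a :: w, hw, i, hi => by
    obtain ⟨h1, _, h3⟩ := K.edge hM hi (hw a (List.mem_cons_self ..))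
    obtain ⟨q1, q2⟩ := K.walk hM (fun b hb => hw b (List.mem_cons_of_mem _ hb)) h1
    rw [walk_cons]
    refine ⟨q1, ?_⟩
    have e := mul_mem h3 q2
    rw [ev_cons]
    convert e using 1
    simp [mul_assoc]

theorem wordsOK_spec (A : Tab) : ∀ (L : List (List ℕ)) (i : ℕ), A.wordsOK L i = true →
    ∀ j (hj : j < L.length), (∀ a ∈ L[j], a < A.k) ∧ A.walk L[j] 0 = i + j
  | [], _, _, j, hj => absurd hj (Nat.not_lt_zero _)
  | w :: L, i, h, j, hj => by
    rw [wordsOK_cons] at h
    simp only [Bool.and_eq_true, beq_iff] at h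
    cases j with
    | zero => exact ⟨fun a ha => blt_iff.1 (allL_spec h.1 a ha), h.2.1⟩
    | succ j =>
      obtain ⟨q1, q2⟩ := wordsOK_spec A L (i + 1) h.2.2 j (by simpa using hj)
      exact ⟨q1, by simpa [add_comm, add_left_comm, add_assoc] using q2⟩

/-- every word lies in the subgroup times the word of the coset it reaches -/
theorem Checked.cover {A : Tab} {N : ℕ} (K : Checked C A N) (hM : Model f C M) {w : List ℕ}
    (hw : ∀ a ∈ w, a < A.k) :
    A.walk w 0 < A.n ∧ ev f w * (ev f (A.words.getD (A.walk w 0) []))⁻¹ ∈ M := by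
  obtain ⟨h1, h2⟩ := K.walk hM hw K.pos
  have hlen : A.walk w 0 < A.words.length := by rw [K.wlen]; exact h1
  obtain ⟨q1, q2⟩ := wordsOK_spec A A.words 0 K.words _ hlen
  obtain ⟨-, h3⟩ := K.walk hM q1 K.pos
  rw [zero_add] at q2
  rw [q2] at h3
  refine ⟨h1, ?_⟩
  rw [List.getD_eq_getElem _ _ hlen]
  rw [K.node0, el_zero, one_mul] at h2 h3
  have e := mul_mem h2 (inv_mem h3)
  convert e using 1
  simp [mul_assoc]

end Cfsg.Agent.Lib.HN3.HOrder
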