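import Mathlib
import Cfsg.Agent.Lib.HN3.HOrderSound
import Cfsg.Agent.Lib.HN3.HOrderCheckM
import Cfsg.Agent.Lib.HN3.HOrderCheckU

/-!
Two elements `a`, `b` with nine relations generate at most 378000 elements, and two words in
them are equal as soon as they move three given cosets alike.
-/

namespace Cfsg.Agent.Lib.HN3.HOrder

variable {G : Type*} [Group G]

/-- the relations -/
def uRels : List (List ℕ) :=
  [[0, 0, 0, 0, 0, 0], [2, 2, 2, 2, 2, 2], [3, 0, 3, 0, 3, 0],
   [2, 2, 0, 0, 0, 2, 2, 0, 0, 0, 2, 2, 0, 0, 0], [2, 0, 2, 0, 2, 0, 2, 0],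
   [2, 0, 0, 0, 2, 0, 0, 0, 2, 0, 0, 0, 2, 0, 0, 0], [1, 2, 1, 2, 1, 2],
   [0, 0, 2, 2, 2, 0, 0, 2, 2, 2, 0, 0, 2, 2, 2],
   [0, 2, 2, 2, 0, 2, 2, 2, 0, 2, 2, 2, 0, 2, 2, 2]]

/-- the letters `a, a⁻¹, b, b⁻¹` -/
def uf (a b : G) : ℕ → G
  | 0 => a
  | 1 => a⁻¹
  | 2 => b
  | 3 => b⁻¹
  | _ => 1

/-- the letters `b, b⁻¹, a³, a⁻³` -/
def mf (a b : G) : ℕ → G
  | 0 => b
  | 1 => b⁻¹
  | 2 => a * a * a
  | 3 => a⁻¹ * a⁻¹ * a⁻¹
  | _ => 1

/-- the letters of `mf` as words -/
def sigma : ℕ → List ℕ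
  | 0 => [2]
  | 1 => [3]
  | 2 => [0, 0, 0]
  | 3 => [1, 1, 1]
  | _ => []

/-- the relations hold -/
def URel (a b : G) : Prop := ∀ w ∈ uRels, ev (uf a b) w = 1

theorem ev_sigma (a b : G) : ∀ w : List ℕ, ev (uf a b) (w.flatMap sigma) = ev (mf a b) w
  | [] => rfl
  | l :: w => by
    rw [List.flatMap_cons, ev_append, ev_sigma a b w, ev_cons]
    congr 1
    match l with
    | 0 | 1 | 2 | 3 => simp [ev, sigma, uf, mf, mul_assoc]
    | n + 4 => simp [ev, sigma, mf]

theorem inv_U : DataU.cert.inv = [1, 0, 3, 2, 4] := rfl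

theorem inv_M : DataM.cert.inv = [1, 0, 3, 2, 4] := rfl

theorem inv_uf (a b : G) : ∀ l, l ≤ 4 → uf a b (Cfsg.Agent.Lib.CosetTable.natAt DataU.cert.inv l)
    = (uf a b l)⁻¹ := by
  intro l hl
  rw [inv_U]
  match l, hl with
  | 0, _ => rfl
  | 1, _ => exact (inv_inv a).symm
  | 2, _ => rfl
  | 3, _ => exact (inv_inv b).symm
  | 4, _ => exact inv_one.symm
  | n + 5, h => omega

theorem inv_mf (a b : G) : ∀ l, l ≤ 4 → mf a b (Cfsg.Agent.Lib.CosetTable.natAt DataM.cert.inv l)
    = (mf a b l)⁻¹ := by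
  intro l hl
  rw [inv_M]
  match l, hl with
  | 0, _ => rfl
  | 1, _ => exact (inv_inv b).symm
  | 2, _ => show a⁻¹ * a⁻¹ * a⁻¹ = (a * a * a)⁻¹; simp [mul_assoc]
  | 3, _ => show a * a * a = (a⁻¹ * a⁻¹ * a⁻¹)⁻¹; simp [mul_assoc]
  | 4, _ => exact inv_one.symm
  | n + 5, h => omega

theorem inv_lt : ∀ l : ℕ, l < 4 →
    Cfsg.Agent.Lib.CosetTable.natAt DataU.cert.inv l < 4 ∧
    Cfsg.Agent.Lib.CosetTable.natAt DataM.cert.inv l < 4 := by
  decide +kernel

/-- every element of the group generated by the letters is a word -/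
theorem exists_word (f : ℕ → G) (inv : List ℕ) (k : ℕ) (s : Set G)
    (hs : ∀ g ∈ s, ∃ l < k, f l = g)
    (hinv : ∀ l, l < k → Cfsg.Agent.Lib.CosetTable.natAt inv l < k ∧
      f (Cfsg.Agent.Lib.CosetTable.natAt inv l) = (f l)⁻¹) :
    ∀ g ∈ Subgroup.closure s, ∃ w, (∀ l ∈ w, l < k) ∧ ev f w = g := by
  intro g hg
  induction hg using Subgroup.closure_induction with
  | mem x hx =>
    obtain ⟨l, hl, rfl⟩ := hs x hx
    exact ⟨[l], by simpa using hl, by simp [ev]⟩
  | one => exact ⟨[], by simp, rfl⟩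
  | mul x y _ _ hx hy =>
    obtain ⟨u, hu, rfl⟩ := hx
    obtain ⟨v, hv, rfl⟩ := hy
    exact ⟨u ++ v, fun l hl => (List.mem_append.1 hl).elim (hu l) (hv l), ev_append f u v⟩
  | inv x _ hx =>
    obtain ⟨u, hu, rfl⟩ := hx
    clear * - hu hinv
    induction u with
    | nil => exact ⟨[], by simp, by simp [ev]⟩
    | cons a u ih =>
      have ha : a < k := hu a (List.mem_cons_self ..)
      obtain ⟨v, hv, hv'⟩ := ih (fun l hl => hu l (List.mem_cons_of_mem _ hl))
      refine ⟨v ++ [Cfsg.Agent.Lib.CosetTable.natAt inv a], fun l hl => ?_, ?_⟩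
      · rcases List.mem_append.1 hl with q | q
        · exact hv l q
        · rw [List.mem_singleton.1 q]; exact (hinv a ha).1
      · rw [ev_append, hv', ev_cons f a u, mul_inv_rev, ← (hinv a ha).2]
        simp [ev]

/-- the subgroup generated by `b` and `a³` -/
def mSub (a b : G) : Subgroup G := Subgroup.closure {b, a * a * a}

/-- the words of the 120 elements of `mSub` -/
def mWords : List (List ℕ) := DataM.words.map fun w => w.flatMap sigma

theorem cyc_M : ∀ w ∈ DataM.cyc,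
    w.flatMap sigma ∈ [[0, 1], [1, 0], [2, 3], [3, 2], [0, 0, 0, 1, 1, 1], [1, 1, 1, 0, 0, 0]] ∨
    w.flatMap sigma ∈ uRels ∨
    ∃ r ∈ uRels, invW DataU.cert.inv r = w.flatMap sigma := by
  decide +kernel

theorem cyc_U : ∀ w ∈ DataU.cyc,
    w ∈ [[0, 1], [1, 0], [2, 3], [3, 2]] ∨ w ∈ uRels ∨
    ∃ r ∈ uRels, invW DataU.cert.inv r = w := by
  decide +kernel

theorem uRels_le : ∀ r ∈ uRels, ∀ l ∈ r, l ≤ 4 := by decide +kernel

theorem model_M {a b : G} (h : URel a b) : Model (mf a b) DataM.cert ⊥ where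
  one := rfl
  inv := inv_mf a b
  cyc := fun w hw => by
    rw [← ev_sigma]
    rcases cyc_M w hw with q | q | ⟨r, hr, q⟩
    · generalize w.flatMap sigma = v at q
      fin_cases q <;> simp [ev, uf, mul_assoc]
    · exact h _ q
    · rw [← q, ev_invW (inv_uf a b) (uRels_le r hr), h r hr, inv_one]
  subs := fun w hw => absurd hw (by simp [DataM.cert, DataM.subs])
  rules := DataM.rules_ok

theorem model_U {a b : G} (h : URel a b) : Model (uf a b) DataU.cert (mSub a b) where
  one := rfl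
  inv := inv_uf a b
  cyc := fun w hw => by
    rcases cyc_U w hw with q | q | ⟨r, hr, q⟩
    · fin_cases q <;> simp [ev, uf]
    · exact h _ q
    · rw [← q, ev_invW (inv_uf a b) (uRels_le r hr), h r hr, inv_one]
  subs := fun w hw => by
    have hb : b ∈ mSub a b := Subgroup.subset_closure (by simp)
    have ha : a * a * a ∈ mSub a b := Subgroup.subset_closure (by simp)
    simp only [DataU.cert, DataU.subs, List.mem_cons, List.not_mem_nil, or_false] at hw
    rcases hw with rfl | rfl <;> simp [ev, uf, hb, ← mul_assoc, ha]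
  rules := DataU.rules_ok

open Cfsg.Agent.Lib.CosetTable (rangeAll rangeAll_spec allL_spec beq_iff)

theorem checked_M : Checked DataM.cert DataM.tab DataM.nFacts where
  streams := ⟨DataM.streams, DataM.streams_ok, DataM.streams_len⟩
  k := rfl
  pos := by show 0 < 120; norm_num
  node0 := by decide +kernel
  rows := fun i hi => rangeAll_spec DataM.rows_ok i (Nat.zero_le _) (by
    have : DataM.tab.n = 120 := rfl
    omega)
  words := DataM.words_ok
  wlen := DataM.words_len

theorem checked_U : Checked DataU.cert DataU.tab DataU.nFacts where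
  streams := ⟨DataU.streams, DataU.streams_ok, DataU.streams_len⟩
  k := rfl
  pos := by show 0 < 3150; norm_num
  node0 := by decide +kernel
  rows := fun i hi => rangeAll_spec DataU.rows_ok i (Nat.zero_le _) (by
    have : DataU.tab.n = 3150 := rfl
    omega)
  words := DataU.words_ok
  wlen := DataU.words_len

/-- the normal form of an element -/
def nfWord (j i : ℕ) : List ℕ := mWords.getD j [] ++ DataU.words.getD i []

/-- every element is a normal form -/
theorem exists_nf {a b : G} (h : URel a b) {g : G} (hg : g ∈ Subgroup.closure {a, b}) :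
    ∃ j < 120, ∃ i < 3150, g = ev (uf a b) (nfWord j i) := by
  obtain ⟨w, hw, rfl⟩ := exists_word (uf a b) DataU.cert.inv 4 {a, b}
    (by rintro g (rfl | rfl); exacts [⟨0, by norm_num, rfl⟩, ⟨2, by norm_num, rfl⟩])
    (fun l hl => ⟨(inv_lt l hl).1, inv_uf a b l hl.le⟩) g hg
  obtain ⟨hi, hm⟩ := checked_U.cover (model_U h) (w := w) hw
  obtain ⟨v, hv, hv'⟩ := exists_word (mf a b) DataM.cert.inv 4 {b, a * a * a}
    (by rintro g (rfl | rfl); exacts [⟨0, by norm_num, rfl⟩, ⟨2, by norm_num, rfl⟩])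
    (fun l hl => ⟨(inv_lt l hl).2, inv_mf a b l hl.le⟩) _ hm
  obtain ⟨hj, hm'⟩ := checked_M.cover (model_M h) (w := v) hv
  rw [Subgroup.mem_bot, mul_inv_eq_one] at hm'
  refine ⟨DataM.tab.walk v 0, hj, DataU.tab.walk w 0, hi, ?_⟩
  have hlen : DataM.tab.walk v 0 < DataM.words.length := by rw [DataM.words_len]; exact hj
  have e : mWords.getD (DataM.tab.walk v 0) [] =
      (DataM.words.getD (DataM.tab.walk v 0) []).flatMap sigma := by
    rw [mWords, List.getD_eq_getElem _ _ (by simpa using hlen), List.getElem_map,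
      List.getD_eq_getElem _ _ hlen]
  rw [nfWord, ev_append, e, ev_sigma]
  change ev (uf a b) w = ev (mf a b) (DataM.tab.words.getD _ []) *
    ev (uf a b) (DataU.tab.words.getD _ [])
  rw [← hm', hv', inv_mul_cancel_right]

/-- the subgroup generated by `a` and `b` has at most 378000 elements -/
theorem finite_card {a b : G} (h : URel a b) :
    Finite (Subgroup.closure {a, b} : Subgroup G) ∧
      Nat.card (Subgroup.closure {a, b} : Subgroup G) ≤ 378000 := by
  classical
  let S : Set G := Set.range fun p : Fin 120 × Fin 3150 => ev (uf a b) (nfWord p.1 p.2)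
  have hsub : ((Subgroup.closure {a, b} : Subgroup G) : Set G) ⊆ S := by
    intro g hg
    obtain ⟨j, hj, i, hi, rfl⟩ := exists_nf h hg
    exact ⟨(⟨j, hj⟩, ⟨i, hi⟩), rfl⟩
  have hfin : S.Finite := Set.finite_range _
  refine ⟨(hfin.subset hsub).to_subtype, ?_⟩
  refine (Nat.card_mono hfin hsub).trans ((Finite.card_range_le _).trans ?_)
  simp [Nat.card_eq_fintype_card]

end Cfsg.Agent.Lib.HN3.HOrder
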