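import Mathlib
import Cfsg.Agent.Lib.HN3.HOrderU

/-!
The table of 3150 cosets as permutations: deciding equality of words.
-/

namespace Cfsg.Agent.Lib.HN3.HOrder

open Cfsg.Agent.Lib.CosetTable (natAt rangeAll rangeAll_spec allL allL_spec beq_iff blt_iff andB_eq
  force_eq)

/-- image of a point under one of the four letters -/
noncomputable def uAct (l i : ℕ) : ℕ := DataU.tab.act l i

theorem uAct_spec {l i : ℕ} (hl : l < 4) (hi : i < 3150) :
    uAct l i < 3150 ∧ uAct (natAt DataU.cert.inv l) (uAct l i) = i := by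
  have h := rangeAll_spec (checked_U.rows i hi) l (Nat.zero_le _) (by
    have : DataU.tab.k = 4 := rfl
    omega)
  simp only [Tab.edgeOK, force_eq, andB_eq, Bool.and_eq_true, beq_iff, blt_iff] at h
  exact ⟨h.1, h.2.1⟩

theorem inv_inv_lt : ∀ l : ℕ, l < 4 →
    natAt DataU.cert.inv (natAt DataU.cert.inv l) = l := by
  decide +kernel

/-- one letter as a permutation, acting from the right -/
noncomputable def uPerm (l : ℕ) (hl : l < 4) : Equiv.Perm (Fin 3150) where
  toFun p := ⟨uAct (natAt DataU.cert.inv l) p, (uAct_spec (inv_lt l hl).1 p.2).1⟩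
  invFun p := ⟨uAct l p, (uAct_spec hl p.2).1⟩
  left_inv p := Fin.ext (by
    have := (uAct_spec (inv_lt l hl).1 p.2).2
    rwa [inv_inv_lt l hl] at this)
  right_inv p := Fin.ext (uAct_spec hl p.2).2

/-- the permutation of `a` -/
noncomputable def pa : Equiv.Perm (Fin 3150) := uPerm 0 (by norm_num)

/-- the permutation of `b` -/
noncomputable def pb : Equiv.Perm (Fin 3150) := uPerm 2 (by norm_num)

theorem uf_perm {l : ℕ} (hl : l < 4) : uf pa pb l = uPerm l hl := by
  match l with
  | 0 => rfl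
  | 1 => exact Equiv.ext fun p => rfl
  | 2 => rfl
  | 3 => exact Equiv.ext fun p => rfl
  | n + 4 => omega

theorem walk_perm : ∀ (w : List ℕ), (∀ l ∈ w, l < 4) → ∀ p : Fin 3150,
    ((ev (uf pa pb) w)⁻¹ p : ℕ) = DataU.tab.walk w p
  | [], _, p => by simp [ev, Tab.walk]
  | l :: w, hw, p => by
    have hl : l < 4 := hw l (List.mem_cons_self ..)
    rw [ev_cons, mul_inv_rev, Equiv.Perm.mul_apply,
      walk_perm w (fun m hm => hw m (List.mem_cons_of_mem _ hm)), walk_cons, uf_perm hl]
    rfl

/-- conditions on the relations -/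
noncomputable def relsOK (i : ℕ) : Bool :=
  allL (fun r => Nat.beq (DataU.tab.walk r i) i) uRels

theorem rels_ok : rangeAll relsOK 3150 0 = true := by decide +kernel

theorem uRels_lt : ∀ r ∈ uRels, ∀ l ∈ r, l < 4 := by decide +kernel

theorem uRel_perm : URel pa pb := fun w hw => by
  refine inv_eq_one.1 (Equiv.ext fun p => Fin.ext ?_)
  have h := allL_spec (rangeAll_spec rels_ok p.1 (Nat.zero_le _) (by omega)) w hw
  rw [beq_iff] at h
  rw [walk_perm w (uRels_lt w hw) p, h]
  rfl

variable {G : Type*} [Group G]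

theorem uf_prod (a b : G) (l : ℕ) : uf (a, pa) (b, pb) l = (uf a b l, uf pa pb l) := by
  match l with
  | 0 | 1 | 2 | 3 => rfl
  | n + 4 => rfl

theorem ev_prod (a b : G) : ∀ w : List ℕ,
    ev (uf (a, pa) (b, pb)) w = (ev (uf a b) w, ev (uf pa pb) w)
  | [] => rfl
  | l :: w => by rw [ev_cons, ev_prod a b w, uf_prod, ev_cons, ev_cons]; rfl

theorem URel.pair {a b : G} (h : URel a b) : URel (a, pa) (b, pb) := fun w hw => by
  rw [ev_prod, h w hw, uRel_perm w hw]; rfl

/-- the three cosets -/
def uBase : List ℕ := [0, 1, 3]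

/-- two words move the three cosets alike -/
noncomputable def sameU (w₁ w₂ : List ℕ) : Bool :=
  allL (fun p => Nat.beq (DataU.tab.walk w₁ p) (DataU.tab.walk w₂ p)) uBase

theorem mWords_sep : ∀ j : Fin 120, (∀ l ∈ mWords.getD j [], l < 4) ∧
    DataU.tab.walk (mWords.getD j []) 0 = 0 ∧
    (DataU.tab.walk (mWords.getD j []) 1 = 1 → DataU.tab.walk (mWords.getD j []) 3 = 3 →
      j = 0) := by
  decide +kernel

theorem words_zero : DataU.words.getD 0 [] = [] ∧ mWords.getD 0 [] = [] := by decide +kernel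

theorem walk_append (w v : List ℕ) : ∀ i, DataU.tab.walk (w ++ v) i =
    DataU.tab.walk v (DataU.tab.walk w i) := by
  induction w with
  | nil => intro i; rfl
  | cons a w ih => intro i; rw [List.cons_append, walk_cons, walk_cons, ih]

/-- equality of two words by the three cosets -/
theorem eq_of_same {a b : G} (h : URel a b) {w₁ w₂ : List ℕ} (h1 : ∀ l ∈ w₁, l < 4)
    (h2 : ∀ l ∈ w₂, l < 4) (hs : sameU w₁ w₂ = true) : ev (uf a b) w₁ = ev (uf a b) w₂ := by
  have hp := h.pair
  have hmem : ∀ w : List ℕ, ev (uf (a, pa) (b, pb)) w ∈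
      Subgroup.closure {(a, pa), (b, pb)} := by
    intro w
    refine list_prod_mem fun x hx => ?_
    obtain ⟨l, -, rfl⟩ := List.mem_map.1 hx
    match l with
    | 0 => exact Subgroup.subset_closure (by simp [uf])
    | 1 => exact inv_mem (Subgroup.subset_closure (by simp))
    | 2 => exact Subgroup.subset_closure (by simp [uf])
    | 3 => exact inv_mem (Subgroup.subset_closure (by simp))
    | n + 4 => exact one_mem _
  obtain ⟨j, hj, i, hi, e⟩ := exists_nf hp (mul_mem (hmem w₁) (inv_mem (hmem w₂)))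
  simp only [ev_prod, Prod.inv_mk, Prod.mk_mul_mk, Prod.mk.injEq] at e
  have hv : ∀ l ∈ DataU.words.getD i [], l < 4 := by
    have hlen : i < DataU.words.length := by rw [DataU.words_len]; exact hi
    rw [List.getD_eq_getElem _ _ hlen]
    exact (wordsOK_spec DataU.tab DataU.words 0 DataU.words_ok i hlen).1
  obtain ⟨hj1, hj0, hj13⟩ := mWords_sep ⟨j, hj⟩
  have hn : ∀ l ∈ nfWord j i, l < 4 := fun l hl =>
    (List.mem_append.1 hl).elim (hj1 l) (hv l)
  -- the perm component fixes the three cosets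
  have fix : ∀ p : Fin 3150, (p : ℕ) ∈ uBase → DataU.tab.walk (nfWord j i) p = p := by
    intro p hpm
    rw [← walk_perm _ hn p, ← e.2, mul_inv_rev, inv_inv, Equiv.Perm.mul_apply]
    have h' := beq_iff.1 (allL_spec hs _ hpm)
    rw [← walk_perm w₁ h1 p, ← walk_perm w₂ h2 p] at h'
    rw [Fin.ext h']
    simp
  have f0 := fix ⟨0, by norm_num⟩ (by simp [uBase])
  have f1 := fix ⟨1, by norm_num⟩ (by simp [uBase])
  have f3 := fix ⟨3, by norm_num⟩ (by simp [uBase])
  simp only [nfWord, walk_append] at f0 f1 f3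
  rw [hj0] at f0
  have hlen : i < DataU.words.length := by rw [DataU.words_len]; exact hi
  have q := (wordsOK_spec DataU.tab DataU.words 0 DataU.words_ok i hlen).2
  rw [← List.getD_eq_getElem _ [] hlen, f0] at q
  have hi0 : i = 0 := by omega
  subst hi0
  rw [words_zero.1] at f1 f3
  have hj' : j = 0 := congrArg Fin.val (hj13 f1 f3)
  subst hj'
  have e1 := e.1
  rw [nfWord, words_zero.1, words_zero.2] at e1
  exact mul_inv_eq_one.1 e1

end Cfsg.Agent.Lib.HN3.HOrder
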