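import Mathlib
import Cfsg.Agent.Lib.HN3.HRel
import Cfsg.Agent.Lib.HN3.HOrderPerm

/-!
In a group with the relations among `x, y, z`: `x²` is a central involution or trivial, the
elements `y` and `x⁻¹ y x` satisfy the nine relations, and their possible central element of
order three is trivial.
-/

namespace Cfsg.Agent.Lib.HN3.HOrder

variable {G : Type*} [Group G] {x y z : G}

/-- the five letters `x, x⁻¹, y, y⁻¹, z` -/
def hf (x y z : G) : ℕ → G
  | 0 => x
  | 1 => x⁻¹
  | 2 => y
  | 3 => y⁻¹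
  | 4 => z
  | _ => 1

theorem sq_inv (h : HRel x y z) : y * (x * x) * y⁻¹ = (x * x)⁻¹ := by
  have e := h.r2
  rw [pow_two] at e
  have e' : y * (x * x) * y⁻¹ = (x * x)⁻¹ * (x * x * y * (x * x) * y⁻¹) := by group
  rw [e', e, mul_one]

theorem x_four (h : HRel x y z) : (x * x) * (x * x) = 1 := by
  set c := x * x with hc
  have hy : y * c * y⁻¹ = c⁻¹ := sq_inv h
  have hy' : y * c⁻¹ * y⁻¹ = c := by
    have := congrArg (·⁻¹) hy
    simpa [mul_assoc] using this
  have hx : ∀ d, d = c ∨ d = c⁻¹ → x * d * x⁻¹ = d ∧ x⁻¹ * d * x = d := by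
    rintro d (rfl | rfl) <;> constructor <;> rw [hc] <;> group
  have y2 : ∀ d, d = c ∨ d = c⁻¹ → y * y * d * (y * y)⁻¹ = d := by
    rintro d (rfl | rfl)
    · calc y * y * c * (y * y)⁻¹ = y * (y * c * y⁻¹) * y⁻¹ := by group
        _ = c := by rw [hy, hy']
    · calc y * y * c⁻¹ * (y * y)⁻¹ = y * (y * c⁻¹ * y⁻¹) * y⁻¹ := by group
        _ = c⁻¹ := by rw [hy', hy]
  set u := x⁻¹ * (y * y) * x * (y * (y * y)) with hu
  have hu1 : u * c * u⁻¹ = c⁻¹ := by
    calc u * c * u⁻¹ = x⁻¹ * (y * y * (x * (y * (y * y * c * (y * y)⁻¹) * y⁻¹) * x⁻¹) *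
          (y * y)⁻¹) * x := by rw [hu]; group
      _ = c⁻¹ := by
        rw [y2 c (Or.inl rfl), hy, (hx _ (Or.inr rfl)).1, y2 _ (Or.inr rfl),
          (hx _ (Or.inr rfl)).2]
  have hu2 : u * c⁻¹ * u⁻¹ = c := by
    have := congrArg (·⁻¹) hu1
    simpa [mul_assoc] using this
  have h3 : u ^ 3 = 1 := by
    rw [← h.r4, hu]
    congr 1
    simp [pow_succ, mul_assoc]
  have key : c = c⁻¹ := by
    calc c = u ^ 3 * c * (u ^ 3)⁻¹ := by rw [h3]; group
      _ = u * (u * (u * c * u⁻¹) * u⁻¹) * u⁻¹ := by simp [pow_succ, mul_assoc]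
      _ = c⁻¹ := by rw [hu1, hu2, hu1]
  rw [mul_eq_one_iff_eq_inv]
  exact key

/-- the consequences for `c = x²` -/
structure Central (x y z : G) : Prop where
  sq : (x * x) * (x * x) = 1
  cy : Commute (x * x) y
  cz : Commute (x * x) z
  zx : z * x * z = x⁻¹
  zz : z * z = 1

theorem central (h : HRel x y z) : Central x y z := by
  have h4 := x_four h
  have hc : (x * x)⁻¹ = x * x := inv_eq_of_mul_eq_one_right h4
  have hzz : z * z = 1 := by rw [← pow_two]; exact h.r7
  have hzx : z * x * z = x⁻¹ := by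
    rw [← mul_eq_one_iff_eq_inv]
    have := h.r8
    rw [pow_two] at this
    simpa [mul_assoc] using this
  refine ⟨h4, ?_, ?_, hzx, hzz⟩
  · have := sq_inv h
    rw [hc, mul_inv_eq_iff_eq_mul] at this
    exact this.symm
  · have e : z * (x * x) * z = x * x := by
      calc z * (x * x) * z = z * x * (z * z) * x * z := by rw [hzz]; group
        _ = (z * x * z) * (z * x * z) := by group
        _ = x * x := by rw [hzx, ← mul_inv_rev, hc]
    show x * x * z = z * (x * x)
    calc x * x * z = z * (x * x) * (z * z) := by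
          conv_lhs => rw [← e]
          group
      _ = z * (x * x) := by rw [hzz, mul_one]

theorem Central.x_inv (C : Central x y z) : x⁻¹ = x * (x * x) := by
  rw [inv_eq_iff_mul_eq_one, ← mul_assoc]
  exact C.sq

theorem Central.cx (x : G) : Commute (x * x) x := (Commute.refl x).mul_left (Commute.refl x)

/-- conjugation by `x` exchanges `y` and `x⁻¹ y x` -/
theorem Central.swap (C : Central x y z) : x * y * x⁻¹ = x⁻¹ * y * x := by
  calc x * y * x⁻¹ = x⁻¹ * ((x * x) * y) * x⁻¹ := by group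
    _ = x⁻¹ * (y * (x * x)) * x⁻¹ := by rw [C.cy.eq]
    _ = x⁻¹ * y * x := by group

theorem swap_uf (C : Central x y z) : ∀ w : List ℕ, (∀ l ∈ w, l < 4) →
    x * ev (uf y (x⁻¹ * y * x)) w * x⁻¹ = ev (uf y (x⁻¹ * y * x)) (w.map fun l => (l + 2) % 4)
  | [], _ => by simp [ev]
  | l :: w, hw => by
    have hl : l < 4 := hw l (List.mem_cons_self ..)
    rw [List.map_cons, ev_cons, ev_cons,
      ← swap_uf C w (fun m hm => hw m (List.mem_cons_of_mem _ hm))]
    have e : x * uf y (x⁻¹ * y * x) l * x⁻¹ = uf y (x⁻¹ * y * x) ((l + 2) % 4) := by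
      match l, hl with
      | 0, _ => exact C.swap
      | 1, _ =>
        show x * y⁻¹ * x⁻¹ = (x⁻¹ * y * x)⁻¹
        rw [← C.swap]; group
      | 2, _ => show x * (x⁻¹ * y * x) * x⁻¹ = y; group
      | 3, _ => show x * (x⁻¹ * y * x)⁻¹ * x⁻¹ = y⁻¹; group
      | n + 4, h => omega
    rw [← e]
    group

theorem urel (h : HRel x y z) : URel y (x⁻¹ * y * x) := by
  have C := central h
  have g1 : ev (uf y (x⁻¹ * y * x)) [0, 0, 0, 0, 0, 0] = 1 := by
    rw [← h.r1]; simp [ev, uf, pow_succ, mul_assoc]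
  have g3 : ev (uf y (x⁻¹ * y * x)) [3, 0, 3, 0, 3, 0] = 1 := by
    rw [← h.r3]; simp [ev, uf, pow_succ, mul_assoc]
  have g4 : ev (uf y (x⁻¹ * y * x)) [2, 2, 0, 0, 0, 2, 2, 0, 0, 0, 2, 2, 0, 0, 0] = 1 := by
    rw [← h.r4]; simp [ev, uf, pow_succ, mul_assoc]
  have hc4 : (x * x) ^ 4 = 1 := by
    rw [show (x * x) ^ 4 = ((x * x) * (x * x)) ^ 2 by simp [pow_succ, mul_assoc], C.sq, one_pow]
  have mv : ∀ t : G, Commute (x * x) t → (x * x * t) ^ 4 = t ^ 4 := fun t ht => by
    rw [ht.mul_pow, hc4, one_mul]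
  have hcx := Central.cx x
  have hcb : Commute (x * x) (x⁻¹ * y * x) := ((hcx.inv_right).mul_right C.cy).mul_right hcx
  have g5 : ev (uf y (x⁻¹ * y * x)) [2, 0, 2, 0, 2, 0, 2, 0] = 1 := by
    have e : (x * x * (x⁻¹ * y * x * y)) ^ 4 = 1 := by
      rw [← h.r5, show (x * y) ^ 8 = ((x * y) * (x * y)) ^ 4 by rw [← pow_two, ← pow_mul]]
      congr 1
      group
    rw [mv _ (hcb.mul_right C.cy)] at e
    rw [← e]; simp [ev, uf, pow_succ, mul_assoc]
  have g6 : ev (uf y (x⁻¹ * y * x)) [2, 0, 0, 0, 2, 0, 0, 0, 2, 0, 0, 0, 2, 0, 0, 0] = 1 := by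
    have e : (x * x * (x⁻¹ * y * x * y ^ 3)) ^ 4 = 1 := by
      rw [← h.r6]
      congr 1
      group
    rw [mv _ (hcb.mul_right (C.cy.pow_right 3))] at e
    rw [← e]; simp [ev, uf, pow_succ, mul_assoc]
  have sw : ∀ w : List ℕ, (∀ l ∈ w, l < 4) → ev (uf y (x⁻¹ * y * x)) w = 1 →
      ev (uf y (x⁻¹ * y * x)) (w.map fun l => (l + 2) % 4) = 1 := fun w hw e => by
    rw [← swap_uf C w hw, e]; group
  intro w hw
  fin_cases hw
  · exact g1
  · exact sw _ (by decide) g1
  · exact g3
  · exact g4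
  · exact g5
  · exact g6
  · have e := congrArg (fun t : G => t⁻¹) g3
    simp only [inv_one] at e
    rw [← e]; simp [ev, uf, mul_assoc]
  · exact sw _ (by decide) g4
  · exact sw _ (by decide) g6

/-- the word of the possible central element of order three -/
def kW : List ℕ := [0, 2, 0, 0, 3, 0, 2, 0, 0, 3, 0, 2, 0, 0, 3, 0, 2, 0, 0, 3, 0, 2, 0, 0, 3, 0, 2, 0, 0, 3, 0, 2, 0, 0, 3]

/-- the same element by the letters `x, x⁻¹, y, y⁻¹` -/
def kV : List (List ℕ) := [[2, 0, 2, 0, 2, 2, 0, 3],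
  [0],
  [2, 0, 2, 0, 2, 2, 0, 3],
  [0],
  [2, 0, 2, 0, 2, 2, 0, 3],
  [0],
  [2, 0, 2, 0, 2, 2, 0, 3],
  [1],
  [2, 0, 2, 0, 2, 2, 0, 3],
  [1],
  [2, 0, 2, 0, 2, 2, 0, 3],
  [1],
  [2, 0, 2, 0, 2, 2, 0, 3],
  [1]]

/-- normal form `c^ci * (word) * x^e` -/
def nfStep : Bool × Bool × List ℕ → ℕ → Bool × Bool × List ℕ
  | (ci, e, u), 0 => (if e then !ci else ci, !e, u)
  | (ci, e, u), 1 => (if e then ci else !ci, !e, u)
  | (ci, e, u), 2 => (ci, e, u ++ [if e then 2 else 0])
  | (ci, e, u), 3 => (ci, e, u ++ [if e then 3 else 1])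
  | s, _ => s

/-- normal form of a word in `x, x⁻¹, y, y⁻¹` -/
def nfXY (w : List ℕ) : Bool × Bool × List ℕ := w.foldl nfStep (false, false, [])

/-- `x²` or `1` -/
def cpow (x : G) : Bool → G
  | true => x * x
  | false => 1

/-- `x` or `1` -/
def xpow (x : G) : Bool → G
  | true => x
  | false => 1

/-- the element of a normal form -/
def nfVal (x y : G) : Bool × Bool × List ℕ → G
  | (ci, e, u) => ev (uf y (x⁻¹ * y * x)) u * (cpow x ci * xpow x e)

theorem nfStep_val (C : Central x y z) (s : Bool × Bool × List ℕ) {l : ℕ} (hl : l < 4) :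
    nfVal x y (nfStep s l) = nfVal x y s * hf x y z l := by
  obtain ⟨ci, e, u⟩ := s
  have c0 : ∀ t : G, cpow x ci * t = cpow x ci * t := fun _ => rfl
  have cflip : cpow x (!ci) = cpow x ci * (x * x) := by
    cases ci <;> simp [cpow, C.sq]
  have hcomm : ∀ t : G, Commute (x * x) t → Commute (cpow x ci) t := fun t ht => by
    cases ci
    · exact Commute.one_left t
    · exact ht
  have y1 : cpow x ci * y = y * cpow x ci := (hcomm y C.cy).eq
  have y2 : cpow x ci * y⁻¹ = y⁻¹ * cpow x ci := (hcomm _ C.cy.inv_right).eq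
  have hb : Commute (x * x) (x⁻¹ * y * x) :=
    (((Central.cx x).inv_right).mul_right C.cy).mul_right (Central.cx x)
  match l, hl with
  | 0, _ =>
    cases e
    · show ev _ u * (cpow x ci * x) = ev _ u * (cpow x ci * 1) * x
      group
    · show ev _ u * (cpow x (!ci) * 1) = ev _ u * (cpow x ci * x) * x
      rw [cflip]; group
  | 1, _ =>
    cases e
    · show ev _ u * (cpow x (!ci) * x) = ev _ u * (cpow x ci * 1) * x⁻¹
      rw [cflip, C.x_inv]; group
    · show ev _ u * (cpow x ci * 1) = ev _ u * (cpow x ci * x) * x⁻¹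
      group
  | 2, _ =>
    cases e
    · show ev _ (u ++ [0]) * (cpow x ci * 1) = ev _ u * (cpow x ci * 1) * y
      simp only [ev_append, ev_cons, ev_nil, mul_one, mul_assoc, y1]
      rfl
    · show ev _ (u ++ [2]) * (cpow x ci * x) = ev _ u * (cpow x ci * x) * y
      rw [ev_append, ev_cons, ev_nil, mul_one,
        show ev (uf y (x⁻¹ * y * x)) u * (cpow x ci * x) * y
          = ev (uf y (x⁻¹ * y * x)) u * (cpow x ci * (x * y * x⁻¹) * x) by group, C.swap,
        (hcomm _ hb).eq]
      show _ * (x⁻¹ * y * x) * _ = _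
      group
  | 3, _ =>
    cases e
    · show ev _ (u ++ [1]) * (cpow x ci * 1) = ev _ u * (cpow x ci * 1) * y⁻¹
      simp only [ev_append, ev_cons, ev_nil, mul_one, mul_assoc, y2]
      rfl
    · show ev _ (u ++ [3]) * (cpow x ci * x) = ev _ u * (cpow x ci * x) * y⁻¹
      rw [ev_append, ev_cons, ev_nil, mul_one,
        show ev (uf y (x⁻¹ * y * x)) u * (cpow x ci * x) * y⁻¹
          = ev (uf y (x⁻¹ * y * x)) u * (cpow x ci * (x * y * x⁻¹)⁻¹ * x) by group, C.swap,
        (hcomm _ hb.inv_right).eq]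
      show _ * (x⁻¹ * y * x)⁻¹ * _ = _
      group
  | n + 4, h => omega

theorem nfXY_val (C : Central x y z) :
    ∀ (w : List ℕ) (s : Bool × Bool × List ℕ), (∀ l ∈ w, l < 4) →
      nfVal x y (w.foldl nfStep s) = nfVal x y s * ev (hf x y z) w
  | [], s, _ => by simp [ev]
  | l :: w, s, hw => by
    rw [List.foldl_cons, nfXY_val C w _ (fun m hm => hw m (List.mem_cons_of_mem _ hm)),
      nfStep_val C s (hw l (List.mem_cons_self ..)), ev_cons, mul_assoc]

theorem ev_nfXY (C : Central x y z) {w : List ℕ} (hw : ∀ l ∈ w, l < 4) :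
    ev (hf x y z) w = nfVal x y (nfXY w) := by
  rw [nfXY, nfXY_val C w _ hw]
  simp [nfVal, ev, cpow, xpow]

theorem kW_nf : nfXY kV.flatten = (false, false, kW) := by decide +kernel

theorem kV_lt : ∀ l ∈ kV.flatten, l < 4 := by decide +kernel

theorem kV_mem : ∀ v ∈ kV, v ∈ [[0], [1], [2, 0, 2, 0, 2, 2, 0, 3], [2, 1, 3, 3, 1, 3, 1, 3]] := by
  decide +kernel

theorem kW_lt : ∀ l ∈ kW, l < 4 := by decide +kernel

theorem z_piece (h : HRel x y z) {v : List ℕ}
    (hv : v ∈ [[0], [1], [2, 0, 2, 0, 2, 2, 0, 3], [2, 1, 3, 3, 1, 3, 1, 3]]) :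
    z * ev (hf x y z) v * z = ev (hf x y z) v * (x * x) := by
  have C := central h
  have hz : z⁻¹ = z := inv_eq_of_mul_eq_one_right C.zz
  have hci : (x * x)⁻¹ = x * x := inv_eq_of_mul_eq_one_right C.sq
  have w9 : z * (y * x * y * x * (y * y) * x * y⁻¹) * z
      = y * x * y * x * (y * y) * x * y⁻¹ * (x * x) := by
    set w := y * x * y * x * (y * y) * x * y⁻¹ with hw
    have e := h.r9
    rw [pow_two, pow_two, ← hw, hz, mul_inv_eq_one] at e
    have e1 : z * w⁻¹ * z = (x * x) * w⁻¹ := by rw [← e]; group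
    calc z * w * z = (z * w⁻¹ * z)⁻¹ := by simp [mul_assoc, hz]
      _ = ((x * x) * w⁻¹)⁻¹ := by rw [e1]
      _ = w * (x * x) := by rw [mul_inv_rev, inv_inv, hci]
  fin_cases hv
  · simp only [ev, List.map_cons, List.map_nil, List.prod_cons, List.prod_nil, mul_one, hf]
    rw [C.zx, C.x_inv]
  · simp only [ev, List.map_cons, List.map_nil, List.prod_cons, List.prod_nil, mul_one, hf]
    calc z * x⁻¹ * z = (z * x * z)⁻¹ := by simp [mul_assoc, hz]
      _ = x⁻¹ * (x * x) := by rw [C.zx]; group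
  · simp only [ev, List.map_cons, List.map_nil, List.prod_cons, List.prod_nil, mul_one, hf]
    have e : y * (x * (y * (x * (y * (y * (x * y⁻¹)))))) = y * x * y * x * (y * y) * x * y⁻¹ := by
      group
    rw [e, w9]
  · simp only [ev, List.map_cons, List.map_nil, List.prod_cons, List.prod_nil, mul_one, hf]
    set w := y * x * y * x * (y * y) * x * y⁻¹ with hw
    have e : y * (x⁻¹ * (y⁻¹ * (y⁻¹ * (x⁻¹ * (y⁻¹ * (x⁻¹ * y⁻¹)))))) = w⁻¹ := by rw [hw]; group
    have hcw : Commute (x * x) w⁻¹ := by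
      have hy := C.cy
      have hx := Central.cx x
      exact ((((((hy.mul_right hx).mul_right hy).mul_right hx).mul_right
        (hy.mul_right hy)).mul_right hx).mul_right hy.inv_right).inv_right
    rw [e]
    calc z * w⁻¹ * z = (z * w * z)⁻¹ := by simp [mul_assoc, hz]
      _ = (w * (x * x))⁻¹ := by rw [w9]
      _ = w⁻¹ * (x * x) := by rw [mul_inv_rev, hci, hcw.eq]

theorem z_prod (h : HRel x y z) : ∀ L : List (List ℕ),
    (∀ v ∈ L, v ∈ [[0], [1], [2, 0, 2, 0, 2, 2, 0, 3], [2, 1, 3, 3, 1, 3, 1, 3]]) →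
    z * ev (hf x y z) L.flatten * z = ev (hf x y z) L.flatten * (x * x) ^ L.length
  | [], _ => by simp [ev, (central h).zz]
  | v :: L, hL => by
    have C := central h
    have ih := z_prod h L fun u hu => hL u (List.mem_cons_of_mem _ hu)
    have hc : Commute (x * x) (ev (hf x y z) L.flatten) := by
      refine Commute.list_prod_right _ _ fun t ht => ?_
      obtain ⟨l, -, rfl⟩ := List.mem_map.1 ht
      match l with
      | 0 => exact Central.cx x
      | 1 => exact (Central.cx x).inv_right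
      | 2 => exact C.cy
      | 3 => exact C.cy.inv_right
      | 4 => exact C.cz
      | n + 5 => exact Commute.one_right _
    calc z * ev (hf x y z) (v :: L).flatten * z
        = (z * ev (hf x y z) v * z) * (z * ev (hf x y z) L.flatten * z) := by
          rw [List.flatten_cons, ev_append]
          calc _ = z * ev (hf x y z) v * (z * z) * (ev (hf x y z) L.flatten) * z := by
                rw [C.zz]; group
            _ = _ := by group
      _ = _ := by
        rw [z_piece h (hL v (List.mem_cons_self ..)), ih, List.flatten_cons, ev_append,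
          List.length_cons, pow_succ']
        calc _ = ev (hf x y z) v * ((x * x) * ev (hf x y z) L.flatten) * (x * x) ^ L.length := by
              group
          _ = _ := by simp only [hc.eq, mul_assoc]

/-- the candidate central element is trivial -/
theorem kill (h : HRel x y z) : ev (uf y (x⁻¹ * y * x)) kW = 1 := by
  have C := central h
  have U := urel h
  set k := ev (uf y (x⁻¹ * y * x)) kW with hk
  have k3 : k * k * k = 1 := by
    have := eq_of_same U (w₁ := kW ++ kW ++ kW) (w₂ := []) (by decide +kernel)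
      (by decide +kernel) (by decide +kernel)
    rwa [ev_append, ev_append, ev_nil] at this
  have ky : y * k = k * y := by
    have := eq_of_same U (w₁ := [0] ++ kW) (w₂ := kW ++ [0]) (by decide +kernel)
      (by decide +kernel) (by decide +kernel)
    rwa [ev_append, ev_append, ev_cons, ev_nil, mul_one] at this
  have kx : x * k * x⁻¹ = k⁻¹ := by
    rw [hk, swap_uf C kW kW_lt, ← ev_invW (inv_uf _ _) (fun l hl => (kW_lt l hl).le)]
    exact eq_of_same U (by decide +kernel) (by decide +kernel) (by decide +kernel)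
  have kV' : k = ev (hf x y z) kV.flatten := by
    rw [ev_nfXY C kV_lt, kW_nf]
    simp [nfVal, cpow, xpow, hk]
  have kz : z * k * z = k := by
    rw [kV', z_prod h kV kV_mem, show kV.length = 14 by decide +kernel, pow_mul (x * x) 2 7 |>.trans
      (by rw [pow_two, C.sq, one_pow]), mul_one]
  have hz : z⁻¹ = z := inv_eq_of_mul_eq_one_right C.zz
  -- conjugation
  let φ : G → MulAut G := MulAut.conj
  have fy : MulAut.conj y k = k := by simp [ky]
  have fy' : MulAut.conj y k⁻¹ = k⁻¹ := by rw [map_inv, fy]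
  have fx : MulAut.conj x k = k⁻¹ := by simpa using kx
  have fx' : MulAut.conj x k⁻¹ = k := by rw [map_inv, fx, inv_inv]
  have fz : MulAut.conj z k = k := by simp [hz, kz]
  have fz' : MulAut.conj z k⁻¹ = k⁻¹ := by rw [map_inv, fz]
  set u := (y ^ 3) * x * y * x * y with hu
  have fy3 : MulAut.conj (y ^ 3) k = k := by
    rw [show y ^ 3 = y * y * y by simp [pow_succ]]
    simp only [map_mul, MulAut.mul_apply, fy]
  have fu : MulAut.conj u k = k := by
    simp only [hu, map_mul, MulAut.mul_apply, fy, fx, fy', fx', fy3]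
  have fui : MulAut.conj u⁻¹ k = k := by
    conv_lhs => rw [← fu]
    rw [← MulAut.mul_apply, ← map_mul, inv_mul_cancel, map_one, MulAut.one_apply]
  have fui' : MulAut.conj u⁻¹ k⁻¹ = k⁻¹ := by rw [map_inv, fui]
  have fu' : MulAut.conj u k⁻¹ = k⁻¹ := by rw [map_inv, fu]
  have r := h.r10
  rw [← hu] at r
  have e := congrArg (fun t => MulAut.conj t k) r
  simp only [map_one, MulAut.one_apply] at e
  simp only [pow_three, map_mul, MulAut.mul_apply, fx, fx', fz, fz', fu, fu', fui, fui'] at e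
  calc k = k * k * k⁻¹ := by group
    _ = k * k * k := by rw [e]
    _ = 1 := k3

end Cfsg.Agent.Lib.HN3.HOrder
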