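import Mathlib
import Cfsg.Agent.Lib.HN3.HOrderKill

/-!
The subgroup generated by `x` and `y` has at most 504000 elements; deciding equality of its
words.
-/

namespace Cfsg.Agent.Lib.HN3.HOrder

variable {G : Type*} [Group G] {x y z : G}

theorem kW_moves : DataU.tab.walk kW 1 ≠ 1 ∨ DataU.tab.walk kW 3 ≠ 3 ∨
    DataU.tab.walk kW 0 ≠ 0 := by
  decide +kernel

theorem pa_k : ev (uf pa pb) kW ≠ 1 := by
  intro e
  have key : ∀ p : Fin 3150, DataU.tab.walk kW p = p := fun p => by
    rw [← walk_perm kW kW_lt p, e]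
    rfl
  rcases kW_moves with h | h | h
  · exact h (key ⟨1, by norm_num⟩)
  · exact h (key ⟨3, by norm_num⟩)
  · exact h (key ⟨0, by norm_num⟩)

theorem ev_uf_mem (a b : G) (w : List ℕ) : ev (uf a b) w ∈ Subgroup.closure {a, b} := by
  refine list_prod_mem fun t ht => ?_
  obtain ⟨l, -, rfl⟩ := List.mem_map.1 ht
  match l with
  | 0 => exact Subgroup.subset_closure (by simp [uf])
  | 1 => exact inv_mem (Subgroup.subset_closure (by simp))
  | 2 => exact Subgroup.subset_closure (by simp [uf])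
  | 3 => exact inv_mem (Subgroup.subset_closure (by simp))
  | n + 4 => exact one_mem _

theorem u_card (h : HRel x y z) :
    Finite (Subgroup.closure {y, x⁻¹ * y * x} : Subgroup G) ∧
      Nat.card (Subgroup.closure {y, x⁻¹ * y * x} : Subgroup G) ≤ 126000 := by
  set b := x⁻¹ * y * x with hb
  have hp := (urel h).pair
  set P := Subgroup.closure {((y, pa) : G × Equiv.Perm (Fin 3150)), (b, pb)} with hP
  obtain ⟨hfin, hle⟩ := finite_card hp
  have hmap : P.map (MonoidHom.fst _ _) = Subgroup.closure {y, b} := by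
    simp only [hP, MonoidHom.map_closure, Set.image_insert_eq, Set.image_singleton,
      MonoidHom.coe_fst]
  let π : P →* G := (MonoidHom.fst _ _).comp P.subtype
  have hr : π.range = Subgroup.closure {y, b} := by
    rw [MonoidHom.range_comp, Subgroup.range_subtype, hmap]
  have hfinP : Finite P := hfin
  set t := ev (uf ((y, pa) : G × Equiv.Perm (Fin 3150)) (b, pb)) kW with ht
  have tP : t ∈ P := ev_uf_mem _ _ kW
  have t3 : t * t * t = 1 := by
    have := eq_of_same hp (w₁ := kW ++ kW ++ kW) (w₂ := []) (by decide +kernel)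
      (by decide +kernel) (by decide +kernel)
    rwa [ev_append, ev_append, ev_nil] at this
  have tk : (⟨t, tP⟩ : P) ∈ π.ker := by
    show (t).1 = 1
    rw [ht, ev_prod]
    exact kill h
  have tne : t ≠ 1 := fun e => pa_k (by
    rw [ht, ev_prod] at e
    exact congrArg Prod.snd e)
  have hord : orderOf (⟨⟨t, tP⟩, tk⟩ : π.ker) = 3 := by
    have : Fact (Nat.Prime 3) := ⟨Nat.prime_three⟩
    refine orderOf_eq_prime ?_ fun e => tne (congrArg Subtype.val (congrArg Subtype.val e))
    apply Subtype.ext; apply Subtype.ext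
    simpa [pow_succ] using t3
  have hk : 3 ≤ Nat.card π.ker := Nat.le_of_dvd Nat.card_pos (hord ▸ orderOf_dvd_natCard _)
  have hc : Nat.card π.range * Nat.card π.ker = Nat.card P := by
    rw [← Subgroup.index_ker π, mul_comm, Subgroup.card_mul_index]
  refine ⟨?_, ?_⟩
  · rw [← hr]; exact Finite.of_surjective π.rangeRestrict π.rangeRestrict_surjective
  · rw [← hr]
    have : Nat.card P ≤ 378000 := hle
    nlinarith [Nat.zero_le (Nat.card π.range)]

theorem inv_hf (x y z : G) : ∀ l, l < 4 →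
    Cfsg.Agent.Lib.CosetTable.natAt [1, 0, 3, 2] l < 4 ∧
      hf x y z (Cfsg.Agent.Lib.CosetTable.natAt [1, 0, 3, 2] l) = (hf x y z l)⁻¹ := by
  intro l hl
  match l, hl with
  | 0, _ => exact ⟨by decide, rfl⟩
  | 1, _ => exact ⟨by decide, (inv_inv x).symm⟩
  | 2, _ => exact ⟨by decide, rfl⟩
  | 3, _ => exact ⟨by decide, (inv_inv y).symm⟩
  | n + 4, h => omega

theorem xy_card (h : HRel x y z) :
    Finite (Subgroup.closure {x, y} : Subgroup G) ∧
      Nat.card (Subgroup.closure {x, y} : Subgroup G) ≤ 504000 := by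
  classical
  obtain ⟨hfin, hle⟩ := u_card h
  set U := Subgroup.closure {y, x⁻¹ * y * x} with hU
  let φ : U × Bool × Bool → G := fun p => (p.1 : G) * (cpow x p.2.1 * xpow x p.2.2)
  have hsub : ((Subgroup.closure {x, y} : Subgroup G) : Set G) ⊆ Set.range φ := by
    intro g hg
    obtain ⟨w, hw, rfl⟩ := exists_word (hf x y z) [1, 0, 3, 2] 4 {x, y}
      (by rintro g (rfl | rfl); exacts [⟨0, by norm_num, rfl⟩, ⟨2, by norm_num, rfl⟩])
      (inv_hf x y z) g hg
    rw [ev_nfXY (central h) hw]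
    obtain ⟨ci, e, u⟩ := nfXY w
    exact ⟨(⟨_, ev_uf_mem _ _ u⟩, ci, e), rfl⟩
  have hf' : (Set.range φ).Finite := Set.finite_range _
  refine ⟨(hf'.subset hsub).to_subtype, ?_⟩
  refine (Nat.card_mono hf' hsub).trans ((Finite.card_range_le _).trans ?_)
  rw [Nat.card_prod, Nat.card_prod, Nat.card_eq_fintype_card (α := Bool), Fintype.card_bool]
  omega

/-- the words of `u` and `v` are equal up to the trivial central element -/
noncomputable def sameK (u v : List ℕ) : Bool :=
  sameU u v || sameU u (v ++ kW) || sameU u (v ++ (kW ++ kW))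

/-- two normal forms agree -/
noncomputable def sameNF : Bool × Bool × List ℕ → Bool × Bool × List ℕ → Bool
  | (c₁, e₁, u₁), (c₂, e₂, u₂) => (c₁ == c₂) && ((e₁ == e₂) && sameK u₁ u₂)

/-- two words in `x, x⁻¹, y, y⁻¹` are equal -/
noncomputable def xyOK (w₁ w₂ : List ℕ) : Bool :=
  w₁.all (fun l => Nat.blt l 4) && (w₂.all (fun l => Nat.blt l 4) &&
    sameNF (nfXY w₁) (nfXY w₂))

theorem nf_lt : ∀ (w : List ℕ) (s : Bool × Bool × List ℕ), (∀ l ∈ s.2.2, l < 4) →
    ∀ l ∈ (w.foldl nfStep s).2.2, l < 4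
  | [], _, hs => hs
  | a :: w, (ci, e, u), hs => by
    refine nf_lt w _ ?_
    match a with
    | 0 | 1 => exact hs
    | 2 | 3 =>
      intro l hl
      rcases List.mem_append.1 hl with q | q
      · exact hs l q
      · rw [List.mem_singleton.1 q]; cases e <;> decide
    | n + 4 => exact hs

theorem eq_of_xyOK (h : HRel x y z) {w₁ w₂ : List ℕ} (hok : xyOK w₁ w₂ = true) :
    ev (hf x y z) w₁ = ev (hf x y z) w₂ := by
  simp only [xyOK, Bool.and_eq_true, List.all_eq_true, Cfsg.Agent.Lib.CosetTable.blt_iff] at hok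
  obtain ⟨h1, h2, h3⟩ := hok
  have l1 := nf_lt w₁ (false, false, []) (by simp)
  have l2 := nf_lt w₂ (false, false, []) (by simp)
  rw [ev_nfXY (central h) h1, ev_nfXY (central h) h2]
  change ∀ l ∈ (nfXY w₁).2.2, l < 4 at l1
  change ∀ l ∈ (nfXY w₂).2.2, l < 4 at l2
  revert h3 l1 l2
  generalize nfXY w₁ = s
  generalize nfXY w₂ = t
  obtain ⟨c₁, e₁, u₁⟩ := s
  obtain ⟨c₂, e₂, u₂⟩ := t
  intro h3 l1 l2
  simp only [sameNF, sameK, Bool.and_eq_true, beq_iff_eq, Bool.or_eq_true] at h3
  obtain ⟨rfl, rfl, h3⟩ := h3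
  have U := urel h
  have hkk : ∀ l ∈ kW ++ kW, l < 4 := fun l hl => (List.mem_append.1 hl).elim (kW_lt l) (kW_lt l)
  have : ev (uf y (x⁻¹ * y * x)) u₁ = ev (uf y (x⁻¹ * y * x)) u₂ := by
    rcases h3 with (q | q) | q
    · exact eq_of_same U l1 l2 q
    · rw [eq_of_same U l1 (fun l hl => (List.mem_append.1 hl).elim (l2 l) (kW_lt l)) q, ev_append,
        kill h, mul_one]
    · rw [eq_of_same U l1 (fun l hl => (List.mem_append.1 hl).elim (l2 l) (hkk l)) q, ev_append,
        ev_append, kill h, mul_one, mul_one]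
  simp only [nfVal, this]

end Cfsg.Agent.Lib.HN3.HOrder
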