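import Mathlib
import Cfsg.Agent.Lib.HN3.HOrderXY

/-!
Checking rewriting derivations of coset equalities `⟨x, y⟩ u = ⟨x, y⟩ v`.
-/

namespace Cfsg.Agent.Lib.HN3.HOrder

open Cfsg.Agent.Lib.CosetTable (eqL)

/-- the letters of a packed word -/
noncomputable def unpack (fuel : ℕ) : ℕ → List ℕ :=
  Nat.rec (motive := fun _ => ℕ → List ℕ) (fun _ => [])
    (fun _ ih w => Cfsg.Agent.Lib.CosetTable.iteB (Nat.beq w 0) []
      (Nat.sub (Nat.land w 7) 1 :: ih (Nat.shiftRight w 3))) fuel

/-- the letters of a packed word of at most 400 letters -/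
noncomputable def up (w : ℕ) : List ℕ := unpack 400 w

/-- a step -/
inductive Step
  | xy (pos len new : ℕ)
  | rule (pos a b : ℕ)
  | pre (i : ℕ)
  | preBack (i : ℕ)
  | abs (len new : ℕ)

/-- pairs `v, v'` with `z v = v' z` -/
def tauPairs : List (List ℕ × List ℕ) :=
  [([0], [1]), ([1], [0]),
   ([2, 0, 2, 0, 2, 2, 0, 3], [2, 0, 2, 0, 2, 2, 0, 3, 0, 0]),
   ([2, 1, 3, 3, 1, 3, 1, 3], [2, 1, 3, 3, 1, 3, 1, 3, 0, 0])]

/-- a consequence of the last relator: the cube of `z u⁻¹ z u x` for `u = y³ x y x y` -/
def r10W : List ℕ :=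
  [4, 3, 1, 3, 1, 3, 3, 3, 4, 2, 2, 2, 0, 2, 0, 2, 0,
   4, 3, 1, 3, 1, 3, 3, 3, 4, 2, 2, 2, 0, 2, 0, 2, 0,
   4, 3, 1, 3, 1, 3, 3, 3, 4, 2, 2, 2, 0, 2, 0, 2, 0]

/-- the inverse of the last relator -/
noncomputable def r10I : List ℕ := invW [1, 0, 3, 2, 4] r10W

/-- the words equal to one -/
noncomputable def trivW : List (List ℕ) :=
  [4, 4] :: ((List.range r10W.length).map (Cert.rotate r10W) ++
    (List.range r10W.length).map (Cert.rotate r10I))

/-- a valid rule -/
noncomputable def validRule (a b : List ℕ) : Bool :=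
  tauPairs.any (fun p =>
    (eqL a (4 :: p.1) && eqL b (p.2 ++ [4])) || ((eqL b (4 :: p.1) && eqL a (p.2 ++ [4])) ||
    ((eqL a (4 :: p.2) && eqL b (p.1 ++ [4])) || (eqL b (4 :: p.2) && eqL a (p.1 ++ [4]))))) ||
  ((eqL a [] && trivW.any (fun r => eqL b r)) || (eqL b [] && trivW.any (fun r => eqL a r)))

/-- replace a segment -/
noncomputable def splice (cur : List ℕ) (pos len : ℕ) (new : List ℕ) : List ℕ :=
  cur.take pos ++ (new ++ (cur.drop pos).drop len)

/-- run one step -/
noncomputable def applyStep (F : List (ℕ × ℕ)) (n : ℕ) (cur : List ℕ) : Step → Option (List ℕ)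
  | .xy pos len new =>
    bif xyOK ((cur.drop pos).take len) (up new) then some (splice cur pos len (up new)) else none
  | .rule pos a b =>
    bif eqL ((cur.drop pos).take (up a).length) (up a) && validRule (up a) (up b) then
      some (splice cur pos (up a).length (up b)) else none
  | .pre i =>
    bif Nat.blt i n && eqL (cur.take (up (F.getD i (0, 0)).1).length) (up (F.getD i (0, 0)).1)
    then some (up (F.getD i (0, 0)).2 ++ cur.drop (up (F.getD i (0, 0)).1).length) else none
  | .preBack i =>
    bif Nat.blt i n && eqL (cur.take (up (F.getD i (0, 0)).2).length) (up (F.getD i (0, 0)).2)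
    then some (up (F.getD i (0, 0)).1 ++ cur.drop (up (F.getD i (0, 0)).2).length) else none
  | .abs len new =>
    bif (cur.take len).all (fun l => Nat.blt l 4) && (up new).all (fun l => Nat.blt l 4)
    then some (up new ++ cur.drop len) else none

/-- run the steps -/
noncomputable def runSteps (F : List (ℕ × ℕ)) (n : ℕ) : List Step → List ℕ → Option (List ℕ)
  | [], cur => some cur
  | s :: r, cur =>
    match applyStep F n cur s with
    | some c => runSteps F n r c
    | none => none

/-- fact `n` with its steps -/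
noncomputable def factOK (F : List (ℕ × ℕ)) (n : ℕ) (s : List Step) : Bool :=
  match runSteps F n s (up (F.getD n (0, 0)).1) with
  | some c => eqL c (up (F.getD n (0, 0)).2)
  | none => false

/-- consecutive facts -/
noncomputable def factsOK (F : List (ℕ × ℕ)) : List (List Step) → ℕ → Bool
  | [], _ => true
  | s :: r, n => factOK F n s && factsOK F r (n + 1)

theorem factsOK_append (F : List (ℕ × ℕ)) : ∀ (A B : List (List Step)) (n : ℕ),
    factsOK F (A ++ B) n = (factsOK F A n && factsOK F B (n + A.length))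
  | [], B, n => by simp [factsOK]
  | a :: A, B, n => by
    rw [List.cons_append, factsOK, factsOK, factsOK_append F A B (n + 1), Bool.and_assoc,
      List.length_cons, show n + 1 + A.length = n + (A.length + 1) by omega]

variable {G : Type*} [Group G] {x y z : G}

/-- the cosets of two words agree -/
def Co (x y z : G) (u v : List ℕ) : Prop :=
  ev (hf x y z) u * (ev (hf x y z) v)⁻¹ ∈ Subgroup.closure ({x, y} : Set G)

theorem Co.trans {u v w : List ℕ} (h : Co x y z u v) (h' : Co x y z v w) : Co x y z u w := by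
  have := mul_mem h h'
  rwa [mul_assoc, ← mul_assoc _⁻¹, inv_mul_cancel, one_mul] at this

theorem Co.refl (u : List ℕ) : Co x y z u u := by simp [Co, one_mem]

theorem Co.symm {u v : List ℕ} (h : Co x y z u v) : Co x y z v u := by
  have := inv_mem h
  rwa [mul_inv_rev, inv_inv] at this

theorem Co.append {u v : List ℕ} (h : Co x y z u v) (r : List ℕ) :
    Co x y z (u ++ r) (v ++ r) := by
  simpa [Co, ev_append, mul_assoc] using h

theorem co_of_eq {u v : List ℕ} (h : ev (hf x y z) u = ev (hf x y z) v) : Co x y z u v := by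
  simp [Co, h, one_mem]

theorem splice_eq {cur new : List ℕ} {pos len : ℕ}
    (h : ev (hf x y z) ((cur.drop pos).take len) = ev (hf x y z) new) :
    ev (hf x y z) cur = ev (hf x y z) (splice cur pos len new) := by
  conv_lhs => rw [← List.take_append_drop pos cur, ← List.take_append_drop len (cur.drop pos)]
  rw [splice, ev_append, ev_append, ev_append, ev_append, h]

theorem xy_mem : ∀ w : List ℕ, (∀ l ∈ w, l < 4) →
    ev (hf x y z) w ∈ Subgroup.closure ({x, y} : Set G) := by
  intro w hw
  refine list_prod_mem fun t ht => ?_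
  obtain ⟨l, hl, rfl⟩ := List.mem_map.1 ht
  match l, hw l hl with
  | 0, _ => exact Subgroup.subset_closure (by simp [hf])
  | 1, _ => exact inv_mem (Subgroup.subset_closure (by simp))
  | 2, _ => exact Subgroup.subset_closure (by simp [hf])
  | 3, _ => exact inv_mem (Subgroup.subset_closure (by simp))
  | n + 4, h => omega

theorem tau_piece (h : HRel x y z) {p : List ℕ × List ℕ} (hp : p ∈ tauPairs) :
    z * ev (hf x y z) p.1 = ev (hf x y z) p.2 * z ∧
    z * ev (hf x y z) p.2 = ev (hf x y z) p.1 * z := by
  have C := central h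
  have e : ∀ v v', z * ev (hf x y z) v * z = ev (hf x y z) v' →
      z * ev (hf x y z) v = ev (hf x y z) v' * z ∧ z * ev (hf x y z) v' = ev (hf x y z) v * z := by
    intro v v' q
    rw [← q]
    constructor
    · rw [mul_assoc _ z z, C.zz, mul_one]
    · rw [← mul_assoc, ← mul_assoc, C.zz, one_mul]
  refine e _ _ ?_
  simp only [tauPairs, List.mem_cons, List.not_mem_nil, or_false] at hp
  rcases hp with rfl | rfl | rfl | rfl
  · simpa [ev, hf] using C.zx
  · have hz : z⁻¹ = z := inv_eq_of_mul_eq_one_right C.zz
    show z * (x⁻¹ * 1) * z = x * 1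
    rw [mul_one, mul_one]
    calc z * x⁻¹ * z = (z * x * z)⁻¹ := by simp [mul_assoc, hz]
      _ = x := by rw [C.zx, inv_inv]
  all_goals
    rw [z_piece h (by simp)]
    simp [ev, hf, mul_assoc]

theorem triv_eq (h : HRel x y z) {r : List ℕ} (hr : r ∈ trivW) : ev (hf x y z) r = 1 := by
  have C := central h
  have hz : z⁻¹ = z := inv_eq_of_mul_eq_one_right C.zz
  have e10 : ev (hf x y z) r10W = 1 := by
    set e := ((((y ^ 3) * x * y * x * y)⁻¹ * z * ((y ^ 3) * x * y * x * y)) * x) with he
    have e3 : e ^ 3 = z := by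
      have := h.r10
      rw [← he, mul_eq_one_iff_inv_eq, hz] at this
      exact this.symm
    have hc : Commute z e := by rw [← e3]; exact Commute.pow_self e 3
    calc ev (hf x y z) r10W = (z * e) ^ 3 := by
          rw [he]; simp [ev, r10W, hf, pow_succ, mul_assoc]
      _ = z ^ 3 * e ^ 3 := hc.mul_pow 3
      _ = 1 := by rw [e3, pow_succ, pow_two, C.zz, one_mul, C.zz]
  have hinv : ∀ a, a ≤ 4 → hf x y z (Cfsg.Agent.Lib.CosetTable.natAt [1, 0, 3, 2, 4] a) =
      (hf x y z a)⁻¹ := by
    intro a ha
    match a, ha with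
    | 0, _ => rfl
    | 1, _ => exact (inv_inv x).symm
    | 2, _ => rfl
    | 3, _ => exact (inv_inv y).symm
    | 4, _ => exact hz.symm
    | n + 5, q => omega
  have e10' : ev (hf x y z) r10I = 1 := by
    rw [r10I, ev_invW hinv (by decide), e10, inv_one]
  simp only [trivW, List.mem_cons, List.mem_append, List.mem_map] at hr
  rcases hr with rfl | ⟨m, -, rfl⟩ | ⟨m, -, rfl⟩
  · simpa [ev, hf] using C.zz
  · exact ev_rotate _ _ e10
  · exact ev_rotate _ _ e10'

theorem rule_eq (h : HRel x y z) {a b : List ℕ} (hv : validRule a b = true) :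
    ev (hf x y z) a = ev (hf x y z) b := by
  have h4 : hf x y z 4 = z := rfl
  simp only [validRule, Bool.or_eq_true, Bool.and_eq_true, List.any_eq_true] at hv
  rcases hv with ⟨p, hp, hv⟩ | ⟨h1, r, hr, h2⟩ | ⟨h1, r, hr, h2⟩
  · obtain ⟨t1, t2⟩ := tau_piece h hp
    rcases hv with ⟨h1, h2⟩ | ⟨h1, h2⟩ | ⟨h1, h2⟩ | ⟨h1, h2⟩ <;>
      rw [Cfsg.Agent.Lib.CosetTable.eq_of_eqL h1, Cfsg.Agent.Lib.CosetTable.eq_of_eqL h2,
        ev_cons, ev_append, ev_cons, ev_nil, mul_one, h4]
    · exact t1
    · exact t1.symm
    · exact t2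
    · exact t2.symm
  · rw [Cfsg.Agent.Lib.CosetTable.eq_of_eqL h1, Cfsg.Agent.Lib.CosetTable.eq_of_eqL h2,
      triv_eq h hr, ev_nil]
  · rw [Cfsg.Agent.Lib.CosetTable.eq_of_eqL h1, Cfsg.Agent.Lib.CosetTable.eq_of_eqL h2,
      triv_eq h hr, ev_nil]

/-- fact `i` holds -/
def Holds (F : List (ℕ × ℕ)) (x y z : G) (i : ℕ) : Prop :=
  Co x y z (up (F.getD i (0, 0)).1) (up (F.getD i (0, 0)).2)

theorem applyStep_sound (h : HRel x y z) {F : List (ℕ × ℕ)} {n : ℕ}
    (hp : ∀ i, i < n → Holds F x y z i) {cur c : List ℕ} {s : Step}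
    (e : applyStep F n cur s = some c) : Co x y z cur c := by
  cases s with
  | xy pos len new =>
    simp only [applyStep] at e
    cases hb : xyOK ((cur.drop pos).take len) (up new)
    · simp only [hb, cond_false, reduceCtorEq] at e
    · simp only [hb, cond_true, Option.some.injEq] at e
      exact co_of_eq (e ▸ splice_eq (eq_of_xyOK h hb))
  | rule pos a b =>
    simp only [applyStep] at e
    cases hb : eqL ((cur.drop pos).take (up a).length) (up a) && validRule (up a) (up b)
    · simp only [hb, cond_false, reduceCtorEq] at e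
    · simp only [hb, cond_true, Option.some.injEq] at e
      rw [Bool.and_eq_true] at hb
      refine co_of_eq (e ▸ splice_eq ?_)
      rw [Cfsg.Agent.Lib.CosetTable.eq_of_eqL hb.1, rule_eq h hb.2]
  | pre i =>
    simp only [applyStep] at e
    cases hb : Nat.blt i n &&
      eqL (cur.take (up (F.getD i (0, 0)).1).length) (up (F.getD i (0, 0)).1)
    · simp only [hb, cond_false, reduceCtorEq] at e
    · simp only [hb, cond_true, Option.some.injEq] at e
      rw [Bool.and_eq_true, Cfsg.Agent.Lib.CosetTable.blt_iff] at hb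
      have := (hp i hb.1).append (cur.drop (up (F.getD i (0, 0)).1).length)
      rw [e] at this
      nth_rewrite 1 [← Cfsg.Agent.Lib.CosetTable.eq_of_eqL hb.2, List.take_append_drop] at this
      exact this
  | preBack i =>
    simp only [applyStep] at e
    cases hb : Nat.blt i n &&
      eqL (cur.take (up (F.getD i (0, 0)).2).length) (up (F.getD i (0, 0)).2)
    · simp only [hb, cond_false, reduceCtorEq] at e
    · simp only [hb, cond_true, Option.some.injEq] at e
      rw [Bool.and_eq_true, Cfsg.Agent.Lib.CosetTable.blt_iff] at hb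
      have := (hp i hb.1).symm.append (cur.drop (up (F.getD i (0, 0)).2).length)
      rw [e] at this
      nth_rewrite 1 [← Cfsg.Agent.Lib.CosetTable.eq_of_eqL hb.2, List.take_append_drop] at this
      exact this
  | abs len new =>
    simp only [applyStep] at e
    cases hb : (cur.take len).all (fun l => Nat.blt l 4) && (up new).all (fun l => Nat.blt l 4)
    · simp only [hb, cond_false, reduceCtorEq] at e
    · simp only [hb, cond_true, Option.some.injEq] at e
      simp only [Bool.and_eq_true, List.all_eq_true, Cfsg.Agent.Lib.CosetTable.blt_iff] at hb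
      have hm := mul_mem (xy_mem (x := x) (y := y) (z := z) _ hb.1)
        (inv_mem (xy_mem (x := x) (y := y) (z := z) _ hb.2))
      rw [← e, Co]
      nth_rewrite 1 [← List.take_append_drop len cur]
      rw [ev_append, ev_append, mul_inv_rev, mul_assoc, ← mul_assoc (ev _ (cur.drop len)),
        mul_inv_cancel, one_mul]
      exact hm

theorem runSteps_sound (h : HRel x y z) {F : List (ℕ × ℕ)} {n : ℕ}
    (hp : ∀ i, i < n → Holds F x y z i) :
    ∀ (s : List Step) (cur c : List ℕ), runSteps F n s cur = some c → Co x y z cur c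
  | [], cur, c, e => by
    simp only [runSteps, Option.some.injEq] at e
    exact e ▸ Co.refl cur
  | a :: s, cur, c, e => by
    simp only [runSteps] at e
    cases hs : applyStep F n cur a with
    | none => simp [hs] at e
    | some d =>
      simp only [hs] at e
      exact (applyStep_sound h hp hs).trans (runSteps_sound h hp s d c e)

theorem factsOK_sound (h : HRel x y z) {F : List (ℕ × ℕ)} :
    ∀ (L : List (List Step)) (n : ℕ), (∀ i, i < n → Holds F x y z i) → factsOK F L n = true →
      ∀ i, i < n + L.length → Holds F x y z i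
  | [], n, hp, _ => fun i hi => hp i (by simpa using hi)
  | s :: L, n, hp, e => by
    simp only [factsOK, Bool.and_eq_true] at e
    intro i hi
    refine factsOK_sound h L (n + 1) (fun j hj => ?_) e.2 i (by
      simp only [List.length_cons] at hi; omega)
    rcases Nat.lt_succ_iff_lt_or_eq.1 hj with q | rfl
    · exact hp j q
    · have e1 := e.1
      simp only [factOK] at e1
      cases hr : runSteps F j s (up (F.getD j (0, 0)).1) with
      | none => simp only [hr, Bool.false_eq_true] at e1
      | some c =>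
        simp only [hr] at e1
        have q := runSteps_sound h hp s _ c hr
        rw [Cfsg.Agent.Lib.CosetTable.eq_of_eqL e1] at q
        exact q

end Cfsg.Agent.Lib.HN3.HOrder
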