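import Cfsg.Agent.Lib.HN3.HS64Data
import Cfsg.Agent.Lib.HN3.HData
import Cfsg.Agent.Lib.HN3.HWords

/-!
Kernel checks on the 100 points.
-/

set_option maxRecDepth 100000
set_option Elab.async false

namespace Cfsg.Agent.Lib.HN3.HS64

/-- parity of the number of letters `4` -/
noncomputable def evenZ (u : List Nat) : Bool :=
  List.rec (motive := fun _ => Bool) true
    (fun l _ ih => Bool.rec (motive := fun _ => Bool) ih
      (Bool.rec (motive := fun _ => Bool) true false ih) (Nat.beq l 4)) u

/-- adjacency -/
noncomputable def adjQ (i j : Nat) : Nat := Nat.land (Nat.shiftRight (nth 0 qRows i) j) 1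

/-- a word is even, fixes `0` and moves `s` to the point it comes with -/
noncomputable def stabOK (s : Nat) (e : Nat × List Nat) : Bool :=
  band (evenZ (decode e.2)) (band (Nat.beq (qPk.go e.2 0) 0) (Nat.beq (qPk.go e.2 s) e.1))

theorem qPk_ok : qPk.permsOK hInv = true := by decide +kernel

theorem qRel_fix :
    forallB (fun u => belowB (fun p => Nat.beq (qPk.go u p) p) 100) hRelW = true := by
  decide +kernel

theorem qChain_ok : qPk.baseOK qBase qChain = true := by decide +kernel

theorem qChain_card : chainCard qChain = 88704000 := by decide +kernel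

theorem qAdj_ok :
    belowB (fun l => belowB (fun i => belowB (fun j =>
      Nat.beq (adjQ (qPk.act l i) (qPk.act l j)) (adjQ i j)) 100) 100) 7 = true := by
  decide +kernel

theorem qTrans_ok :
    belowB (fun p => band (evenZ (decode (nth [] qTrans p)))
      (Nat.beq (qPk.go (nth [] qTrans p) 0) p)) 100 = true := by
  decide +kernel

theorem qNear_ok : forallB (stabOK qNearPt) qNear = true := by decide +kernel

theorem qFar_ok : forallB (stabOK qFarPt) qFar = true := by decide +kernel

theorem qNear_list :
    ((List.range 100).filter fun j => Nat.beq (adjQ 0 j) 1) = qNear.map Prod.fst := by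
  decide +kernel

theorem qFar_list :
    ((List.range 100).filter fun j => !(Nat.beq (adjQ 0 j) 1) && !(Nat.beq j 0)) =
      qFar.map Prod.fst := by
  decide +kernel

/-- the central involution is trivial on the 100 points -/
theorem qX2 : belowB (fun p => Nat.beq (qPk.act 0 (qPk.act 0 p)) p) 100 = true := by
  decide +kernel

/-- the central involution moves a point of the 1408 -/
theorem hX2 : Nat.beq (hPk.act 0 (hPk.act 0 0)) 0 = false := by decide +kernel

/-- the transpositions of `z` on the 100 points -/
def zSwaps : List (Nat × Nat) :=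
  [(0, 3), (1, 5), (2, 8), (6, 12), (7, 14), (13, 22), (17, 29), (19, 31), (20, 21), (23, 37), (24, 40), (27, 44), (28, 47), (30, 50), (33, 48), (34, 54), (35, 56), (38, 46), (39, 60), (41, 64), (45, 67), (49, 69), (51, 70), (58, 77), (59, 65), (62, 63), (71, 73), (74, 85), (76, 88), (80, 90), (84, 89), (86, 94), (87, 96), (91, 97), (93, 98)]

end Cfsg.Agent.Lib.HN3.HS64
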