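import Mathlib
import Cfsg.Prelude.Def_SporadicB
import Cfsg.Agent.Lib.HN3.Base
import Cfsg.Agent.Lib.HN3.HS64Check
import Cfsg.Agent.Lib.HNSchur64.Cover
import Cfsg.Agent.Lib.HNSchur64.Lift
import Cfsg.Agent.Lib.Design.HSAction

/-!
`Hbar` is `2.HS:2`: it has a subgroup of index two which is a non-split double cover of the
Higman–Sims group.
-/

set_option autoImplicit false

namespace Cfsg.Agent.Lib.HN3.HS64

open MulAction
open scoped commutatorElement

theorem qPk_n : qPk.n = 100 := rfl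

theorem qPk_spec {l p : ℕ} (hl : l < 7) (hp : p < 100) :
    qPk.act l p < 100 ∧ qPk.act (nth 0 hInv l) (qPk.act l p) = p := by
  have h := belowB_iff.1 qPk_ok l hl
  have h' := belowB_iff.1 h p hp
  simp only [hold_eq, band_eq, Bool.and_eq_true, beqN_iff] at h'
  exact ⟨Nat.le_of_ble_eq_true h'.1, h'.2.2⟩

/-- one letter as a permutation of the 100 points -/
noncomputable def qLetter (l : ℕ) : Equiv.Perm (Fin 100) :=
  if hl : l < 7 then
    { toFun := fun p => ⟨qPk.act l p, (qPk_spec hl p.2).1⟩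
      invFun := fun p => ⟨qPk.act (nth 0 hInv l) p, (qPk_spec (hInv_spec l hl).1 p.2).1⟩
      left_inv := fun p => Fin.ext (qPk_spec hl p.2).2
      right_inv := fun p => Fin.ext (by
        have := (qPk_spec (hInv_spec l hl).1 p.2).2
        rwa [(hInv_spec l hl).2] at this) }
  else 1

theorem qLetter_apply {l : ℕ} (hl : l < 7) (p : Fin 100) :
    (qLetter l p : ℕ) = qPk.act l p := by
  rw [qLetter, dif_pos hl]; rfl

theorem qLetter_symm {l : ℕ} (hl : l < 7) : (qLetter l)⁻¹ = qLetter (nth 0 hInv l) := by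
  rw [inv_eq_iff_mul_eq_one]
  refine Equiv.ext fun p => Fin.ext ?_
  show (qLetter l (qLetter (nth 0 hInv l) p) : ℕ) = p
  rw [qLetter_apply hl, qLetter_apply (hInv_spec l hl).1]
  have := (qPk_spec (hInv_spec l hl).1 p.2).2
  rwa [(hInv_spec l hl).2] at this

/-- the permutations act on the 100 points from the right -/
noncomputable def qPermRep : Rep qPk (Equiv.Perm (Fin 100)) where
  f l := (qLetter l)⁻¹
  pt g p := if h : p < 100 then ((g⁻¹ : Equiv.Perm (Fin 100)) ⟨p, h⟩ : ℕ) else p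
  pt_one p := by split <;> simp
  pt_mul a b p := by
    by_cases hp : p < 100
    · simp [hp]
    · simp [hp]
  pt_lt g p hp := by
    rw [qPk_n] at hp ⊢
    rw [dif_pos hp]
    exact Fin.isLt _
  pt_f l p hl hp := by
    rw [qPk_n] at hp
    rw [dif_pos hp, inv_inv, qLetter_apply hl]

theorem qPermRep_pt (g : Equiv.Perm (Fin 100)) (p : Fin 100) :
    qPermRep.pt g p = ((g⁻¹ : Equiv.Perm (Fin 100)) p : ℕ) := dif_pos p.2

theorem qPerm_ext {a b : Equiv.Perm (Fin 100)}
    (h : ∀ p < 100, qPermRep.pt a p = qPermRep.pt b p) : a = b := by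
  refine inv_inj.1 (Equiv.ext fun p => Fin.ext ?_)
  rw [← qPermRep_pt, ← qPermRep_pt]
  exact h p p.2

theorem qPermRep_rel {w : List ℕ} (hw : w ∈ hRelL) : (w.map qPermRep.f).prod = 1 := by
  rw [← hRelW_decode] at hw
  obtain ⟨u, hu, rfl⟩ := List.mem_map.1 hw
  have h := forallB_iff.1 qRel_fix u hu
  refine qPerm_ext fun p hp => ?_
  have h' := belowB_iff.1 h p hp
  rw [beqN_iff, qPermRep.go_eq u p (by rwa [qPk_n])] at h'
  rw [qPermRep.pt_one]
  exact h'

theorem qPermRep_inv (l : ℕ) (hl : l < 7) : qPermRep.f (nth 0 hInv l) = (qPermRep.f l)⁻¹ := by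
  show (qLetter (nth 0 hInv l))⁻¹ = (qLetter l)⁻¹⁻¹
  rw [← qLetter_symm hl]

theorem qRel_perm : HRel (qPermRep.f 0) (qPermRep.f 2) (qPermRep.f 4) := by
  refine hRel_of_prods qPermRep.f (qPermRep_inv 0 (by decide)) (qPermRep_inv 2 (by decide)) ?_
    fun w hw => qPermRep_rel hw
  have := qPermRep_inv 4 (by decide)
  rw [show nth 0 hInv 4 = 4 from rfl] at this
  rw [mul_eq_one_iff_eq_inv]
  exact this

/-- the group of the 100 points -/
noncomputable def Qbar : Subgroup (Equiv.Perm (Fin 100)) :=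
  Subgroup.closure {qPermRep.f 0, qPermRep.f 2, qPermRep.f 4}

theorem qPermRep_f_mem : ∀ l : ℕ, qPermRep.f l ∈ Qbar := by
  intro l
  have h0 : qPermRep.f 0 ∈ Qbar := Subgroup.subset_closure (by simp)
  have h2 : qPermRep.f 2 ∈ Qbar := Subgroup.subset_closure (by simp)
  have h4 : qPermRep.f 4 ∈ Qbar := Subgroup.subset_closure (by simp)
  match l with
  | 0 => exact h0
  | 1 => exact (qPermRep_inv 0 (by decide)) ▸ inv_mem h0
  | 2 => exact h2
  | 3 => exact (qPermRep_inv 2 (by decide)) ▸ inv_mem h2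
  | 4 => exact h4
  | 5 =>
    have : qPermRep.f 5 = 1 := qPerm_ext fun p hp => by
      rw [qPermRep.pt_f 5 p (by decide) (by rwa [qPk_n]), qPermRep.pt_one]
      exact beqN_iff.1 (belowB_iff.1 (show belowB (fun p => Nat.beq (qPk.act 5 p) p) 100 = true
        by decide +kernel) p hp)
    rw [this]; exact one_mem _
  | 6 =>
    have : qPermRep.f 6 = 1 := qPerm_ext fun p hp => by
      rw [qPermRep.pt_f 6 p (by decide) (by rwa [qPk_n]), qPermRep.pt_one]
      exact beqN_iff.1 (belowB_iff.1 (show belowB (fun p => Nat.beq (qPk.act 6 p) p) 100 = true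
        by decide +kernel) p hp)
    rw [this]; exact one_mem _
  | l + 7 =>
    show (qLetter (l + 7))⁻¹ ∈ Qbar
    rw [qLetter, dif_neg (by omega)]; simp

/-- the letters inside `Qbar` -/
noncomputable def qRep : Rep qPk Qbar where
  f l := ⟨qPermRep.f l, qPermRep_f_mem l⟩
  pt g p := qPermRep.pt g p
  pt_one p := qPermRep.pt_one p
  pt_mul a b p := qPermRep.pt_mul a b p
  pt_lt g p := qPermRep.pt_lt g p
  pt_f l p := qPermRep.pt_f l p

theorem qBase_lt : ∀ b ∈ qBase, b < qPk.n := by rw [qPk_n]; decide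

theorem le_card_Qbar : 88704000 ≤ Nat.card Qbar := by
  have h := qRep.chainCard_mul_le qBase_lt qChain qChain_ok ⊤ le_top le_top
  rw [qChain_card, Subgroup.card_top] at h
  exact (Nat.le_mul_of_pos_right _ Nat.card_pos).trans h

/-- parity of permutations on `Qbar` -/
noncomputable def qSign : Qbar →* ℤˣ := Equiv.Perm.sign.comp Qbar.subtype

theorem qSign_f4 : qSign (qRep.f 4) = -1 := by
  show Equiv.Perm.sign (qLetter 4)⁻¹ = -1
  have e : qLetter 4 = ((zSwaps.map fun t => Equiv.swap (Fin.ofNat 100 t.1) (Fin.ofNat 100 t.2)).prod) := by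
    refine Equiv.ext fun p => Fin.ext ?_
    rw [qLetter_apply (by decide)]
    revert p
    decide +kernel
  rw [Equiv.Perm.sign_inv, e, Equiv.Perm.sign_prod_list_swap, List.length_map,
    show zSwaps.length = 35 from rfl]
  · decide
  · intro g hg
    obtain ⟨t, ht, rfl⟩ := List.mem_map.1 hg
    refine ⟨_, _, ?_, rfl⟩
    revert t
    decide +kernel

theorem qSign_gen : qSign (qRep.f 0) = 1 ∧ qSign (qRep.f 2) = 1 := by
  have h : HRel (qRep.f 0) (qRep.f 2) (qRep.f 4) := by
    have a := qRel_perm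
    exact ⟨Subtype.ext a.r1, Subtype.ext a.r2, Subtype.ext a.r3, Subtype.ext a.r4, Subtype.ext a.r5,
      Subtype.ext a.r6, Subtype.ext a.r7, Subtype.ext a.r8, Subtype.ext a.r9, Subtype.ext a.r10⟩
  exact Cfsg.Agent.Lib.HNSchur64.eq_one_of_comm (h.map qSign)

theorem qSign_letter : ∀ l < 7, qSign (qRep.f l) = if l = 4 then -1 else 1 := by
  intro l hl
  obtain ⟨h0, h2⟩ := qSign_gen
  have hinv : ∀ l < 7, qRep.f (nth 0 hInv l) = (qRep.f l)⁻¹ := fun l hl =>
    Subtype.ext (qPermRep_inv l hl)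
  have h56 : ∀ l, l = 5 ∨ l = 6 → qRep.f l = 1 := by
    intro l hl
    refine Subtype.ext (qPerm_ext fun p hp => ?_)
    rcases hl with rfl | rfl
    · show qPermRep.pt (qPermRep.f 5) p = _
      rw [qPermRep.pt_f 5 p (by decide) (by rwa [qPk_n]), OneMemClass.coe_one, qPermRep.pt_one]
      exact beqN_iff.1 (belowB_iff.1 (show belowB (fun p => Nat.beq (qPk.act 5 p) p) 100 = true
        by decide +kernel) p hp)
    · show qPermRep.pt (qPermRep.f 6) p = _
      rw [qPermRep.pt_f 6 p (by decide) (by rwa [qPk_n]), OneMemClass.coe_one, qPermRep.pt_one]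
      exact beqN_iff.1 (belowB_iff.1 (show belowB (fun p => Nat.beq (qPk.act 6 p) p) 100 = true
        by decide +kernel) p hp)
  interval_cases l
  · simpa using h0
  · have := hinv 0 (by decide)
    rw [show nth 0 hInv 0 = 1 from rfl] at this
    rw [this, map_inv, h0]; simp
  · simpa using h2
  · have := hinv 2 (by decide)
    rw [show nth 0 hInv 2 = 3 from rfl] at this
    rw [this, map_inv, h2]; simp
  · simpa using qSign_f4
  · simp [h56 5 (Or.inl rfl)]
  · simp [h56 6 (Or.inr rfl)]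

theorem qSign_even : ∀ u : List ℕ, (∀ l ∈ u, l < 7) →
    qSign ((u.map qRep.f).prod) = if evenZ u then 1 else -1
  | [], _ => by simp [evenZ]
  | l :: u, h => by
    have ih := qSign_even u fun a ha => h a (List.mem_cons_of_mem _ ha)
    rw [List.map_cons, List.prod_cons, map_mul, ih, qSign_letter l (h l List.mem_cons_self)]
    have e : evenZ (l :: u) = (if Nat.beq l 4 then !(evenZ u) else evenZ u) := by
      show Bool.rec (motive := fun _ => Bool) (evenZ u)
        (Bool.rec (motive := fun _ => Bool) true false (evenZ u)) (Nat.beq l 4) = _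
      cases Nat.beq l 4 <;> cases evenZ u <;> rfl
    rw [e]
    by_cases hl : l = 4
    · subst hl; cases evenZ u <;> simp
    · rw [if_neg hl, show Nat.beq l 4 = false from by
        rw [Bool.eq_false_iff, ne_eq, beqN_iff]; exact hl]
      simp

/-- the even half of `Qbar` -/
noncomputable def Qev : Subgroup Qbar := qSign.ker

theorem ev_mem_Qev {u : List ℕ} (h : evenZ (decode u) = true) : qRep.ev u ∈ Qev := by
  rw [Qev, MonoidHom.mem_ker, Rep.ev, qSign_even _ fun l hl => mem_decode_lt hl, h]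
  rfl

/-- the point an element moves a point to -/
theorem pt_apply (g : Qbar) (p : Fin 100) :
    qRep.pt g p = (((g⁻¹ : Qbar) : Equiv.Perm (Fin 100)) p : ℕ) :=
  qPermRep_pt g p

theorem adjQ_letter (l i j : ℕ) (hl : l < 7) (hi : i < 100) (hj : j < 100) :
    adjQ (qPk.act l i) (qPk.act l j) = adjQ i j :=
  beqN_iff.1 (belowB_iff.1 (belowB_iff.1 (belowB_iff.1 qAdj_ok l hl) i hi) j hj)

theorem adjQ_smul : ∀ g ∈ Qbar, ∀ i j : Fin 100, adjQ (g i : ℕ) (g j : ℕ) = adjQ i j := by
  intro g hg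
  have key : ∀ l < 7, ∀ i j : Fin 100,
      adjQ (qPermRep.f l i : ℕ) (qPermRep.f l j : ℕ) = adjQ i j := by
    intro l hl i j
    show adjQ ((qLetter l)⁻¹ i : ℕ) ((qLetter l)⁻¹ j : ℕ) = _
    rw [qLetter_symm hl, qLetter_apply (hInv_spec l hl).1, qLetter_apply (hInv_spec l hl).1]
    exact adjQ_letter _ i j (hInv_spec l hl).1 i.2 j.2
  induction hg using Subgroup.closure_induction with
  | mem u hu =>
    rcases hu with rfl | rfl | rfl
    · exact key 0 (by decide)
    · exact key 2 (by decide)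
    · exact key 4 (by decide)
  | one => simp
  | mul a b _ _ ha hb =>
    intro i j
    rw [Equiv.Perm.mul_apply, Equiv.Perm.mul_apply, ha, hb]
  | inv a _ ha =>
    intro i j
    rw [← ha (a⁻¹ i) (a⁻¹ j)]
    simp

/-- the action of the even half on the points -/
noncomputable instance : MulAction Qev (Fin 100) :=
  MulAction.compHom (Fin 100) (Qbar.subtype.comp Qev.subtype)

theorem smul_def (g : Qev) (p : Fin 100) : g • p = ((g : Qbar) : Equiv.Perm (Fin 100)) p := rfl

instance : FaithfulSMul Qev (Fin 100) :=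
  ⟨fun h => Subtype.ext (Subtype.ext (Equiv.ext h))⟩

/-- an element of the even half from a word -/
theorem exists_of_word {u : List ℕ} (h : evenZ (decode u) = true) :
    ∃ g : Qev, ∀ p : Fin 100, ((g • p : Fin 100) : ℕ) = qPk.go u p := by
  refine ⟨⟨(qRep.ev u)⁻¹, inv_mem (ev_mem_Qev h)⟩, fun p => ?_⟩
  rw [qRep.go_eq u p (by rw [qPk_n]; exact p.2), pt_apply]
  rfl

instance : IsPretransitive Qev (Fin 100) := by
  have h0 : ∀ p : Fin 100, ∃ g : Qev, g • (0 : Fin 100) = p := by
    intro p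
    have h := belowB_iff.1 qTrans_ok p p.2
    rw [band_eq, Bool.and_eq_true, beqN_iff] at h
    obtain ⟨g, hg⟩ := exists_of_word h.1
    exact ⟨g, Fin.ext ((hg 0).trans h.2)⟩
  refine ⟨fun a b => ?_⟩
  obtain ⟨g, rfl⟩ := h0 a
  obtain ⟨h, rfl⟩ := h0 b
  exact ⟨h * g⁻¹, by rw [mul_smul, inv_smul_smul]⟩

theorem orbit_stab {s : Fin 100} {L : List (ℕ × List ℕ)} (hL : forallB (stabOK s) L = true)
    {S : List ℕ} (hS : S = L.map Prod.fst)
    (hinv : ∀ g : Qev, g • (0 : Fin 100) = 0 → ((g • s : Fin 100) : ℕ) ∈ S)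
    (hnd : S.Nodup) (hlt : ∀ p ∈ S, p < 100) :
    (orbit (stabilizer Qev (0 : Fin 100)) s).ncard = S.length := by
  have e : Fin.val '' orbit (stabilizer Qev (0 : Fin 100)) s = {p | p ∈ S} := by
    ext p
    constructor
    · rintro ⟨_, ⟨g, rfl⟩, rfl⟩
      exact hinv g.1 g.2
    · intro hp
      rw [Set.mem_setOf_eq, hS, List.mem_map] at hp
      obtain ⟨t, ht, rfl⟩ := hp
      have h := forallB_iff.1 hL t ht
      simp only [stabOK, band_eq, Bool.and_eq_true, beqN_iff] at h
      obtain ⟨g, hg⟩ := exists_of_word h.1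
      exact ⟨g • s, ⟨⟨g, Fin.ext ((hg 0).trans h.2.1)⟩, rfl⟩, (hg s).trans h.2.2⟩
  rw [← Set.ncard_image_of_injective _ Fin.val_injective, e,
    show {p | p ∈ S} = ↑S.toFinset by ext; simp, Set.ncard_coe_finset,
    List.toFinset_card_of_nodup hnd]

theorem ncard_near :
    (orbit (stabilizer Qev (0 : Fin 100)) (⟨qNearPt, by decide⟩ : Fin 100)).ncard = 22 := by
  rw [orbit_stab qNear_ok rfl ?_ (by decide +kernel) (by decide +kernel)]
  · rfl
  · intro g hg
    rw [← qNear_list, List.mem_filter, List.mem_range, beqN_iff]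
    refine ⟨Fin.isLt _, ?_⟩
    have h := adjQ_smul _ (g : Qbar).2 0 ⟨qNearPt, by decide⟩
    rw [← smul_def, ← smul_def, hg] at h
    exact h.trans (by decide +kernel)

theorem ncard_far :
    (orbit (stabilizer Qev (0 : Fin 100)) (⟨qFarPt, by decide⟩ : Fin 100)).ncard = 77 := by
  rw [orbit_stab qFar_ok rfl ?_ (by decide +kernel) (by decide +kernel)]
  · rfl
  · intro g hg
    rw [← qFar_list, List.mem_filter, List.mem_range]
    refine ⟨Fin.isLt _, ?_⟩
    have h := adjQ_smul _ (g : Qbar).2 0 ⟨qFarPt, by decide⟩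
    rw [← smul_def, ← smul_def, hg] at h
    have hne : g • (⟨qFarPt, by decide⟩ : Fin 100) ≠ 0 := fun e => by
      have := MulAction.injective g (e.trans hg.symm)
      simp [qFarPt, Fin.ext_iff] at this
    have hz : (adjQ 0 qFarPt) = 0 := by decide +kernel
    rw [Bool.and_eq_true, Bool.not_eq_true', Bool.not_eq_true', Bool.eq_false_iff,
      Bool.eq_false_iff, ne_eq, ne_eq, beqN_iff, beqN_iff]
    refine ⟨?_, fun e => hne (Fin.ext e)⟩
    rw [show ((0 : Fin 100) : ℕ) = 0 from rfl] at h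
    rw [h, hz]
    decide

theorem card_Qbar_and_hom (hB : HBound) :
    ∃ ψ : Hbar →* Qbar, Function.Surjective ψ ∧ ψ (rep.f 4) = qRep.f 4 ∧
      Nat.card Qbar = 88704000 ∧ Nat.card ψ.ker = 2 ∧ rep.f 0 * rep.f 0 ∈ ψ.ker ∧
      rep.f 0 * rep.f 0 ≠ 1 := by
  obtain ⟨φ, e0, e2, e4⟩ := exists_hom hB qRel_perm
  have hgen : Subgroup.closure ({rep.f 0, rep.f 2, rep.f 4} : Set Hbar) = ⊤ := by
    refine Subgroup.map_injective Hbar.subtype_injective ?_
    rw [MonoidHom.map_closure, ← MonoidHom.range_eq_map, Subgroup.range_subtype,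
      Set.image_insert_eq, Set.image_insert_eq, Set.image_singleton]
    rfl
  have hrange : φ.range = Qbar := by
    rw [MonoidHom.range_eq_map, ← hgen, MonoidHom.map_closure, Set.image_insert_eq,
      Set.image_insert_eq, Set.image_singleton, e0, e2, e4]
    rfl
  set ψ : Hbar →* Qbar := (MulEquiv.subgroupCongr hrange).toMonoidHom.comp φ.rangeRestrict
  have hval : ∀ g, (ψ g : Equiv.Perm (Fin 100)) = φ g := fun _ => rfl
  have hsurj : Function.Surjective ψ :=
    (MulEquiv.subgroupCongr hrange).surjective.comp φ.rangeRestrict_surjective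
  have hcmem : rep.f 0 * rep.f 0 ∈ ψ.ker := by
    refine MonoidHom.mem_ker.2 (Subtype.ext ?_)
    rw [hval, map_mul, e0, OneMemClass.coe_one]
    refine qPerm_ext fun p hp => ?_
    rw [qPermRep.pt_mul, qPermRep.pt_f 0 p (by decide) (by rwa [qPk_n]),
      qPermRep.pt_f 0 _ (by decide) (by rw [qPk_n]; exact (qPk_spec (by decide) hp).1),
      qPermRep.pt_one]
    exact beqN_iff.1 (belowB_iff.1 qX2 p hp)
  have hcne : rep.f 0 * rep.f 0 ≠ 1 := by
    intro e
    have h : rep.pt (rep.f 0 * rep.f 0) 0 = 0 := by rw [e, rep.pt_one]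
    rw [rep.pt_mul, rep.pt_f 0 0 (by decide) (by rw [hPk_n]; decide),
      rep.pt_f 0 _ (by decide) (by rw [hPk_n]; exact (hPk_spec (by decide) (by decide)).1),
      ← beqN_iff, hX2] at h
    exact Bool.false_ne_true h
  have hprod : Nat.card Hbar = Nat.card Qbar * Nat.card ψ.ker := by
    rw [Subgroup.card_eq_card_quotient_mul_card_subgroup ψ.ker,
      Nat.card_congr (QuotientGroup.quotientKerEquivOfSurjective ψ hsurj).toEquiv]
  rw [card_Hbar hB] at hprod
  have h2 : 1 < Nat.card ψ.ker := by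
    have : Nontrivial ψ.ker := ⟨⟨⟨_, hcmem⟩, 1, fun e => hcne (congrArg Subtype.val e)⟩⟩
    exact Finite.one_lt_card
  have hle := le_card_Qbar
  have h2' : Nat.card ψ.ker = 2 := by
    by_contra h
    have : 88704000 * 3 ≤ Nat.card Qbar * Nat.card ψ.ker := Nat.mul_le_mul hle (by omega)
    omega
  rw [h2'] at hprod
  exact ⟨ψ, hsurj, Subtype.ext ((hval _).trans e4), by omega, h2', hcmem, hcne⟩

/-- `Hbar` is `2.HS:2`. -/
theorem hbar_double_cover (hB : HBound) :
    ∃ K : Subgroup Hbar, K.Normal ∧ K.index = 2 ∧ Cfsg.IsNonsplitDoubleCover K Spor.HS := by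
  obtain ⟨ψ, hsurj, e4, cardQ, cardker, hcmem, hcne⟩ := card_Qbar_and_hom hB
  have hss : Function.Surjective qSign := fun u => by
    rcases Int.units_eq_one_or u with rfl | rfl
    · exact ⟨1, map_one _⟩
    · exact ⟨qRep.f 4, qSign_f4⟩
  have hu2 : Nat.card ℤˣ = 2 := by rw [Nat.card_eq_fintype_card]; rfl
  have hQi : Qev.index = 2 := by
    rw [Qev, Subgroup.index_ker, MonoidHom.range_eq_top.2 hss, Subgroup.card_top, hu2]
  have cardev : Nat.card Qev = 44352000 := by
    have := Subgroup.index_mul_card Qev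
    rw [hQi, cardQ] at this
    omega
  obtain ⟨e⟩ := Cfsg.Agent.Lib.RankThree100.isoHS_of_action (G := Qev) (V := Fin 100)
    (Fintype.card_fin 100) cardev ncard_near ncard_far
  have hsimple : IsSimpleGroup Spor.HS := Lib.Leech.isSimpleGroup_HS
  have : IsSimpleGroup Qev := e.isSimpleGroup
  have hperfQ : commutator Qev = ⊤ := by
    refine ((Subgroup.commutator_normal ⊤ ⊤).eq_bot_or_eq_top).resolve_left fun hb => ?_
    let i : CommGroup Qev := { (inferInstance : Group Qev) with
      mul_comm := fun a b => commutatorElement_eq_one_iff_mul_comm.mp (Subgroup.mem_bot.mp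
        (hb ▸ Subgroup.commutator_mem_commutator (Subgroup.mem_top a) (Subgroup.mem_top b))) }
    have hp : (Nat.card Qev).Prime := IsSimpleGroup.prime_card
    rw [cardev] at hp
    norm_num at hp
  have hcQ : Subgroup.center Qev = ⊥ := by
    refine (Subgroup.Normal.eq_bot_or_eq_top inferInstance).resolve_right fun h => ?_
    have : commutator Qev = ⊥ := by
      rw [commutator_def, Subgroup.commutator_eq_bot_iff_le_centralizer]
      intro a _ b _
      exact (Subgroup.mem_center_iff.1 (h ▸ Subgroup.mem_top a) b)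
    rw [this] at hperfQ
    exact bot_ne_top hperfQ
  set K := Qev.comap ψ with hKdef
  have hKn : K.Normal := by rw [hKdef, Qev]; infer_instance
  have hKi : K.index = 2 := by rw [hKdef, Subgroup.index_comap_of_surjective _ hsurj, hQi]
  refine ⟨K, hKn, hKi, ?_⟩
  set ρ : K →* Qev := ψ.subgroupComap Qev
  have hρs : Function.Surjective ρ := ψ.subgroupComap_surjective_of_surjective Qev hsurj
  have hmem : ∀ k : K, k ∈ ρ.ker ↔ (k : Hbar) ∈ ψ.ker := fun k => by
    rw [MonoidHom.mem_ker, MonoidHom.mem_ker, Subtype.ext_iff]; rfl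
  have hkK : ψ.ker ≤ K := fun g hg => by
    show ψ g ∈ Qev
    rw [MonoidHom.mem_ker.1 hg]; exact one_mem _
  have hρker : ρ.ker = ψ.ker.subgroupOf K := by ext k; rw [hmem, Subgroup.mem_subgroupOf]
  have hρcard : Nat.card ρ.ker = 2 := by
    rw [hρker, Nat.card_congr (Subgroup.subgroupOfEquivOfLe hkK).toEquiv, cardker]
  have hcenter : Subgroup.center K = ρ.ker := by
    refine le_antisymm (fun k hk => ?_) fun k hk => ?_
    · rw [MonoidHom.mem_ker, ← Subgroup.mem_bot, ← hcQ, Subgroup.mem_center_iff]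
      intro q
      obtain ⟨l, rfl⟩ := hρs q
      rw [← map_mul, ← map_mul, Subgroup.mem_center_iff.1 hk l]
    · rw [Subgroup.mem_center_iff]
      intro l
      by_cases h1 : k = 1
      · simp [h1]
      obtain ⟨a, b, hab, huniv⟩ := Nat.card_eq_two_iff.1 hρcard
      have hall : ∀ u : ρ.ker, u = 1 ∨ u = ⟨k, hk⟩ := fun u => by
        have hk1 : (⟨k, hk⟩ : ρ.ker) ≠ 1 := fun e => h1 (congrArg Subtype.val e)
        have hu : u ∈ ({a, b} : Set ρ.ker) := huniv ▸ Set.mem_univ u
        have hv : (1 : ρ.ker) ∈ ({a, b} : Set ρ.ker) := huniv ▸ Set.mem_univ _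
        have hw : (⟨k, hk⟩ : ρ.ker) ∈ ({a, b} : Set ρ.ker) := huniv ▸ Set.mem_univ _
        simp only [Set.mem_insert_iff, Set.mem_singleton_iff] at hu hv hw
        rcases hu with rfl | rfl <;> rcases hv with hv | hv <;> rcases hw with hw | hw <;>
          simp_all
      rcases hall ⟨l * k * l⁻¹, (inferInstance : ρ.ker.Normal).conj_mem k hk l⟩ with h | h
      · exact absurd (conj_eq_one_iff.1 (congrArg Subtype.val h)) h1
      · exact mul_inv_eq_iff_eq_mul.1 (congrArg Subtype.val h)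
  refine ⟨by rw [hcenter, hρcard], ⟨((QuotientGroup.quotientMulEquivOfEq hcenter).trans
    (QuotientGroup.quotientKerEquivOfSurjective ρ hρs)).trans e⟩, fun L hL => ?_⟩
  -- a complement would be the derived subgroup
  rw [hcenter] at hL
  have hle : commutator K ≤ L := by
    rw [commutator_def, Subgroup.commutator_le]
    intro a _ b _
    obtain ⟨⟨⟨za, hza⟩, la, hla⟩, rfl⟩ := hL.2 a
    obtain ⟨⟨⟨zb, hzb⟩, lb, hlb⟩, rfl⟩ := hL.2 b
    show ⁅za * la, zb * lb⁆ ∈ L
    have ca : za ∈ Subgroup.center K := hcenter ▸ hza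
    have cb : zb ∈ Subgroup.center K := hcenter ▸ hzb
    have : ⁅za * la, zb * lb⁆ = ⁅la, lb⁆ := by
      have e1 : ∀ u, za * u = u * za := fun u => (Subgroup.mem_center_iff.1 ca u).symm
      have e2 : ∀ u, zb * u = u * zb := fun u => (Subgroup.mem_center_iff.1 cb u).symm
      calc ⁅za * la, zb * lb⁆ = za * (la * zb) * lb * la⁻¹ * za⁻¹ * lb⁻¹ * zb⁻¹ := by
            rw [commutatorElement_def]; group
        _ = za * zb * (la * lb * la⁻¹) * za⁻¹ * lb⁻¹ * zb⁻¹ := by rw [← e2 la]; group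
        _ = zb * ((la * lb * la⁻¹) * (za * za⁻¹)) * lb⁻¹ * zb⁻¹ := by
            rw [e1 zb, mul_assoc zb za, e1 (la * lb * la⁻¹)]; group
        _ = zb * ⁅la, lb⁆ * zb⁻¹ := by rw [commutatorElement_def]; group
        _ = ⁅la, lb⁆ := by rw [e2]; group
    rw [this, commutatorElement_def]
    exact mul_mem (mul_mem (mul_mem hla hlb) (inv_mem hla)) (inv_mem hlb)
  have hLD : L = commutator K := by
    refine le_antisymm ?_ ?_
    · intro l hl
      have hmap : (commutator K).map ρ = ⊤ := by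
        rw [commutator_def, Subgroup.map_commutator, ← MonoidHom.range_eq_map,
          MonoidHom.range_eq_top.2 hρs, ← commutator_def, hperfQ]
      obtain ⟨d, hd, hdl⟩ := hmap.ge (Subgroup.mem_top (ρ l))
      have hdL : d ∈ L := hle hd
      have h1 : d⁻¹ * l ∈ ρ.ker ⊓ L :=
        Subgroup.mem_inf.2 ⟨by simp [MonoidHom.mem_ker, hdl], mul_mem (inv_mem hdL) hl⟩
      rw [hL.disjoint.eq_bot, Subgroup.mem_bot, inv_mul_eq_one] at h1
      exact h1 ▸ hd
    · exact hle
  set N : Subgroup Hbar := ⁅K, K⁆ with hN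
  have hNn : N.Normal := Subgroup.commutator_normal K K
  have hNL : N = L.map K.subtype := by rw [hLD, Subgroup.map_subtype_commutator]
  have hLcard : Nat.card L = 44352000 := by
    have h := hL.card_mul_card
    rw [hρcard] at h
    have hK : Nat.card K = 88704000 := by
      have := Subgroup.index_mul_card K
      rw [hKi, card_Hbar hB] at this
      omega
    omega
  have hNi : Nat.card (Hbar ⧸ N) = 2 ^ 2 := by
    have h := Subgroup.card_eq_card_quotient_mul_card_subgroup N
    rw [card_Hbar hB, hNL, Subgroup.card_map_of_injective K.subtype_injective, hLcard] at h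
    rw [hNL]
    omega
  have : Fact (Nat.Prime 2) := ⟨Nat.prime_two⟩
  let i : CommGroup (Hbar ⧸ N) := { (inferInstance : Group (Hbar ⧸ N)) with
    mul_comm := fun a b => (IsPGroup.isMulCommutative_of_card_eq_prime_sq hNi).is_comm.comm a b }
  have hrel : HRel (rep.f 0) (rep.f 2) (rep.f 4) := by
    have a := hRel_perm
    exact ⟨Subtype.ext a.r1, Subtype.ext a.r2, Subtype.ext a.r3, Subtype.ext a.r4, Subtype.ext a.r5,
      Subtype.ext a.r6, Subtype.ext a.r7, Subtype.ext a.r8, Subtype.ext a.r9, Subtype.ext a.r10⟩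
  have hxN : rep.f 0 ∈ N := by
    rw [← QuotientGroup.eq_one_iff]
    exact (Cfsg.Agent.Lib.HNSchur64.eq_one_of_comm (hrel.map (QuotientGroup.mk' N))).1
  obtain ⟨l, hl, hlc⟩ : rep.f 0 * rep.f 0 ∈ L.map K.subtype := hNL ▸ mul_mem hxN hxN
  have h1 : l ∈ ρ.ker ⊓ L := ⟨(hmem l).2 (by rw [show (l : Hbar) = _ from hlc]; exact hcmem), hl⟩
  rw [hL.disjoint.eq_bot, Subgroup.mem_bot] at h1
  exact hcne (by rw [← hlc, h1]; rfl)

end Cfsg.Agent.Lib.HN3.HS64
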