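import Mathlib
import Cfsg.Agent.Lib.HN3.HS64
import Cfsg.Agent.Lib.HNSchur64.Main

/-!
The double cover `2.HS` inside any copy of `Hbar`.
-/

set_option autoImplicit false

namespace Cfsg.Agent.Lib.HN3.HS64

/-- If three elements with the relations generate a group of order at least 177408000, it has a
subgroup of index two which is a non-split double cover of the Higman–Sims group. -/
theorem double_cover_of_card (hB : HBound) {G : Type} [Group G] {x y z : G} (h : HRel x y z)
    (hcard : 177408000 ≤ Nat.card (Subgroup.closure ({x, y, z} : Set G))) :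
    ∃ K : Subgroup (Subgroup.closure ({x, y, z} : Set G)),
      K.Normal ∧ K.index = 2 ∧ Cfsg.IsNonsplitDoubleCover K Spor.HS := by
  obtain ⟨φ, e0, e2, e4⟩ := exists_hom hB h
  have hgen : Subgroup.closure ({rep.f 0, rep.f 2, rep.f 4} : Set Hbar) = ⊤ := by
    refine Subgroup.map_injective Hbar.subtype_injective ?_
    rw [MonoidHom.map_closure, ← MonoidHom.range_eq_map, Subgroup.range_subtype,
      Set.image_insert_eq, Set.image_insert_eq, Set.image_singleton]
    rfl
  have hrange : φ.range = Subgroup.closure ({x, y, z} : Set G) := by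
    rw [MonoidHom.range_eq_map, ← hgen, MonoidHom.map_closure, Set.image_insert_eq,
      Set.image_insert_eq, Set.image_singleton, e0, e2, e4]
  set ψ : Hbar →* Subgroup.closure ({x, y, z} : Set G) :=
    (MulEquiv.subgroupCongr hrange).toMonoidHom.comp φ.rangeRestrict
  have hsurj : Function.Surjective ψ :=
    (MulEquiv.subgroupCongr hrange).surjective.comp φ.rangeRestrict_surjective
  have hbij : Function.Bijective ψ :=
    hsurj.bijective_of_nat_card_le ((card_Hbar hB).trans_le hcard)
  let e := MulEquiv.ofBijective ψ hbij
  obtain ⟨K, hn, hi, hc⟩ := hbar_double_cover hB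
  refine ⟨K.map e.toMonoidHom, hn.map _ e.surjective, ?_, ?_⟩
  · exact (Subgroup.index_map_of_bijective e.bijective K).trans hi
  · exact Cfsg.Agent.Lib.HNSchur64.isNonsplitDoubleCover_congr
      (K.equivMapOfInjective e.toMonoidHom e.injective) hc

end Cfsg.Agent.Lib.HN3.HS64
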