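import Mathlib
import Cfsg.Agent.Lib.HN3.Sound
import Cfsg.Agent.Lib.HN3.LowK

/-!
The short certificates give lower bounds.
-/

namespace Cfsg.Agent.Lib.HN3.Rep

open Cfsg.Agent.Lib.HN3

variable {D : Pk} {Q : Type*} [Group Q] (R : Rep D Q) {base : List ℕ}
  (hb : ∀ b ∈ base, b < D.n)
include hb

theorem lowCard_le [Finite Q] : ∀ (L : List LowLev), D.lowOK base L = true →
    lowCard L ≤ Nat.card (R.wgroup (lowHead L))
  | [], _ => Nat.card_pos
  | lv :: T, h => by
    have h' : band (D.lowOK base T) (band (Nat.blt lv.b base.length)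
      (band (forallB (fun s => band (memW s lv.gens)
          (Nat.beq (D.go s (nth 0 base lv.b)) (nth 0 base lv.b))) (lowHead T))
        (belowB (D.lowPtOK base lv) lv.len))) = true := h
    simp only [band_eq, Bool.and_eq_true, forallB_iff, belowB_iff, memW_iff, beqN_iff] at h'
    obtain ⟨hT, hlb', hnest, hpt⟩ := h'
    have hlb : lv.b < base.length := Nat.le_of_ble_eq_true hlb'
    have hβ := nth_base_lt hb hlb
    have ih := lowCard_le T hT
    set W := R.wgroup lv.gens
    have hle : R.wgroup (lowHead T) ≤ W := R.wgroup_mono fun u hu => (hnest u hu).1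
    have hfix : ∀ a ∈ R.wgroup (lowHead T), R.pt a (nth 0 base lv.b) = nth 0 base lv.b := by
      intro a ha
      induction ha using Subgroup.closure_induction with
      | mem x hx =>
        obtain ⟨u, hu, rfl⟩ := hx
        rw [← R.go_eq u _ hβ]; exact (hnest u hu).2
      | one => exact R.pt_one _
      | mul x y _ _ hx hy => rw [R.pt_mul, hx, hy]
      | inv x _ hx => exact R.pt_inv hx
    have hex : ∀ q, q < lv.len → at16 lv.idx (lv.at q).1 = q ∧
        ∃ e ∈ W, R.pt e (nth 0 base lv.b) = (lv.at q).1 := by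
      intro q
      induction q using Nat.strongRecOn with
      | _ q IH =>
        intro hq
        have h := hpt q hq
        have h1 : band (Nat.beq (at16 lv.idx (lv.at q).1) q)
          (Nat.rec (motive := fun _ => Bool) (Nat.beq (lv.at q).1 (nth 0 base lv.b))
            (fun _ _ => band (Nat.blt (lv.at q).2.1 q) (band (Nat.blt (lv.at q).2.2 lv.gens.length)
              (Nat.beq (D.go (nth [] lv.gens (lv.at q).2.2) (lv.at (lv.at q).2.1).1)
                (lv.at q).1))) q) = true := h
        simp only [band_eq, Bool.and_eq_true, beqN_iff] at h1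
        refine ⟨h1.1, ?_⟩
        cases q with
        | zero => exact ⟨1, one_mem _, by rw [R.pt_one]; exact (beqN_iff.1 h1.2).symm⟩
        | succ q' =>
          have h2 : ((Nat.blt (lv.at (q' + 1)).2.1 (q' + 1)) &&
              ((Nat.blt (lv.at (q' + 1)).2.2 lv.gens.length) &&
                (Nat.beq (D.go (nth [] lv.gens (lv.at (q' + 1)).2.2)
                  (lv.at (lv.at (q' + 1)).2.1).1) (lv.at (q' + 1)).1))) = true := h1.2
          simp only [Bool.and_eq_true, beqN_iff] at h2
          obtain ⟨hp, hg, he⟩ := h2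
          have hp' : (lv.at (q' + 1)).2.1 < q' + 1 := Nat.le_of_ble_eq_true hp
          have hg' : (lv.at (q' + 1)).2.2 < lv.gens.length := Nat.le_of_ble_eq_true hg
          obtain ⟨-, e, heW, hept⟩ := IH _ hp' (hp'.trans hq)
          refine ⟨e * R.ev (nth [] lv.gens (lv.at (q' + 1)).2.2),
            mul_mem heW (R.ev_mem_wgroup ?_), ?_⟩
          · rw [nth_eq, List.getD_eq_getElem _ _ hg']; exact List.getElem_mem hg'
          · rw [R.pt_mul, hept, ← R.go_eq _ _ (hept ▸ R.pt_lt e _ hβ)]; exact he
    choose hidx e heW hept using fun q : Fin lv.len => hex q q.2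
    let φ : ↥(R.wgroup (lowHead T)) × Fin lv.len → W :=
      fun a => ⟨a.1.1 * e a.2, mul_mem (hle a.1.2) (heW a.2)⟩
    have hφ : Function.Injective φ := by
      rintro ⟨a, i⟩ ⟨b, j⟩ h
      have h' : a.1 * e i = b.1 * e j := congrArg Subtype.val h
      have hp : R.pt (a.1 * e i) (nth 0 base lv.b) = R.pt (b.1 * e j) (nth 0 base lv.b) := by
        rw [h']
      rw [R.pt_mul, R.pt_mul, hfix _ a.2, hfix _ b.2, hept, hept] at hp
      have hij : i = j := Fin.ext (by rw [← hidx i, ← hidx j, hp])
      subst hij
      exact Prod.ext (Subtype.ext (mul_right_cancel h')) rfl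
    have := Nat.card_le_card_of_injective φ hφ
    rw [Nat.card_prod, Nat.card_fin] at this
    calc lowCard (lv :: T) = lowCard T * lv.len := by
          show lv.len * lowCard T = _; ring
      _ ≤ Nat.card ↥(R.wgroup (lowHead T)) * lv.len := Nat.mul_le_mul_right _ ih
      _ ≤ _ := this

end Cfsg.Agent.Lib.HN3.Rep
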