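import Mathlib
import Cfsg.Agent.Lib.HN3.Deriv
import Cfsg.Agent.Lib.HN3.Cert

/-!
The stabilisers of the nine orbits and the upper bound for the index: the cosets
`H w_j h` are closed under the generators.
-/

namespace Cfsg.Agent.Lib.HN3

theorem hPk_le : hPk.n ≤ 65536 := by rw [hPk_n]; decide

/-- the stabiliser of orbit `j` -/
noncomputable def hnS (j : ℕ) : Subgroup Hbar :=
  rep.wgroup (headGens (nth noOrb hnOrbs j).chain)

theorem hnOrbs_length : hnOrbs.length = 9 := rfl

theorem hnOrb_card {j : ℕ} (hj : j < 9) :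
    chainCard (nth noOrb hnOrbs j).chain = nth 0 hnOrders j := by
  have h := hnCards
  have := congrArg (fun l => nth 0 l j) h
  simp only [nth_eq] at this ⊢
  rw [List.getD_eq_getElem _ _ (by rw [List.length_map, hnOrbs_length]; exact hj),
    List.getElem_map] at this
  rw [List.getD_eq_getElem _ _ (hnOrbs_length.symm ▸ hj)]
  exact this

theorem hnOrb_chainOK {j : ℕ} (hj : j < 9) (h0 : 0 < j) :
    hPk.chainOK hBase (nth noOrb hnOrbs j).chain = true :=
  hnChain_all j hj h0

theorem hnS_zero (hB : HBound) : hnS 0 = ⊤ := by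
  have h1 := rep.chainCard_mul_le hBase_lt hChain hChain_ok (hnS 0) (le_refl _)
    (fun g hg => by rw [inj_base hB g hg]; exact one_mem _)
  rw [hChain_card] at h1
  have h2 : Nat.card (hnS 0) ≤ Nat.card Hbar := Subgroup.card_le_card_group _
  have h3 := Nat.card_pos (α := rep.fixAll hBase)
  refine Subgroup.eq_top_of_card_eq _ (le_antisymm h2 ?_)
  rw [card_Hbar hB]
  exact le_trans (Nat.le_mul_of_pos_right _ h3) h1

theorem card_hnS (hB : HBound) {j : ℕ} (hj : j < 9) :
    Nat.card (hnS j) = nth 0 hnOrders j := by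
  rcases Nat.eq_zero_or_pos j with rfl | h0
  · rw [hnS_zero hB, Subgroup.card_top, card_Hbar hB]; rfl
  · rw [← hnOrb_card hj]
    exact rep.card_wgroup hBase_lt (inj_base hB) _ (hnOrb_chainOK hj h0)

theorem inS_mem (hB : HBound) {j : ℕ} (hj : j < 9) {u : List ℕ}
    (h : inS hnDeriv hnOrbs j u = true) : rep.ev u ∈ hnS j := by
  rcases Nat.eq_zero_or_pos j with rfl | h0
  · rw [hnS_zero hB]; trivial
  · refine rep.sift_mem hBase_lt (inj_base hB) _ (hnOrb_chainOK hj h0) _ ?_
    rw [← rep.mov_base hBase_lt]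
    exact h

/-- one orbit check, unfolded -/
theorem orbOK_spec {j : ℕ} (hj : j < 9) :
    (∀ k ∈ (nth noOrb hnOrbs j).gens, stabItem hnDeriv hnCount j k = true ∧
      (hnDeriv.item k).h ∈ headGens (nth noOrb hnOrbs j).chain) ∧
    (j ≠ 0 → ∀ w ∈ headGens (nth noOrb hnOrbs j).chain,
      ∃ k, stabItem hnDeriv hnCount j k = true ∧ (hnDeriv.item k).h = w) := by
  have h : band (forallB (fun k => band (stabItem hnDeriv hnCount j k)
      (memW (hnDeriv.item k).h (headGens (nth noOrb hnOrbs j).chain))) (nth noOrb hnOrbs j).gens)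
    (band (forallB (fun k => stabItem hnDeriv hnCount j k) (nth noOrb hnOrbs j).head)
      (Nat.rec (motive := fun _ => Bool) true (fun _ _ => forallB (fun w =>
        List.rec (motive := fun _ => Bool) false
          (fun k _ ih => Bool.rec (motive := fun _ => Bool) ih true (eqLN (hnDeriv.item k).h w))
          (nth noOrb hnOrbs j).head) (headGens (nth noOrb hnOrbs j).chain)) j)) = true :=
    belowB_iff.1 hnOrbsOK j hj
  simp only [band_eq, Bool.and_eq_true, forallB_iff, memW_iff] at h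
  obtain ⟨h1, h2, h3⟩ := h
  refine ⟨h1, fun h0 w hw => ?_⟩
  obtain ⟨j', rfl⟩ := Nat.exists_eq_succ_of_ne_zero h0
  replace h3 := forallB_iff.1 h3
  have := h3 w hw
  revert this h2
  generalize (nth noOrb hnOrbs j'.succ).head = l
  intro h2 h
  induction l with
  | nil => simp at h
  | cons k l ih =>
    have h' : Bool.rec (motive := fun _ => Bool)
        (List.rec (motive := fun _ => Bool) false
          (fun k _ ih => Bool.rec (motive := fun _ => Bool) ih true (eqLN (hnDeriv.item k).h w)) l)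
        true (eqLN (hnDeriv.item k).h w) = true := h
    rcases e : eqLN (hnDeriv.item k).h w with _ | _
    · rw [e] at h'
      exact ih (fun a ha => h2 a (List.mem_cons_of_mem _ ha)) h'
    · exact ⟨k, h2 k (by simp), eqLN_iff.1 e⟩

theorem stabItem_spec {j k : ℕ} (h : stabItem hnDeriv hnCount j k = true) :
    k < hnCount ∧ (hnDeriv.item k).i = j ∧ (hnDeriv.item k).d = 0 ∧ (hnDeriv.item k).j = j ∧
      (hnDeriv.item k).g = [] := by
  have h' : band (Nat.blt k hnCount) (band (Nat.beq (hnDeriv.item k).i j)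
    (band (Nat.beq (hnDeriv.item k).d 0) (band (Nat.beq (hnDeriv.item k).j j)
      (eqLN (hnDeriv.item k).g [])))) = true := h
  simp only [band_eq, Bool.and_eq_true, beqN_iff, eqLN_iff] at h'
  exact ⟨Nat.le_of_ble_eq_true h'.1, h'.2⟩

/-- one class entry, unfolded -/
theorem classOK_spec {i q : ℕ} (hi : i < 9) (hq : q < 1408) :
    let O := nth noOrb hnOrbs i
    let e := O.cls q
    e.1 < 1408 ∧ O.pos e.1 = q ∧ (hnDeriv.item e.2.2.1).i = i ∧
    (e.2.1 = q → e.2.2.2 < hnRoots.length ∧ (nth noRoot hnRoots e.2.2.2).i = i ∧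
      (nth noRoot hnRoots e.2.2.2).p = e.1 ∧ (nth noRoot hnRoots e.2.2.2).k = e.2.2.1 ∧
      (hnDeriv.item e.2.2.1).d = 1 ∧ hPk.go (hnDeriv.item e.2.2.1).h e.1 = 0) ∧
    (e.2.1 ≠ q → e.2.1 < q ∧ e.2.2.1 ∈ O.gens ∧ (hnDeriv.item e.2.2.1).d = 0 ∧
      (O.cls e.2.1).2.2.2 = e.2.2.2 ∧
      hPk.go (hnDeriv.item e.2.2.1).h (O.cls e.2.1).1 = e.1) := by
  intro O e
  have h : band (Nat.blt e.1 hPk.n) (band (Nat.beq (O.pos e.1) q)
      (band (Nat.beq (hnDeriv.item e.2.2.1).i i)
      (Bool.rec (motive := fun _ => Bool)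
        (band (Nat.blt e.2.1 q) (band (Nat.beq (hnDeriv.item e.2.2.1).d 0)
          (band (memW [e.2.2.1] (List.rec
          (motive := fun _ => List (List Nat)) [] (fun t _ ih => [t] :: ih) O.gens))
          (band (Nat.beq (O.cls e.2.1).2.2.2 e.2.2.2)
            (Nat.beq (hPk.go (hnDeriv.item e.2.2.1).h (O.cls e.2.1).1) e.1)))))
        (band (Nat.blt e.2.2.2 hnRoots.length)
          (band (Nat.beq (nth noRoot hnRoots e.2.2.2).i i)
            (band (Nat.beq (nth noRoot hnRoots e.2.2.2).p e.1)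
              (band (Nat.beq (nth noRoot hnRoots e.2.2.2).k e.2.2.1)
                (band (Nat.beq (hnDeriv.item e.2.2.1).d 1)
                  (Nat.beq (hPk.go (hnDeriv.item e.2.2.1).h e.1) 0))))))
        (Nat.beq e.2.1 q)))) = true := hnClass_ok i hi q hq
  simp only [band_eq, Bool.and_eq_true, beqN_iff] at h
  obtain ⟨h1, h2, h3, h4⟩ := h
  refine ⟨Nat.le_of_ble_eq_true h1, h2, h3, fun he => ?_, fun he => ?_⟩
  · rw [beqN_iff.2 he] at h4
    simp only [Bool.and_eq_true, beqN_iff] at h4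
    exact ⟨Nat.le_of_ble_eq_true h4.1, h4.2⟩
  · have hf : Nat.beq e.2.1 q = false := by
      rw [Bool.eq_false_iff]; exact fun h => he (beqN_iff.1 h)
    rw [hf] at h4
    simp only [Bool.and_eq_true, beqN_iff] at h4
    refine ⟨Nat.le_of_ble_eq_true h4.1, ?_, h4.2.1, h4.2.2.2⟩
    have key : ∀ (l : List ℕ), [e.2.2.1] ∈ List.rec (motive := fun _ => List (List Nat)) []
        (fun t _ ih => [t] :: ih) l → e.2.2.1 ∈ l := by
      intro l
      induction l with
      | nil => simp
      | cons t l ih =>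
        intro h
        rcases List.mem_cons.1 h with h | h
        · simp [(List.cons.inj h).1]
        · exact List.mem_cons_of_mem _ (ih h)
    exact key _ (memW_iff.1 h4.2.2.1)

/-- the positions of the classes are a bijection -/
theorem class_at {i c : ℕ} (hi : i < 9) (hc : c < 1408) :
    (nth noOrb hnOrbs i).pos c < 1408 ∧
      ((nth noOrb hnOrbs i).cls ((nth noOrb hnOrbs i).pos c)).1 = c := by
  let f : Fin 1408 → Fin 1408 := fun q =>
    ⟨((nth noOrb hnOrbs i).cls q).1, (classOK_spec hi q.2).1⟩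
  have hinj : Function.Injective f := by
    intro a b hab
    have e := congrArg (fun x : Fin 1408 => (nth noOrb hnOrbs i).pos x) hab
    simp only [f] at e
    rw [(classOK_spec hi a.2).2.1, (classOK_spec hi b.2).2.1] at e
    exact Fin.ext e
  obtain ⟨q, hq⟩ := (Finite.injective_iff_surjective.1 hinj) ⟨c, hc⟩
  have e : ((nth noOrb hnOrbs i).cls q).1 = c := congrArg Fin.val hq
  have hp := (classOK_spec hi q.2).2.1
  rw [e] at hp
  rw [hp]
  exact ⟨q.2, e⟩

theorem stab_point {c : ℕ} (hc : c < hPk.n) {s h : Hbar} {b : ℕ} (hs : rep.pt s b = c) :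
    rep.pt (s * h) b = rep.pt h c := by
  rw [rep.pt_mul, hs]

/-- the stabiliser of the first point in `Hbar` -/
noncomputable def Cpt : Subgroup Hbar where
  carrier := {g | rep.pt g 0 = 0}
  one_mem' := rep.pt_one 0
  mul_mem' {a b} ha hb := by
    show rep.pt (a * b) 0 = 0
    rw [rep.pt_mul, show rep.pt a 0 = 0 from ha]; exact hb
  inv_mem' {a} ha := rep.pt_inv ha

theorem card_Cpt_le (hB : HBound) : Nat.card Cpt ≤ 126000 := by
  obtain ⟨-, hlb, -, -, hent⟩ := Rep.baseOK_cons (D := hPk) (base := hBase)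
    (show hPk.baseOK hBase (h0 :: [h1, h2, h3]) = true from hChain_ok)
  let φ : Cpt × Fin h0.len → Hbar := fun a => a.1.1 * rep.ev (h0.entry a.2).2.1
  have hφ : Function.Injective φ := by
    rintro ⟨a, i⟩ ⟨b, j⟩ e
    have e' : a.1 * rep.ev (h0.entry i).2.1 = b.1 * rep.ev (h0.entry j).2.1 := e
    have hp : rep.pt (a.1 * rep.ev (h0.entry i).2.1) 0 =
        rep.pt (b.1 * rep.ev (h0.entry j).2.1) 0 := by rw [e']
    rw [rep.pt_mul, rep.pt_mul, show rep.pt a.1 0 = 0 from a.2,
      show rep.pt b.1 0 = 0 from b.2] at hp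
    obtain ⟨f1, p1, -⟩ := rep.entry_spec hBase_lt hlb (hent i i.2)
    obtain ⟨f2, p2, -⟩ := rep.entry_spec hBase_lt hlb (hent j j.2)
    have hz : nth 0 hBase h0.b = 0 := rfl
    rw [hz] at p1 p2
    rw [p1, p2] at hp
    have hij : (i : ℕ) = j := by rw [← f1, ← f2, hp]
    rw [hij] at e'
    exact Prod.ext (Subtype.ext (mul_right_cancel e')) (Fin.ext hij)
  have := Nat.card_le_card_of_injective φ hφ
  rw [Nat.card_prod, Nat.card_fin, card_Hbar hB, (by decide +kernel : h0.len = 1408),
    show (177408000 : ℕ) = 126000 * 1408 by norm_num] at this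
  exact Nat.le_of_mul_le_mul_right this (by norm_num)

theorem tokens_fix : forallB (fun x => Nat.beq (hPk.go [x] 0) 0) cTokens = true := by
  decide +kernel

/-- the tokens generate the stabiliser of the first point -/
theorem tokens_top (hB : HBound) :
    Subgroup.closure (rep.ev '' {u | ∃ x ∈ cTokens, u = [x]}) = Cpt := by
  have hle : Subgroup.closure (rep.ev '' {u | ∃ x ∈ cTokens, u = [x]}) ≤ Cpt := by
    rw [Subgroup.closure_le]
    rintro _ ⟨_, ⟨x, hx, rfl⟩, rfl⟩
    show rep.pt (rep.ev [x]) 0 = 0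
    rw [← rep.go_eq [x] 0 (by rw [hPk_n]; decide)]
    exact beqN_iff.1 (forallB_iff.1 tokens_fix x hx)
  refine Subgroup.eq_of_le_of_card_ge hle ?_
  set T := Subgroup.closure (rep.ev '' {u | ∃ x ∈ cTokens, u = [x]})
  have hgen : rep.wgroup (headGens cChain) ≤ T := by
    rw [Rep.wgroup, Subgroup.closure_le]
    rintro _ ⟨u, hu, rfl⟩
    have h := forallB_iff.1 (forallB_iff.1 cChain_gens u hu)
    clear hu
    induction u with
    | nil => rw [rep.ev_nil]; exact one_mem _
    | cons x u ih =>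
      rw [show x :: u = [x] ++ u from rfl, rep.ev_append]
      refine mul_mem ?_ (ih fun y hy => h y (List.mem_cons_of_mem _ hy))
      have hx := h x (by simp)
      have hm : memW [x] [[cTokens.getD 0 0], [cTokens.getD 1 0], [cTokens.getD 2 0],
          [cTokens.getD 3 0]] = true := by
        revert hx
        cases memW [x] [[cTokens.getD 0 0], [cTokens.getD 1 0], [cTokens.getD 2 0],
          [cTokens.getD 3 0]] <;> simp
      rw [memW_iff] at hm
      refine Subgroup.subset_closure ⟨[x], ⟨x, ?_, rfl⟩, rfl⟩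
      simp only [List.mem_cons, List.cons.injEq, and_true, List.not_mem_nil, or_false] at hm
      rcases hm with rfl | rfl | rfl | rfl <;> simp [cTokens]
  have h1 := rep.chainCard_mul_le hBase_lt cChain cChain_ok T hgen
    (fun g hg => by rw [inj_base hB g hg]; exact one_mem _)
  rw [cChain_card] at h1
  exact (card_Cpt_le hB).trans
    (le_trans (Nat.le_mul_of_pos_right _ (Nat.card_pos (α := rep.fixAll hBase))) h1)

variable {G : Type} [Group G] {C : Ctx G}

theorem commute_Cpt (hB : HBound) {a : Hbar} (ha : a ∈ Cpt) : Commute C.t (C.φ a) := by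
  rw [← tokens_top hB] at ha
  induction ha using Subgroup.closure_induction with
  | mem x hx => obtain ⟨_, ⟨y, hy, rfl⟩, rfl⟩ := hx; exact C.token_commute y hy
  | one => simp
  | mul x y _ _ hx hy => rw [map_mul]; exact hx.mul_right hy
  | inv x _ hx => rw [map_inv]; exact hx.inv_right

theorem item_holds {q : ℕ} (hq : q < hnCount) :
    hnDeriv.Holds C (hnDeriv.item q) :=
  (Deriv.holds_all hnDeriv_eq.1 hnDeriv_eq.2.1 hnDeriv_eq.2.2 hnStep_ok q hq).1

theorem stab_eqv (hB : HBound) {j : ℕ} (hj : j < 9) {s : Hbar} (hs : s ∈ hnS j) :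
    C.Eqv (hnDeriv.W C j * C.φ s) (hnDeriv.W C j) := by
  rcases Nat.eq_zero_or_pos j with rfl | h0
  · simp only [Deriv.W, one_mul]
    exact Ctx.eqv_of_mem ⟨_, rfl⟩
  induction hs using Subgroup.closure_induction with
  | mem x hx =>
    obtain ⟨w, hw, rfl⟩ := hx
    obtain ⟨k, hk, rfl⟩ := (orbOK_spec hj).2 (by omega) w hw
    obtain ⟨hk', e1, e2, e3, e4⟩ := stabItem_spec hk
    have h := item_holds (C := C) hk'
    rw [Deriv.Holds, e1, e2, e3, e4, pow_zero, mul_one, C.hv_nil, mul_one] at h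
    exact h
  | one => rw [map_one, mul_one]; exact Ctx.Eqv.refl _
  | mul x y _ _ hx hy =>
    rw [map_mul, ← mul_assoc]
    exact (hx.mul_right _).trans hy
  | inv x _ hx =>
    have := (hx.mul_right (C.φ x)⁻¹).symm
    rwa [mul_inv_cancel_right, ← map_inv] at this

theorem gen_mem_S {j k : ℕ} (hj : j < 9) (hk : k ∈ (nth noOrb hnOrbs j).gens) :
    rep.ev (hnDeriv.item k).h ∈ hnS j :=
  rep.ev_mem_wgroup ((orbOK_spec hj).1 k hk).2

/-- the coset `H w_j h t` is again one of the nine families -/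
theorem exists_step (hB : HBound) (hroot : ∀ r < hnRoots.length,
      (nth noRoot hnRoots r).k < hnCount ∧ (hnDeriv.item (nth noRoot hnRoots r).k).j < 9)
    {j : ℕ} (hj : j < 9) (h : Hbar) :
    ∃ k g, k < 9 ∧ C.Eqv (hnDeriv.W C j * C.φ h * C.t) (hnDeriv.W C k * C.φ g) := by
  have key : ∀ q, q < 1408 → ∀ h : Hbar, rep.pt h ((nth noOrb hnOrbs j).cls q).1 = 0 →
      ∃ k g, k < 9 ∧ C.Eqv (hnDeriv.W C j * C.φ h * C.t) (hnDeriv.W C k * C.φ g) := by
    intro q
    induction q using Nat.strongRecOn with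
    | _ q IH =>
      intro hq h hh
      obtain ⟨hc, -, hi, hroot', hchild⟩ := classOK_spec hj hq
      rcases eq_or_ne ((nth noOrb hnOrbs j).cls q).2.1 q with he | he
      · obtain ⟨hr, -, -, hk, hd, hgo⟩ := hroot' he
        obtain ⟨hkc, hk9⟩ := hroot _ hr
        rw [hk] at hkc hk9
        have hH := item_holds (C := C) hkc
        rw [Deriv.Holds, hi, hd, pow_one] at hH
        set it := hnDeriv.item ((nth noOrb hnOrbs j).cls q).2.2.1
        rw [rep.go_eq _ _ (by rwa [hPk_n])] at hgo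
        have ha : (rep.ev it.h)⁻¹ * h ∈ Cpt := by
          show rep.pt ((rep.ev it.h)⁻¹ * h) 0 = 0
          rw [rep.pt_mul, rep.pt_inv hgo, hh]
        refine ⟨it.j, rep.ev it.g * ((rep.ev it.h)⁻¹ * h), hk9, ?_⟩
        have hc := commute_Cpt (C := C) hB ha
        have e := hH.mul_right (C.φ ((rep.ev it.h)⁻¹ * h))
        rw [mul_assoc _ C.t, hc.eq] at e
        rw [map_mul C.φ (rep.ev it.g), ← mul_assoc]
        simp only [Ctx.hv] at e
        convert e using 1
        simp only [map_mul, map_inv]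
        group
      · obtain ⟨hp, hg, -, -, hgo⟩ := hchild he
        obtain ⟨hb, -⟩ := classOK_spec hj (hp.trans hq)
        rw [rep.go_eq _ _ (by rwa [hPk_n])] at hgo
        set s := rep.ev (hnDeriv.item ((nth noOrb hnOrbs j).cls q).2.2.1).h
        have hs : s ∈ hnS j := gen_mem_S hj hg
        obtain ⟨k, g, hk, e⟩ := IH _ hp (hp.trans hq) (s * h) (by rw [rep.pt_mul, hgo, hh])
        refine ⟨k, g, hk, ?_⟩
        have h1 := ((stab_eqv (C := C) hB hj hs).mul_right (C.φ h * C.t)).symm
        refine Ctx.Eqv.trans ?_ e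
        convert h1 using 1
        · group
        · rw [map_mul]; group
  have hc : rep.pt h⁻¹ 0 < 1408 := rep.pt_lt _ _ (by rw [hPk_n]; decide)
  obtain ⟨hq, hcls⟩ := class_at hj hc
  refine key _ hq h ?_
  rw [hcls]
  have := rep.pt_inv (g := h⁻¹) (p := 0) rfl
  rwa [inv_inv] at this

end Cfsg.Agent.Lib.HN3
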