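import Mathlib
import Cfsg.Agent.Lib.HN3.Upper
import Cfsg.Agent.Lib.HN3.Low
import Cfsg.Agent.Lib.HN3.HNRootChk0
import Cfsg.Agent.Lib.HN3.HNRootChk1
import Cfsg.Agent.Lib.HN3.HNRootChk2
import Cfsg.Agent.Lib.HN3.HNRootChk3

/-!
The roots: in each of the nine orbits the classes of points fall into parts, one for each root,
and the stabiliser of the point of a root is generated by the listed elements.
-/

namespace Cfsg.Agent.Lib.HN3

/-- root number `r` -/
noncomputable abbrev hnRoot (r : ℕ) : Root := nth noRoot hnRoots r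

/-- the word carrying the point of root `r` to the first point -/
noncomputable abbrev rootH (r : ℕ) : List ℕ := (hnDeriv.item (hnRoot r).k).h

/-- the word reached from root `r` -/
noncomputable abbrev rootG (r : ℕ) : List ℕ := (hnDeriv.item (hnRoot r).k).g

/-- the orbit reached from root `r` -/
noncomputable abbrev rootJ (r : ℕ) : ℕ := (hnDeriv.item (hnRoot r).k).j

/-- the root of a point in orbit `i` -/
noncomputable def rootOf (i c : ℕ) : ℕ :=
  ((nth noOrb hnOrbs i).cls ((nth noOrb hnOrbs i).pos c)).2.2.2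

theorem hnRoots_length : hnRoots.length = 101 := rfl

theorem hnRootOK_ok : ∀ r < 101, rootOK hnDeriv hnOrbs hnRoots hnCount r = true := by
  intro r hr
  have k : ∀ (a m : ℕ),
      belowB (fun r => rootOK hnDeriv hnOrbs hnRoots hnCount (Nat.add a r)) m = true →
      a ≤ r → r < a + m → rootOK hnDeriv hnOrbs hnRoots hnCount r = true := by
    intro a m h h1 h2
    have := belowB_iff.1 h (r - a) (by omega)
    rwa [show Nat.add a (r - a) = r by show a + (r - a) = r; omega] at this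
  rcases Nat.lt_or_ge r 26 with h | h
  · exact k 0 26 hnRootOK0 (by omega) (by omega)
  rcases Nat.lt_or_ge r 52 with h | h
  · exact k 26 26 hnRootOK1 (by omega) (by omega)
  rcases Nat.lt_or_ge r 78 with h | h
  · exact k 52 26 hnRootOK2 (by omega) (by omega)
  · exact k 78 23 hnRootOK3 (by omega) (by omega)

/-- one root check, unfolded -/
theorem rootOK_spec (hB : HBound) {r : ℕ} (hr : r < hnRoots.length) (hi : (hnRoot r).i < 9) :
    (hnRoot r).k < hnCount ∧ rootJ r < 9 ∧
    rep.ev (hnRoot r).hfi = (rep.ev (rootH r))⁻¹ ∧ rep.ev (hnRoot r).gi = (rep.ev (rootG r))⁻¹ ∧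
    hPk.lowOK hBase (hnRoot r).fix = true ∧
    countRoot hnOrbs (hnRoot r).i r 1408 = (hnRoot r).len ∧
    lowCard (hnRoot r).fix * (hnRoot r).len = Nat.card (hnS (hnRoot r).i) ∧
    ∀ w ∈ lowHead (hnRoot r).fix, hPk.go w (hnRoot r).p = (hnRoot r).p ∧
      rep.ev w ∈ hnS (hnRoot r).i ∧
      rep.ev (rootG r) * ((rep.ev (rootH r))⁻¹ * rep.ev w * rep.ev (rootH r)) *
        (rep.ev (rootG r))⁻¹ ∈ hnS (rootJ r) := by
  have h : band (Nat.blt (hnRoot r).k hnCount)
    (band (Nat.beq (hnDeriv.item (hnRoot r).k).i (hnRoot r).i)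
      (band (Nat.beq (hnDeriv.item (hnRoot r).k).d 1)
    (band (Nat.blt (rootJ r) hnOrbs.length)
      (band (hPk.same hBase (rootH r ++ (hnRoot r).hfi) [])
        (band (hPk.same hBase (rootG r ++ (hnRoot r).gi) [])
        (band (hPk.lowOK hBase (hnRoot r).fix)
          (band (Nat.beq (countRoot hnOrbs (hnRoot r).i r 1408) (hnRoot r).len)
          (band (Nat.beq (Nat.mul (lowCard (hnRoot r).fix) (hnRoot r).len)
              (chainCard (nth noOrb hnOrbs (hnRoot r).i).chain))
            (forallB (fun w => band (Nat.beq (hPk.go w (hnRoot r).p) (hnRoot r).p)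
              (band (inS hnDeriv hnOrbs (hnRoot r).i w)
              (inS hnDeriv hnOrbs (rootJ r)
                (rootG r ++ ((hnRoot r).hfi ++ (w ++ (rootH r ++ (hnRoot r).gi)))))))
              (lowHead (hnRoot r).fix)))))))))) = true :=
    hnRootOK_ok r hr
  simp only [band_eq, Bool.and_eq_true, forallB_iff, beqN_iff] at h
  obtain ⟨h1, -, -, h4, h5, h6, h7, h8, h9, h10⟩ := h
  have hj : rootJ r < 9 := Nat.le_of_ble_eq_true h4
  have e1 : rep.ev (hnRoot r).hfi = (rep.ev (rootH r))⁻¹ := by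
    refine eq_inv_of_mul_eq_one_right ?_
    rw [← rep.ev_append, rep.eq_of_same hBase_lt (inj_base hB) h5, rep.ev_nil]
  have e2 : rep.ev (hnRoot r).gi = (rep.ev (rootG r))⁻¹ := by
    refine eq_inv_of_mul_eq_one_right ?_
    rw [← rep.ev_append, rep.eq_of_same hBase_lt (inj_base hB) h6, rep.ev_nil]
  refine ⟨Nat.le_of_ble_eq_true h1, hj, e1, e2, h7, h8, ?_, fun w hw => ?_⟩
  · rw [card_hnS hB hi, ← hnOrb_card hi]
    exact h9
  · obtain ⟨a, b, c⟩ := h10 w hw
    refine ⟨a, inS_mem hB hi b, ?_⟩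
    have := inS_mem hB hj c
    simpa only [rep.ev_append, e1, e2, mul_assoc] using this

/-- the root of a class, and its connection with the points of the class -/
theorem class_reach {i : ℕ} (hi : i < 9) : ∀ q, q < 1408 →
    ((nth noOrb hnOrbs i).cls q).2.2.2 < hnRoots.length ∧
    (hnRoot ((nth noOrb hnOrbs i).cls q).2.2.2).i = i ∧
    rootOf i (hnRoot ((nth noOrb hnOrbs i).cls q).2.2.2).p =
      ((nth noOrb hnOrbs i).cls q).2.2.2 ∧
    rep.pt (rep.ev (rootH ((nth noOrb hnOrbs i).cls q).2.2.2))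
      (hnRoot ((nth noOrb hnOrbs i).cls q).2.2.2).p = 0 ∧
    (hnRoot ((nth noOrb hnOrbs i).cls q).2.2.2).p < 1408 ∧
    ∃ u ∈ hnS i, rep.pt u (hnRoot ((nth noOrb hnOrbs i).cls q).2.2.2).p =
      ((nth noOrb hnOrbs i).cls q).1 := by
  intro q
  induction q using Nat.strongRecOn with
  | _ q IH =>
    intro hq
    obtain ⟨hc, hpos, -, hroot, hchild⟩ := classOK_spec hi hq
    rcases eq_or_ne ((nth noOrb hnOrbs i).cls q).2.1 q with he | he
    · obtain ⟨hr, hri, hp, hk, -, hgo⟩ := hroot he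
      refine ⟨hr, hri, ?_, ?_, ?_, 1, one_mem _, ?_⟩
      · unfold rootOf hnRoot
        rw [hp, hpos]
      · unfold rootH hnRoot
        rw [hk, hp]
        rw [rep.go_eq _ _ (by rwa [hPk_n])] at hgo
        exact hgo
      · unfold hnRoot
        rw [hp]; exact hc
      · rw [rep.pt_one]; exact hp
    · obtain ⟨hlt, hg, -, hrq, hgo⟩ := hchild he
      obtain ⟨a1, a2, a3, a4, a5, u, hu, hup⟩ := IH _ hlt (hlt.trans hq)
      rw [hrq] at a1 a2 a3 a4 a5 hup
      refine ⟨a1, a2, a3, a4, a5, u * _, mul_mem hu (gen_mem_S hi hg), ?_⟩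
      rw [rep.pt_mul, hup, ← rep.go_eq _ _ ?_, hgo]
      rw [hPk_n]
      exact (classOK_spec hi (hlt.trans hq)).1

theorem root_data {i c : ℕ} (hi : i < 9) (hc : c < 1408) :
    rootOf i c < hnRoots.length ∧ (hnRoot (rootOf i c)).i = i ∧
    rootOf i (hnRoot (rootOf i c)).p = rootOf i c ∧
    ∃ u ∈ hnS i, rep.pt u (hnRoot (rootOf i c)).p = c := by
  obtain ⟨hq, he⟩ := class_at hi hc
  obtain ⟨a1, a2, a3, -, -, u, hu, hup⟩ := class_reach hi _ hq
  exact ⟨a1, a2, a3, u, hu, hup.trans he⟩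

theorem rootInv_gen {i c : ℕ} (hi : i < 9) (hc : c < 1408) {w : List ℕ}
    (hw : w ∈ headGens (nth noOrb hnOrbs i).chain) :
    rootOf i (rep.pt (rep.ev w) c) = rootOf i c := by
  obtain ⟨hq, he⟩ := class_at hi hc
  have h : forallB (fun w => hold (hPk.go w
      ((nth noOrb hnOrbs i).cls ((nth noOrb hnOrbs i).pos c)).1) fun p =>
      Nat.beq ((nth noOrb hnOrbs i).cls ((nth noOrb hnOrbs i).pos p)).2.2.2
        ((nth noOrb hnOrbs i).cls ((nth noOrb hnOrbs i).pos c)).2.2.2)
      (headGens (nth noOrb hnOrbs i).chain) = true := hnRootInv_ok i hi _ hq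
  have h' := forallB_iff.1 h w hw
  rw [hold_eq, beqN_iff, he, rep.go_eq _ _ (by rwa [hPk_n])] at h'
  exact h'

theorem rootOf_pt {i : ℕ} (hi : i < 9) {s : Hbar} (hs : s ∈ hnS i) :
    ∀ c < 1408, rootOf i (rep.pt s c) = rootOf i c := by
  induction hs using Subgroup.closure_induction with
  | mem x hx => obtain ⟨w, hw, rfl⟩ := hx; exact fun c hc => rootInv_gen hi hc hw
  | one => intro c _; rw [rep.pt_one]
  | mul x y _ _ hx hy =>
    intro c hc
    rw [rep.pt_mul, hy _ (by have := rep.pt_lt x c (by rwa [hPk_n]); rwa [hPk_n] at this), hx c hc]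
  | inv x _ hx =>
    intro c hc
    have h1 : rep.pt x⁻¹ c < 1408 := by
      have := rep.pt_lt x⁻¹ c (by rwa [hPk_n]); rwa [hPk_n] at this
    have h2 := hx _ h1
    rw [← rep.pt_mul, inv_mul_cancel, rep.pt_one] at h2
    exact h2.symm

theorem countRoot_eq (i r : ℕ) : ∀ n, countRoot hnOrbs i r n =
    ((Finset.range n).filter fun q => ((nth noOrb hnOrbs i).cls q).2.2.2 = r).card
  | 0 => rfl
  | n + 1 => by
    show hold (countRoot hnOrbs i r n) (fun c => Bool.rec (motive := fun _ => ℕ) c (Nat.succ c)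
      (Nat.beq ((nth noOrb hnOrbs i).cls n).2.2.2 r)) = _
    rw [hold_eq, countRoot_eq i r n, Finset.range_add_one, Finset.filter_insert]
    by_cases h : ((nth noOrb hnOrbs i).cls n).2.2.2 = r
    · rw [beqN_iff.2 h, if_pos h, Finset.card_insert_of_notMem (by simp)]
    · have : Nat.beq ((nth noOrb hnOrbs i).cls n).2.2.2 r = false := by
        rw [Bool.eq_false_iff]; exact fun e => h (beqN_iff.1 e)
      rw [this, if_neg h]

/-- every root has a class -/
theorem root_point (hB : HBound) {r : ℕ} (hr : r < hnRoots.length) (hi : (hnRoot r).i < 9) :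
    rootOf (hnRoot r).i (hnRoot r).p = r ∧ (hnRoot r).p < 1408 ∧
      rep.pt (rep.ev (rootH r)) (hnRoot r).p = 0 := by
  obtain ⟨-, -, -, -, -, hcount, hcard, -⟩ := rootOK_spec hB hr hi
  have hpos : 0 < Nat.card (hnS (hnRoot r).i) := Nat.card_pos
  rw [← hcard] at hpos
  have hlen : 0 < countRoot hnOrbs (hnRoot r).i r 1408 :=
    hcount ▸ Nat.pos_of_mul_pos_left hpos
  rw [countRoot_eq, Finset.card_pos] at hlen
  obtain ⟨q, hq⟩ := hlen
  simp only [Finset.mem_filter, Finset.mem_range] at hq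
  obtain ⟨-, -, h3, h4, h5, -⟩ := class_reach hi q hq.1
  rw [hq.2] at h3 h4 h5
  exact ⟨h3, h5, h4⟩

/-- moving a stabilised point of root `r` across the edge stays in the stabiliser -/
theorem fix_across (hB : HBound) {r : ℕ} (hr : r < hnRoots.length) (hi : (hnRoot r).i < 9)
    {u : Hbar} (hu : u ∈ hnS (hnRoot r).i) (hp : rep.pt u (hnRoot r).p = (hnRoot r).p) :
    rep.ev (rootG r) * ((rep.ev (rootH r))⁻¹ * u * rep.ev (rootH r)) *
        (rep.ev (rootG r))⁻¹ ∈ hnS (rootJ r) := by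
  obtain ⟨-, -, -, -, hlow, hcount, hcard, hgens⟩ := rootOK_spec hB hr hi
  obtain ⟨-, hp0, -⟩ := root_point hB hr hi
  let St : Subgroup Hbar :=
    { carrier := {g | g ∈ hnS (hnRoot r).i ∧ rep.pt g (hnRoot r).p = (hnRoot r).p}
      one_mem' := ⟨one_mem _, rep.pt_one _⟩
      mul_mem' := fun {a b} ha hb => ⟨mul_mem ha.1 hb.1, by rw [rep.pt_mul, ha.2, hb.2]⟩
      inv_mem' := fun {a} ha => ⟨inv_mem ha.1, rep.pt_inv ha.2⟩ }
  have hW : rep.wgroup (lowHead (hnRoot r).fix) ≤ St := by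
    rw [Rep.wgroup, Subgroup.closure_le]
    rintro _ ⟨w, hw, rfl⟩
    obtain ⟨a, b, -⟩ := hgens w hw
    exact ⟨b, by rwa [rep.go_eq _ _ (by rwa [hPk_n])] at a⟩
  have hreach : ∀ q : {q // q ∈ (Finset.range 1408).filter
      fun q => ((nth noOrb hnOrbs (hnRoot r).i).cls q).2.2.2 = r},
      ∃ v ∈ hnS (hnRoot r).i,
        rep.pt v (hnRoot r).p = ((nth noOrb hnOrbs (hnRoot r).i).cls q).1 := by
    rintro ⟨q, hq⟩
    simp only [Finset.mem_filter, Finset.mem_range] at hq
    obtain ⟨-, -, -, -, -, v, hv, hvp⟩ := class_reach hi q hq.1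
    rw [hq.2] at hvp
    exact ⟨v, hv, hvp⟩
  choose v hv hvp using hreach
  let f : St × {q // q ∈ (Finset.range 1408).filter
      fun q => ((nth noOrb hnOrbs (hnRoot r).i).cls q).2.2.2 = r} → hnS (hnRoot r).i :=
    fun a => ⟨a.1.1 * v a.2, mul_mem a.1.2.1 (hv a.2)⟩
  have hf : Function.Injective f := by
    rintro ⟨a, q⟩ ⟨b, q'⟩ e
    have e' : a.1 * v q = b.1 * v q' := congrArg Subtype.val e
    have hpp : rep.pt (a.1 * v q) (hnRoot r).p = rep.pt (b.1 * v q') (hnRoot r).p := by rw [e']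
    rw [rep.pt_mul, rep.pt_mul, a.2.2, b.2.2, hvp, hvp] at hpp
    have h1 := (classOK_spec hi (Finset.mem_range.1 (Finset.mem_filter.1 q.2).1)).2.1
    have h2 := (classOK_spec hi (Finset.mem_range.1 (Finset.mem_filter.1 q'.2).1)).2.1
    rw [hpp, h2] at h1
    have hqq : q = q' := Subtype.ext h1.symm
    subst hqq
    exact Prod.ext (Subtype.ext (mul_right_cancel e')) rfl
  have h1 := Nat.card_le_card_of_injective f hf
  rw [Nat.card_prod, Nat.card_eq_finsetCard, ← countRoot_eq, hcount, ← hcard] at h1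
  have hlen : 0 < (hnRoot r).len := by
    rcases Nat.eq_zero_or_pos (hnRoot r).len with e | e
    · rw [e, mul_zero] at hcard
      exact absurd hcard.symm (Nat.card_pos (α := hnS (hnRoot r).i)).ne'
    · exact e
  have h2 := Rep.lowCard_le rep hBase_lt _ hlow
  have hSt : rep.wgroup (lowHead (hnRoot r).fix) = St :=
    Subgroup.eq_of_le_of_card_ge hW
      ((Nat.le_of_mul_le_mul_right h1 hlen).trans h2)
  have huW : u ∈ rep.wgroup (lowHead (hnRoot r).fix) := by rw [hSt]; exact ⟨hu, hp⟩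
  clear hu hp
  induction huW using Subgroup.closure_induction with
  | mem x hx => obtain ⟨w, hw, rfl⟩ := hx; exact (hgens w hw).2.2
  | one => simp
  | mul x y _ _ hx hy =>
    have := mul_mem hx hy
    convert this using 1
    group
  | inv x _ hx =>
    have := inv_mem hx
    convert this using 1
    group

end Cfsg.Agent.Lib.HN3
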