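import Mathlib
import Cfsg.Agent.Lib.HN3.Roots
import Cfsg.Agent.Lib.HN3.HNWalkChk
import Cfsg.Agent.Lib.HN3.HNZChk0
import Cfsg.Agent.Lib.HN3.HNZChk1
import Cfsg.Agent.Lib.HN3.HNZChk2
import Cfsg.Agent.Lib.HN3.HNZChk3
import Cfsg.Agent.Lib.HN3.HNZChk4
import Cfsg.Agent.Lib.HN3.HNZChk5
import Cfsg.Agent.Lib.HN3.HNZChk6
import Cfsg.Agent.Lib.HN3.HNZChk7

/-!
The permutation of the 1539000 cosets given by right multiplication by `t`, and its relations
with the three generators of `Hbar`.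
-/

namespace Cfsg.Agent.Lib.HN3

/-- the cosets of the nine families -/
abbrev HNPts : Type := Σ j : Fin 9, Hbar ⧸ hnS (j : ℕ)

/-- the coset of `h` in family `j` -/
noncomputable def hnPt (j : ℕ) (h : Hbar) : HNPts :=
  ⟨⟨j % 9, Nat.mod_lt _ (by decide)⟩, ((h⁻¹ : Hbar) : Hbar ⧸ hnS (j % 9))⟩

theorem hnPts_mk_eq : ∀ {a b : Fin 9}, a = b → ∀ g : Hbar,
    (⟨a, (g : Hbar ⧸ hnS (a : ℕ))⟩ : HNPts) = ⟨b, (g : Hbar ⧸ hnS (b : ℕ))⟩ := by
  rintro a _ rfl g; rfl

theorem hnPt_congr {j : ℕ} (hj : j < 9) {h h' : Hbar} (e : h * h'⁻¹ ∈ hnS j) :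
    hnPt j h = hnPt j h' := by
  unfold hnPt
  congr 1
  rw [QuotientGroup.eq, inv_inv]
  rwa [Nat.mod_eq_of_lt hj]

theorem hnPt_inj {i i' : ℕ} (hi : i < 9) (hi' : i' < 9) {h h' : Hbar}
    (e : hnPt i h = hnPt i' h') : i = i' ∧ h * h'⁻¹ ∈ hnS i := by
  obtain ⟨e1, e2⟩ := Sigma.mk.inj e
  have e3 : i % 9 = i' % 9 := congrArg Fin.val e1
  rw [Nat.mod_eq_of_lt hi, Nat.mod_eq_of_lt hi'] at e3
  subst e3
  refine ⟨rfl, ?_⟩
  have e4 := QuotientGroup.eq.1 (eq_of_heq e2)
  rwa [inv_inv, Nat.mod_eq_of_lt hi] at e4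

theorem hnPt_surj (ω : HNPts) : ∃ j h, j < 9 ∧ ω = hnPt j h := by
  obtain ⟨j, q⟩ := ω
  induction q using QuotientGroup.induction_on with
  | H g =>
    refine ⟨j, g⁻¹, j.2, ?_⟩
    have e : (⟨(j : ℕ) % 9, Nat.mod_lt _ (by decide)⟩ : Fin 9) = j :=
      Fin.ext (Nat.mod_eq_of_lt j.2)
    unfold hnPt
    rw [inv_inv]
    exact (hnPts_mk_eq e g).symm

theorem smul_hnPt (c : Hbar) (j : ℕ) (h : Hbar) : c • hnPt j h = hnPt j (h * c⁻¹) := by
  unfold hnPt
  rw [mul_inv_rev, inv_inv]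
  rfl

/-- `ω` is the coset `rootH r * a` -/
def Pose (ω : HNPts) (r : ℕ) (a : Hbar) : Prop :=
  r < hnRoots.length ∧ (hnRoot r).i < 9 ∧ a ∈ Cpt ∧
    ω = hnPt (hnRoot r).i (rep.ev (rootH r) * a)

/-- the coset across the edge -/
noncomputable def across (r : ℕ) (a : Hbar) : HNPts := hnPt (rootJ r) (rep.ev (rootG r) * a)

theorem zero_lt_n : 0 < hPk.n := by rw [hPk_n]; decide

theorem exists_pose (hB : HBound) (ω : HNPts) : ∃ r a, Pose ω r a := by
  obtain ⟨j, h, hj, rfl⟩ := hnPt_surj ω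
  have hc : rep.pt h⁻¹ 0 < 1408 := by
    have := rep.pt_lt h⁻¹ 0 zero_lt_n
    rwa [hPk_n] at this
  obtain ⟨hr, hri, hpr, u, hu, hup⟩ := root_data hj hc
  have hri' : (hnRoot (rootOf j (rep.pt h⁻¹ 0))).i < 9 := by omega
  obtain ⟨-, -, hgo⟩ := root_point hB hr hri'
  refine ⟨_, (rep.ev (rootH (rootOf j (rep.pt h⁻¹ 0))))⁻¹ * (u * h), hr, hri', ?_, ?_⟩
  · show rep.pt _ 0 = 0
    rw [rep.pt_mul, rep.pt_inv hgo, rep.pt_mul, hup, ← rep.pt_mul, inv_mul_cancel, rep.pt_one]
  · rw [hri, mul_inv_cancel_left]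
    refine hnPt_congr hj ?_
    simpa [mul_assoc] using inv_mem hu

theorem pose_unique (hB : HBound) {ω : HNPts} {r r' : ℕ} {a a' : Hbar} (h : Pose ω r a)
    (h' : Pose ω r' a') : across r a = across r' a' := by
  obtain ⟨hr, hi, ha, rfl⟩ := h
  obtain ⟨hr', hi', ha', e⟩ := h'
  obtain ⟨eii, hu⟩ := hnPt_inj hi hi' e
  obtain ⟨h1, hp, hgo⟩ := root_point hB hr hi
  obtain ⟨h1', -, hgo'⟩ := root_point hB hr' hi'
  have hpu : rep.pt (rep.ev (rootH r) * a * (rep.ev (rootH r') * a')⁻¹) (hnRoot r).p =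
      (hnRoot r').p := by
    rw [rep.pt_mul, rep.pt_mul, hgo, show rep.pt a 0 = 0 from ha, mul_inv_rev, rep.pt_mul,
      rep.pt_inv (show rep.pt a' 0 = 0 from ha'), rep.pt_inv hgo']
  have hrr : r = r' := by
    have := rootOf_pt hi hu _ hp
    rw [hpu, h1, eii, h1'] at this
    exact this.symm
  subst hrr
  obtain ⟨-, hj, -⟩ := rootOK_spec hB hr hi
  have := fix_across hB hr hi hu hpu
  refine hnPt_congr hj ?_
  convert this using 1
  group

/-- right multiplication by `t` -/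
noncomputable def tau (hB : HBound) (ω : HNPts) : HNPts :=
  across (exists_pose hB ω).choose (exists_pose hB ω).choose_spec.choose

variable (hB : HBound)

set_option linter.unusedVariables false

theorem tau_pose {ω : HNPts} {r : ℕ} {a : Hbar} (h : Pose ω r a) : tau hB ω = across r a :=
  pose_unique hB (exists_pose hB ω).choose_spec.choose_spec h

/-- the function commutes with the stabiliser of the first point -/
def CommC (F : HNPts → HNPts) : Prop := ∀ c ∈ Cpt, ∀ ω, F (c • ω) = c • F ω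

theorem tau_comm : CommC (tau hB) := by
  intro c hc ω
  obtain ⟨r, a, hP⟩ := exists_pose hB ω
  have h2 : Pose (c • ω) r (a * c⁻¹) := by
    obtain ⟨hr, hi, ha, rfl⟩ := hP
    refine ⟨hr, hi, mul_mem ha (inv_mem hc), ?_⟩
    rw [smul_hnPt, mul_assoc]
  rw [tau_pose hB hP, tau_pose hB h2, across, across, smul_hnPt, mul_assoc]

theorem CommC.iterate {F : HNPts → HNPts} (h : CommC F) : ∀ n, CommC F^[n]
  | 0 => fun _ _ _ => rfl
  | n + 1 => fun c hc ω => by
    rw [Function.iterate_succ_apply', Function.iterate_succ_apply', CommC.iterate h n c hc, h c hc]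

/-- the representative of root `r` -/
noncomputable def rootPt (r : ℕ) : HNPts := hnPt (hnRoot r).i (rep.ev (rootH r))

include hB in
theorem eq_smul_rootPt (ω : HNPts) :
    ∃ r c, r < hnRoots.length ∧ (hnRoot r).i < 9 ∧ c ∈ Cpt ∧ ω = c • rootPt r := by
  obtain ⟨r, a, hr, hi, ha, rfl⟩ := exists_pose hB ω
  exact ⟨r, a⁻¹, hr, hi, inv_mem ha, by rw [rootPt, smul_hnPt, inv_inv]⟩

theorem stepK_spec {s : Step} {j : ℕ} (hj : j < 9) {h : List ℕ} {k : ℕ → List ℕ → Bool}
    (e : stepK hnDeriv hnOrbs hnRoots s j h k = true) :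
    ∃ j' h', j' < 9 ∧ tau hB (hnPt j (rep.ev h)) = hnPt j' (rep.ev h') ∧ k j' h' = true := by
  have e' : band (Nat.beq (hnRoot s.r).i j) (band (Nat.blt s.r hnRoots.length)
    (band (Nat.beq (hPk.go s.a 0) 0) (band (hPk.same hBase (s.a ++ s.ai) [])
      (band (inS hnDeriv hnOrbs j (h ++ (s.ai ++ (hnRoot s.r).hfi)))
        (k (rootJ s.r) (rootG s.r ++ s.a)))))) = true := e
  simp only [band_eq, Bool.and_eq_true, beqN_iff] at e'
  obtain ⟨e1, e2, e3, e4, e5, e6⟩ := e'
  have hr : s.r < hnRoots.length := Nat.le_of_ble_eq_true e2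
  have hi : (hnRoot s.r).i < 9 := by omega
  obtain ⟨-, hj', hfi, -⟩ := rootOK_spec hB hr hi
  have hai : rep.ev s.ai = (rep.ev s.a)⁻¹ := by
    refine eq_inv_of_mul_eq_one_right ?_
    rw [← rep.ev_append, rep.eq_of_same hBase_lt (inj_base hB) e4, rep.ev_nil]
  refine ⟨rootJ s.r, rootG s.r ++ s.a, hj', ?_, e6⟩
  rw [rep.go_eq _ _ zero_lt_n] at e3
  rw [tau_pose hB (r := s.r) (a := rep.ev s.a) ⟨hr, hi, e3, ?_⟩, across, rep.ev_append]
  rw [e1]
  refine hnPt_congr hj ?_
  have := inS_mem hB hj e5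
  simpa [rep.ev_append, hfi, hai, mul_assoc] using this

theorem walkK_spec (pre : List ℕ) : ∀ (ss : List Step) (j : ℕ), j < 9 → ∀ (h : List ℕ)
    (k : ℕ → List ℕ → Bool), walkK hnDeriv hnOrbs hnRoots pre ss j h k = true →
    ∃ j' h', j' < 9 ∧ (fun ω => tau hB ((rep.ev pre)⁻¹ • ω))^[ss.length] (hnPt j (rep.ev h)) =
      hnPt j' (rep.ev h') ∧ k j' h' = true
  | [], j, hj, h, k, e => ⟨j, h, hj, rfl, e⟩
  | s :: ss, j, hj, h, k, e => by
    have e' : stepK hnDeriv hnOrbs hnRoots s j (h ++ pre)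
        (fun j' h' => walkK hnDeriv hnOrbs hnRoots pre ss j' h' k) = true := e
    obtain ⟨j1, h1, hj1, he1, hk1⟩ := stepK_spec hB hj e'
    obtain ⟨j2, h2, hj2, he2, hk2⟩ := walkK_spec pre ss j1 hj1 h1 k hk1
    refine ⟨j2, h2, hj2, ?_, hk2⟩
    rw [List.length_cons, Function.iterate_succ_apply]
    rw [smul_hnPt, inv_inv, ← rep.ev_append, he1]
    exact he2

theorem walkK_nil {ss : List Step} {j : ℕ} (hj : j < 9) {h : List ℕ} {k : ℕ → List ℕ → Bool}
    (e : walkK hnDeriv hnOrbs hnRoots [] ss j h k = true) :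
    ∃ j' h', j' < 9 ∧ (tau hB)^[ss.length] (hnPt j (rep.ev h)) = hnPt j' (rep.ev h') ∧
      k j' h' = true := by
  have := walkK_spec hB [] ss j hj h k e
  simpa [rep.ev_nil] using this

theorem tau_five : ∀ ω, (tau hB)^[5] ω = ω := by
  intro ω
  obtain ⟨r, c, hr, hi, hc, rfl⟩ := eq_smul_rootPt hB ω
  rw [(tau_comm hB).iterate 5 c hc]
  congr 1
  have h : fiveOK hnDeriv hnOrbs hnRoots r
      (nth [] (nth [] hnFive (Nat.div r 32)) (Nat.mod r 32)) = true :=
    belowB_iff.1 hnFiveOK r (hnRoots_length ▸ hr)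
  generalize nth [] (nth [] hnFive (Nat.div r 32)) (Nat.mod r 32) = ss at h
  have h' : band (Nat.beq ss.length 5) (walkK hnDeriv hnOrbs hnRoots [] ss (hnRoot r).i (rootH r)
    fun j g => band (Nat.beq j (hnRoot r).i)
      (inS hnDeriv hnOrbs j (g ++ (hnRoot r).hfi))) = true := h
  simp only [band_eq, Bool.and_eq_true, beqN_iff] at h'
  obtain ⟨hl, hw⟩ := h'
  obtain ⟨j, g, hj, he, hk⟩ := walkK_nil hB hi hw
  simp only [Bool.and_eq_true, beqN_iff] at hk
  obtain ⟨rfl, hs⟩ := hk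
  rw [hl] at he
  rw [rootPt, he]
  refine hnPt_congr hi ?_
  have := inS_mem hB hi hs
  rwa [rep.ev_append, (rootOK_spec hB hr hi).2.2.1] at this

theorem ev_x : rep.ev [1] = rep.f 0 := by
  rw [Rep.ev, show decode [1] = [0] from by decide +kernel]; simp

theorem ev_z : rep.ev [5] = rep.f 4 := by
  rw [Rep.ev, show decode [5] = [4] from by decide +kernel]; simp

include hB in
theorem ev_x_inv : rep.ev [2] = (rep.f 0)⁻¹ := by
  refine eq_inv_of_mul_eq_one_right ?_
  rw [← ev_x, ← rep.ev_append, rep.eq_of_same hBase_lt (inj_base hB)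
    (u := [1] ++ [2]) (v := []) (by decide +kernel), rep.ev_nil]

include hB in
theorem conj_x_Cpt {c : Hbar} (hc : c ∈ Cpt) : rep.f 0 * c * (rep.f 0)⁻¹ ∈ Cpt := by
  rw [← tokens_top hB] at hc
  induction hc using Subgroup.closure_induction with
  | mem a ha =>
    obtain ⟨_, ⟨y, hy, rfl⟩, rfl⟩ := ha
    show rep.pt _ 0 = 0
    rw [← ev_x_inv hB, ← ev_x, ← rep.ev_append, ← rep.ev_append, ← rep.go_eq _ _ zero_lt_n]
    have h : forallB (fun y => Nat.beq (hPk.go (([1] ++ [y]) ++ [2]) 0) 0) cTokens = true := by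
      decide +kernel
    exact beqN_iff.1 (forallB_iff.1 h y hy)
  | one => simp
  | mul a b _ _ ha hb =>
    have := mul_mem ha hb
    convert this using 1
    group
  | inv a _ ha =>
    have := inv_mem ha
    convert this using 1
    group

theorem tau_x : ∀ ω, tau hB (rep.f 0 • ω) = rep.f 0 • (tau hB)^[3] ω := by
  intro ω
  obtain ⟨r, c, hr, hi, hc, rfl⟩ := eq_smul_rootPt hB ω
  rw [smul_smul, ← inv_mul_cancel_right (rep.f 0 * c) (rep.f 0), ← smul_smul,
    tau_comm hB _ (conj_x_Cpt hB hc), (tau_comm hB).iterate 3 c hc, smul_smul (rep.f 0),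
    ← inv_mul_cancel_right (rep.f 0 * c) (rep.f 0), ← smul_smul (rep.f 0 * c * (rep.f 0)⁻¹)]
  congr 1
  · group
  have h : (fun d : List Step × List Step × List ℕ =>
      conjOK hnDeriv hnOrbs hnRoots r d.1 d.2.1 d.2.2)
      (nth ([], [], []) (nth [] hnConj (Nat.div r 32)) (Nat.mod r 32)) = true :=
    belowB_iff.1 hnConjOK r (hnRoots_length ▸ hr)
  generalize nth ([], [], []) (nth [] hnConj (Nat.div r 32)) (Nat.mod r 32) = d at h
  obtain ⟨one, three, gi⟩ := d
  have h' : band (Nat.beq one.length 1) (band (Nat.beq three.length 3)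
    (walkK hnDeriv hnOrbs hnRoots [] one (hnRoot r).i (rootH r ++ [2]) fun j g =>
      walkK hnDeriv hnOrbs hnRoots [] three (hnRoot r).i (rootH r) fun j' g' =>
        band (Nat.beq j j') (band (hPk.same hBase ((g' ++ [2]) ++ gi) [])
          (inS hnDeriv hnOrbs j (g ++ gi))))) = true := h
  simp only [band_eq, Bool.and_eq_true, beqN_iff] at h'
  obtain ⟨hl1, hl3, hw⟩ := h'
  obtain ⟨j, g, hj, he, hk⟩ := walkK_nil hB hi hw
  obtain ⟨j', g', hj', he', hk'⟩ := walkK_nil hB hi hk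
  simp only [Bool.and_eq_true, beqN_iff] at hk'
  obtain ⟨rfl, hsame, hs⟩ := hk'
  rw [hl1, Function.iterate_one, rep.ev_append, ev_x_inv hB] at he
  rw [hl3] at he'
  rw [rootPt, smul_hnPt, he, he', smul_hnPt]
  refine hnPt_congr hj ?_
  have hgi : rep.ev gi = (rep.ev g' * (rep.f 0)⁻¹)⁻¹ := by
    refine eq_inv_of_mul_eq_one_right ?_
    rw [← ev_x_inv hB, ← rep.ev_append, ← rep.ev_append,
      rep.eq_of_same hBase_lt (inj_base hB) hsame, rep.ev_nil]
  have := inS_mem hB hj hs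
  rwa [rep.ev_append, hgi] at this

/-- `t` after `z` -/
noncomputable def tauZ (ω : HNPts) : HNPts := tau hB ((rep.ev [5])⁻¹ • ω)

theorem tauZ_iterate_smul {c : Hbar} (hc : c ∈ Cpt) (hz : Commute c (rep.ev [5])) :
    ∀ (n : ℕ) (ω : HNPts), (tauZ hB)^[n] (c • ω) = c • (tauZ hB)^[n] ω
  | 0, _ => rfl
  | n + 1, ω => by
    rw [Function.iterate_succ_apply', Function.iterate_succ_apply',
      tauZ_iterate_smul hc hz n, tauZ, smul_smul, ← hz.inv_right.eq, ← smul_smul,
      tau_comm hB c hc]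
    rfl

/-- representative `m` of the centraliser of `z` -/
noncomputable abbrev zRep (m : ℕ) : List ℕ := (nth ([], []) hnReps m).1

include hB in
theorem zComm_spec {u : List ℕ} (h : zComm hnDeriv u = true) :
    Commute (rep.ev u) (rep.ev [5]) := by
  have := rep.eq_of_same hBase_lt (inj_base hB) h
  rwa [rep.ev_append, rep.ev_append] at this

theorem hnReps_length : hnReps.length = 50 := rfl

include hB in
/-- the coset check, unfolded -/
theorem cosetOK_spec {m : ℕ} (hm : m < 50) :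
    rep.ev (nth ([], []) hnReps m).2 = (rep.ev (zRep m))⁻¹ ∧ rep.ev (zRep m) ∈ Cpt ∧
    ∀ y ∈ cTokens, ∃ m' < 50, Commute
      ((rep.ev (zRep m'))⁻¹ * (rep.ev [y] * rep.ev (zRep m))) (rep.ev [5]) := by
  have key : ∀ m < 50, rep.ev (nth ([], []) hnReps m).2 = (rep.ev (zRep m))⁻¹ ∧
      hPk.go (zRep m) 0 = 0 ∧ (nth [] hnRepTable m).length = cTokens.length ∧
      ∀ l < cTokens.length, nth 0 (nth [] hnRepTable m) l < 50 ∧
        zComm hnDeriv ((nth ([], []) hnReps (nth 0 (nth [] hnRepTable m) l)).2 ++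
          ([nth 0 cTokens l] ++ zRep m)) = true := by
    intro m hm
    have h : band (hPk.same hBase (zRep m ++ (nth ([], []) hnReps m).2) [])
      (band (Nat.beq (hPk.go (zRep m) 0) 0)
      (band (Nat.beq (nth [] hnRepTable m).length cTokens.length)
      (belowB (fun l => hold (nth 0 (nth [] hnRepTable m) l) fun m' =>
        band (Nat.blt m' hnReps.length)
          (zComm hnDeriv ((nth ([], []) hnReps m').2 ++ ([nth 0 cTokens l] ++ zRep m))))
        cTokens.length))) = true := belowB_iff.1 hnCosetOK m hm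
    simp only [band_eq, Bool.and_eq_true, beqN_iff, belowB_iff, hold_eq] at h
    obtain ⟨h1, h2, h3, h4⟩ := h
    refine ⟨?_, h2, h3, fun l hl => ⟨Nat.le_of_ble_eq_true (h4 l hl).1, (h4 l hl).2⟩⟩
    refine eq_inv_of_mul_eq_one_right ?_
    rw [← rep.ev_append, rep.eq_of_same hBase_lt (inj_base hB) h1, rep.ev_nil]
  obtain ⟨h1, h2, -, h4⟩ := key m hm
  refine ⟨h1, by rwa [rep.go_eq _ _ zero_lt_n] at h2, fun y hy => ?_⟩
  obtain ⟨l, hl, rfl⟩ := List.getElem_of_mem hy
  obtain ⟨hm', hz⟩ := h4 l hl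
  refine ⟨_, hm', ?_⟩
  have := zComm_spec hB hz
  rwa [rep.ev_append, rep.ev_append, (key _ hm').1, nth_eq 0 cTokens l,
    List.getD_eq_getElem _ _ hl] at this

include hB in
/-- the representatives cover the stabiliser of the first point -/
theorem zRep_cover {b : Hbar} (hb : b ∈ Cpt) :
    ∃ m < 50, Commute ((rep.ev (zRep m))⁻¹ * b) (rep.ev [5]) := by
  rw [← tokens_top hB, ← Subgroup.mem_toSubmonoid, Subgroup.closure_toSubmonoid_of_finite] at hb
  induction hb using Submonoid.closure_induction_left with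
  | one =>
    refine ⟨0, by decide, ?_⟩
    rw [show zRep 0 = [] from rfl, rep.ev_nil]
    simp
  | mul_left a ha b _ ih =>
    obtain ⟨_, ⟨y, hy, rfl⟩, rfl⟩ := ha
    obtain ⟨m, hm, hc⟩ := ih
    obtain ⟨m', hm', hc'⟩ := (cosetOK_spec hB hm).2.2 y hy
    refine ⟨m', hm', ?_⟩
    have := hc'.mul_left hc
    simpa [mul_assoc] using this

theorem hnZOK_ok : ∀ r < 101, ∀ m < 50,
    zOK hnDeriv hnOrbs hnRoots hnReps r (nth [] hnZ r) m = true := by
  intro r hr m hm
  have k : ∀ (a n : ℕ), belowB (fun r => belowB (zOK hnDeriv hnOrbs hnRoots hnReps (Nat.add a r)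
      (nth [] hnZ (Nat.add a r))) 50) n = true →
      a ≤ r → r < a + n → zOK hnDeriv hnOrbs hnRoots hnReps r (nth [] hnZ r) m = true := by
    intro a n h h1 h2
    have := belowB_iff.1 (belowB_iff.1 h (r - a) (by omega)) m hm
    rwa [show Nat.add a (r - a) = r by show a + (r - a) = r; omega] at this
  rcases Nat.lt_or_ge r 13 with h | h
  · exact k 0 13 hnZOK0 (by omega) (by omega)
  rcases Nat.lt_or_ge r 26 with h | h
  · exact k 13 13 hnZOK1 (by omega) (by omega)
  rcases Nat.lt_or_ge r 39 with h | h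
  · exact k 26 13 hnZOK2 (by omega) (by omega)
  rcases Nat.lt_or_ge r 52 with h | h
  · exact k 39 13 hnZOK3 (by omega) (by omega)
  rcases Nat.lt_or_ge r 65 with h | h
  · exact k 52 13 hnZOK4 (by omega) (by omega)
  rcases Nat.lt_or_ge r 78 with h | h
  · exact k 65 13 hnZOK5 (by omega) (by omega)
  rcases Nat.lt_or_ge r 91 with h | h
  · exact k 78 13 hnZOK6 (by omega) (by omega)
  · exact k 91 10 hnZOK7 (by omega) (by omega)

theorem tauZ_rep {r : ℕ} (hr : r < hnRoots.length) (hi : (hnRoot r).i < 9) :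
    ∀ m, m < 50 → (tauZ hB)^[3] (hnPt (hnRoot r).i (rep.ev (rootH r) * rep.ev (zRep m))) =
      hnPt (hnRoot r).i (rep.ev (rootH r) * rep.ev (zRep m)) := by
  intro m
  induction m using Nat.strongRecOn with
  | _ m IH =>
    intro hm
    have h : ZCase.rec (motive := fun _ => Bool)
      (fun ss => threeOK hnDeriv hnOrbs hnRoots r (zRep m) (nth ([], []) hnReps m).2 ss)
      (fun q g => band (Nat.blt q m) (band (Nat.blt g (lowHead (hnRoot r).fix).length)
        (zComm hnDeriv ((nth ([], []) hnReps m).2 ++ ((hnRoot r).hfi ++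
          (nth [] (lowHead (hnRoot r).fix) g ++ (rootH r ++ zRep q)))))))
      (nth (ZCase.link m 0) (nth [] hnZ r) m) = true :=
      hnZOK_ok r (hnRoots_length ▸ hr) m hm
    obtain ⟨hai, haC, -⟩ := cosetOK_spec hB hm
    obtain ⟨-, -, hfi, -, -, -, -, hgens⟩ := rootOK_spec hB hr hi
    generalize nth (ZCase.link m 0) (nth [] hnZ r) m = cs at h
    cases cs with
    | start ss =>
      have h' : band (Nat.beq ss.length 3)
        (band (hPk.same hBase (zRep m ++ (nth ([], []) hnReps m).2) [])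
          (walkK hnDeriv hnOrbs hnRoots [5] ss (hnRoot r).i (rootH r ++ zRep m) fun j g =>
            band (Nat.beq j (hnRoot r).i) (inS hnDeriv hnOrbs j
              (g ++ ((nth ([], []) hnReps m).2 ++ (hnRoot r).hfi))))) = true := h
      simp only [band_eq, Bool.and_eq_true, beqN_iff] at h'
      obtain ⟨hl, -, hw⟩ := h'
      obtain ⟨j, g, hj, he, hk⟩ := walkK_spec hB [5] ss _ hi _ _ hw
      simp only [Bool.and_eq_true, beqN_iff] at hk
      obtain ⟨rfl, hs⟩ := hk
      rw [hl, rep.ev_append] at he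
      refine he.trans (hnPt_congr hi ?_)
      have := inS_mem hB hi hs
      rwa [rep.ev_append, rep.ev_append, hai, hfi, ← mul_inv_rev] at this
    | link q g =>
      simp only [band_eq, Bool.and_eq_true] at h
      obtain ⟨hq', hg', hz⟩ := h
      have hq : q < m := Nat.le_of_ble_eq_true hq'
      have hg : g < (lowHead (hnRoot r).fix).length := Nat.le_of_ble_eq_true hg'
      rw [nth_eq [] (lowHead (hnRoot r).fix) g, List.getD_eq_getElem _ _ hg] at hz
      obtain ⟨hwp, hwS, -⟩ := hgens _ (List.getElem_mem hg)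
      generalize (lowHead (hnRoot r).fix)[g] = w at hz hwp hwS
      have hcomm := zComm_spec hB hz
      simp only [rep.ev_append, hai, hfi] at hcomm
      obtain ⟨-, hp, hgo⟩ := root_point hB hr hi
      obtain ⟨-, hqC, -⟩ := cosetOK_spec hB (hq.trans hm)
      rw [rep.go_eq _ _ (by rwa [hPk_n])] at hwp
      have hcC : (rep.ev (zRep m))⁻¹ * ((rep.ev (rootH r))⁻¹ * (rep.ev w *
          (rep.ev (rootH r) * rep.ev (zRep q)))) ∈ Cpt := by
        refine mul_mem (inv_mem haC) ?_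
        show rep.pt _ 0 = 0
        rw [rep.pt_mul, rep.pt_inv hgo, rep.pt_mul, hwp, rep.pt_mul, hgo]
        exact hqC
      have e : hnPt (hnRoot r).i (rep.ev (rootH r) * rep.ev (zRep m)) =
          ((rep.ev (zRep m))⁻¹ * ((rep.ev (rootH r))⁻¹ * (rep.ev w *
            (rep.ev (rootH r) * rep.ev (zRep q))))) •
            hnPt (hnRoot r).i (rep.ev (rootH r) * rep.ev (zRep q)) := by
        rw [smul_hnPt]
        refine hnPt_congr hi ?_
        convert hwS using 1
        group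
      rw [e, tauZ_iterate_smul hB hcC hcomm, IH q hq (hq.trans hm)]

theorem tau_zt : ∀ ω, (tauZ hB)^[3] ω = ω := by
  intro ω
  obtain ⟨r, c, hr, hi, hc, rfl⟩ := eq_smul_rootPt hB ω
  obtain ⟨m, hm, hz⟩ := zRep_cover hB (inv_mem hc)
  have hcC : ((rep.ev (zRep m))⁻¹ * c⁻¹)⁻¹ ∈ Cpt :=
    inv_mem (mul_mem (inv_mem (cosetOK_spec hB hm).2.1) (inv_mem hc))
  have e : c • rootPt r = ((rep.ev (zRep m))⁻¹ * c⁻¹)⁻¹ •
      hnPt (hnRoot r).i (rep.ev (rootH r) * rep.ev (zRep m)) := by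
    rw [rootPt, smul_hnPt, smul_hnPt]
    congr 1
    group
  rw [e, tauZ_iterate_smul hB hcC hz.inv_left, tauZ_rep hB hr hi m hm]

/-- right multiplication by `t` as a permutation -/
noncomputable def tauEquiv : Equiv.Perm HNPts where
  toFun := tau hB
  invFun := (tau hB)^[4]
  left_inv ω := by rw [← Function.iterate_succ_apply]; exact tau_five hB ω
  right_inv ω := by rw [← Function.iterate_succ_apply' (tau hB)]; exact tau_five hB ω

end Cfsg.Agent.Lib.HN3
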