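import Mathlib
import Cfsg.Agent.Lib.HN3.Tau
import Cfsg.Agent.Lib.HN3.Group

/-!
The subgroup generated by `x, y, z` in the presented Harada–Norton group has index 1539000, is
faithfully the group `Hbar`, and the group has order 273030912000000.
-/

namespace Cfsg.Agent.Lib.HN3

open Cfsg.Spor (HN coxRelators)

variable (hB : HBound)

/-- the images of the generators as permutations of the cosets -/
noncomputable def hnAct : Cfsg.Spor.HN.Gen → Equiv.Perm HNPts
  | .x => MulAction.toPermHom Hbar HNPts (rep.f 0)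
  | .y => MulAction.toPermHom Hbar HNPts (rep.f 2)
  | .z => MulAction.toPermHom Hbar HNPts (rep.f 4)
  | .t => (tauEquiv hB)⁻¹

theorem hRel_rep : HRel (rep.f 0) (rep.f 2) (rep.f 4) := by
  have h := hRel_perm
  constructor <;> apply Subtype.val_injective
  exacts [h.r1, h.r2, h.r3, h.r4, h.r5, h.r6, h.r7, h.r8, h.r9, h.r10]

theorem tauEquiv_apply (ω : HNPts) : tauEquiv hB ω = tau hB ω := rfl

theorem tauEquiv_pow (n : ℕ) (ω : HNPts) : (tauEquiv hB ^ n) ω = (tau hB)^[n] ω := by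
  induction n with
  | zero => rfl
  | succ n ih => rw [pow_succ', Equiv.Perm.mul_apply, ih, Function.iterate_succ_apply']; rfl

theorem tauEquiv_five : tauEquiv hB ^ 5 = 1 :=
  Equiv.ext fun ω => (tauEquiv_pow hB 5 ω).trans (tau_five hB ω)

theorem tauEquiv_x : tauEquiv hB * hnAct hB .x = hnAct hB .x * tauEquiv hB ^ 3 := by
  refine Equiv.ext fun ω => ?_
  rw [Equiv.Perm.mul_apply, Equiv.Perm.mul_apply, tauEquiv_pow]
  exact tau_x hB ω

include hB in
theorem y_mem_Cpt : rep.f 2 ∈ Cpt := by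
  rw [← tokens_top hB]
  refine Subgroup.subset_closure ⟨[3], ⟨3, by decide, rfl⟩, ?_⟩
  rw [Rep.ev, show decode [3] = [2] from by decide +kernel]
  simp

theorem tauEquiv_y : tauEquiv hB * hnAct hB .y = hnAct hB .y * tauEquiv hB :=
  Equiv.ext fun ω => tau_comm hB _ (y_mem_Cpt hB) ω

theorem tauEquiv_z : (tauEquiv hB * (hnAct hB .z)⁻¹) ^ 3 = 1 := by
  refine Equiv.ext fun ω => ?_
  have e : ∀ n, ((tauEquiv hB * (hnAct hB .z)⁻¹) ^ n) ω = (tauZ hB)^[n] ω := by
    intro n
    induction n with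
    | zero => rfl
    | succ n ih =>
      rw [pow_succ', Equiv.Perm.mul_apply, ih, Function.iterate_succ_apply', Equiv.Perm.mul_apply,
        tauEquiv_apply, tauZ, ev_z, show (hnAct hB .z)⁻¹ =
          MulAction.toPermHom Hbar HNPts (rep.f 4)⁻¹ from (map_inv _ _).symm]
      rfl
  exact (e 3).trans (tau_zt hB ω)

theorem hnAct_rels : ∀ r ∈ coxRelators Cfsg.Spor.HN.edges ∪ {r | r ∈ Cfsg.Spor.HN.extra},
    FreeGroup.lift (hnAct hB) r = 1 := by
  rintro r (⟨x, hx, -⟩ | hr)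
  · simp [Cfsg.Spor.HN.edges, Cfsg.Spor.coxNodes] at hx
  have hH := hRel_rep.map (MulAction.toPermHom Hbar HNPts)
  obtain ⟨r1, r2, r3, r4, r5, r6, r7, r8, r9, r10⟩ := hH
  have h5 : ((tauEquiv hB)⁻¹) ^ 5 = 1 := by rw [inv_pow, tauEquiv_five, inv_one]
  have htx : (MulAction.toPermHom Hbar HNPts (rep.f 0))⁻¹ * (tauEquiv hB)⁻¹ *
      MulAction.toPermHom Hbar HNPts (rep.f 0) * ((tauEquiv hB)⁻¹) ^ 2 = 1 := by
    have h := tauEquiv_x hB
    simp only [hnAct] at h
    have h' : tauEquiv hB ^ 3 = (MulAction.toPermHom Hbar HNPts (rep.f 0))⁻¹ * tauEquiv hB *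
        MulAction.toPermHom Hbar HNPts (rep.f 0) := by
      rw [mul_assoc, h, inv_mul_cancel_left]
    have h5' := tauEquiv_five hB
    have e1 : (MulAction.toPermHom Hbar HNPts (rep.f 0))⁻¹ * (tauEquiv hB)⁻¹ *
        MulAction.toPermHom Hbar HNPts (rep.f 0) = (tauEquiv hB ^ 3)⁻¹ := by
      rw [h']; group
    rw [e1, inv_pow, ← mul_inv_rev, ← pow_add, h5', inv_one]
  have hty : ((tauEquiv hB)⁻¹)⁻¹ * (MulAction.toPermHom Hbar HNPts (rep.f 2))⁻¹ *
      (tauEquiv hB)⁻¹ * MulAction.toPermHom Hbar HNPts (rep.f 2) = 1 := by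
    have h := tauEquiv_y hB
    simp only [hnAct] at h
    rw [inv_inv, mul_assoc (tauEquiv hB * _), mul_assoc (tauEquiv hB)]
    have h' : (tauEquiv hB)⁻¹ * MulAction.toPermHom Hbar HNPts (rep.f 2) =
        MulAction.toPermHom Hbar HNPts (rep.f 2) * (tauEquiv hB)⁻¹ := by
      rw [eq_mul_inv_iff_mul_eq, mul_assoc, ← h, inv_mul_cancel_left]
    rw [h', inv_mul_cancel_left, mul_inv_cancel]
  have hzt : (MulAction.toPermHom Hbar HNPts (rep.f 4) * (tauEquiv hB)⁻¹) ^ 3 = 1 := by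
    have h := tauEquiv_z hB
    simp only [hnAct] at h
    rw [← inv_inv (MulAction.toPermHom Hbar HNPts (rep.f 4)), ← mul_inv_rev, inv_pow, h, inv_one]
  simp only [Cfsg.Spor.HN.extra, Set.mem_ofPred_eq, List.mem_cons, List.not_mem_nil,
    or_false] at hr
  rcases hr with rfl | rfl | rfl | rfl | rfl | rfl | rfl | rfl | rfl | rfl | rfl | rfl | rfl | rfl
  all_goals simp only [map_mul, map_pow, map_inv, FreeGroup.lift_apply_of, hnAct]
  exacts [r1, r2, r3, r4, r5, r6, r7, r8, r9, r10, h5, htx, hty, hzt]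

/-- the action on the cosets -/
noncomputable def hnPerm : HN →* Equiv.Perm HNPts := PresentedGroup.toGroup (hnAct_rels hB)

theorem hnPerm_gen (a : Cfsg.Spor.HN.Gen) : hnPerm hB (hnGen a) = hnAct hB a :=
  PresentedGroup.toGroup.of _

/-- the maps of a context into the permutations -/
theorem hnPerm_phi {C : Ctx HN} (h0 : C.φ (rep.f 0) = hnGen .x) (h2 : C.φ (rep.f 2) = hnGen .y)
    (h4 : C.φ (rep.f 4) = hnGen .z) (h : Hbar) :
    hnPerm hB (C.φ h) = MulAction.toPermHom Hbar HNPts h := by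
  have hle : Hbar ≤ ((MonoidHom.eqLocus ((hnPerm hB).comp C.φ)
      (MulAction.toPermHom Hbar HNPts)).map Hbar.subtype) := by
    refine (Subgroup.closure_le _).2 ?_
    have key : ∀ g : Hbar, g = rep.f 0 ∨ g = rep.f 2 ∨ g = rep.f 4 →
        hnPerm hB (C.φ g) = MulAction.toPermHom Hbar HNPts g := by
      rintro g (rfl | rfl | rfl)
      · rw [h0, hnPerm_gen]; rfl
      · rw [h2, hnPerm_gen]; rfl
      · rw [h4, hnPerm_gen]; rfl
    intro a ha
    simp only [Set.mem_insert_iff, Set.mem_singleton_iff] at ha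
    rcases ha with rfl | rfl | rfl
    · exact ⟨rep.f 0, key _ (Or.inl rfl), rfl⟩
    · exact ⟨rep.f 2, key _ (Or.inr (Or.inl rfl)), rfl⟩
    · exact ⟨rep.f 4, key _ (Or.inr (Or.inr rfl)), rfl⟩
  obtain ⟨g, hg, hgh⟩ := hle h.2
  have : g = h := Subtype.ext hgh
  subst this
  exact hg

theorem range_phi (hB : HBound) {C : Ctx HN} (h0 : C.φ (rep.f 0) = hnGen .x)
    (h2 : C.φ (rep.f 2) = hnGen .y) (h4 : C.φ (rep.f 4) = hnGen .z) :
    C.φ.range = Subgroup.closure {hnGen .x, hnGen .y, hnGen .z} := by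
  refine le_antisymm ?_ ?_
  · rintro _ ⟨h, rfl⟩
    have hle : Hbar ≤ ((Subgroup.closure ({hnGen .x, hnGen .y, hnGen .z} : Set HN)).comap
        C.φ).map Hbar.subtype := by
      refine (Subgroup.closure_le _).2 ?_
      intro a ha
      simp only [Set.mem_insert_iff, Set.mem_singleton_iff] at ha
      rcases ha with rfl | rfl | rfl
      · refine ⟨rep.f 0, ?_, rfl⟩
        show C.φ (rep.f 0) ∈ (Subgroup.closure ({hnGen .x, hnGen .y, hnGen .z} : Set HN))
        rw [h0]; exact Subgroup.subset_closure (by simp)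
      · refine ⟨rep.f 2, ?_, rfl⟩
        show C.φ (rep.f 2) ∈ (Subgroup.closure ({hnGen .x, hnGen .y, hnGen .z} : Set HN))
        rw [h2]; exact Subgroup.subset_closure (by simp)
      · refine ⟨rep.f 4, ?_, rfl⟩
        show C.φ (rep.f 4) ∈ (Subgroup.closure ({hnGen .x, hnGen .y, hnGen .z} : Set HN))
        rw [h4]; exact Subgroup.subset_closure (by simp)
    obtain ⟨g, hg, hgh⟩ := hle h.2
    have : g = h := Subtype.ext hgh
    subst this
    exact hg
  · rw [Subgroup.closure_le]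
    rintro a ha
    simp only [Set.mem_insert_iff, Set.mem_singleton_iff] at ha
    rcases ha with rfl | rfl | rfl
    exacts [⟨_, h0⟩, ⟨_, h2⟩, ⟨_, h4⟩]

include hB in
theorem card_hnPts : Nat.card HNPts = 1539000 := by
  rw [Nat.card_sigma]
  have key : ∀ j : Fin 9, Nat.card (Hbar ⧸ hnS (j : ℕ)) = 177408000 / nth 0 hnOrders j := by
    intro j
    have h := Subgroup.card_eq_card_quotient_mul_card_subgroup (hnS (j : ℕ))
    have hpos : 0 < Nat.card (hnS (j : ℕ)) := Nat.card_pos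
    rw [card_Hbar hB] at h
    rw [← card_hnS hB j.2, h, Nat.mul_div_cancel _ hpos]
  simp only [key]
  decide +kernel

/-- the base point -/
noncomputable def hnBase : HNPts := hnPt 0 1

include hB in
theorem smul_hnBase (u : Hbar) : u • hnBase = hnBase := by
  rw [hnBase, smul_hnPt, one_mul]
  refine hnPt_congr (by decide) ?_
  rw [hnS_zero hB]; trivial

theorem par_lt : ∀ j < 8, (nth (0, []) hnDeriv.par j).1 < j + 1 := by decide +kernel

theorem pow_tau_inv (g : HN) (ω : HNPts) (hg : hnPerm hB g = (tauEquiv hB)⁻¹) :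
    hnPerm hB g⁻¹ ω = tau hB ω := by
  rw [map_inv, hg, inv_inv]; rfl

/-- the action is transitive -/
theorem hnPerm_transitive {C : Ctx HN} (h0 : C.φ (rep.f 0) = hnGen .x)
    (h2 : C.φ (rep.f 2) = hnGen .y) (h4 : C.φ (rep.f 4) = hnGen .z) :
    ∀ ω, ∃ g, hnPerm hB g hnBase = ω := by
  have key : ∀ j, j < 9 → ∃ g, hnPerm hB g hnBase = hnPt j 1 := by
    intro j
    induction j using Nat.strongRecOn with
    | _ j IH =>
      intro hj
      rcases j with _ | i
      · exact ⟨1, by rw [map_one]; rfl⟩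
      have hp := par_lt i (by omega)
      obtain ⟨g, hg⟩ := IH _ hp (by omega)
      have h : stepK hnDeriv hnOrbs hnRoots (nth ⟨0, [], []⟩ hnDefs i)
          (nth (0, []) hnDeriv.par i).1 (nth (0, []) hnDeriv.par i).2
          (fun j' g => band (Nat.beq j' (Nat.succ i)) (inS hnDeriv hnOrbs j' g)) = true :=
        belowB_iff.1 hnDefsOK i (by omega)
      obtain ⟨j', g', -, he, hk⟩ := stepK_spec hB (by omega) h
      simp only [band_eq, Bool.and_eq_true, beqN_iff] at hk
      obtain ⟨rfl, hs⟩ := hk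
      refine ⟨(hnGen .t)⁻¹ *
        (C.φ (rep.ev (nth (0, []) hnDeriv.par i).2)⁻¹ * g), ?_⟩
      rw [map_mul, map_mul, Equiv.Perm.mul_apply, Equiv.Perm.mul_apply, hg,
        hnPerm_phi hB h0 h2 h4, MulAction.toPermHom_apply, MulAction.toPerm_apply, smul_hnPt,
        inv_inv, one_mul, pow_tau_inv hB _ _ (hnPerm_gen hB .t), he]
      refine hnPt_congr hj ?_
      rw [inv_one, mul_one]
      exact inS_mem hB hj hs
  intro ω
  obtain ⟨j, h, hj, rfl⟩ := hnPt_surj ω
  obtain ⟨g, hg⟩ := key j hj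
  refine ⟨C.φ h⁻¹ * g, ?_⟩
  rw [map_mul, Equiv.Perm.mul_apply, hg, hnPerm_phi hB h0 h2 h4, MulAction.toPermHom_apply,
    MulAction.toPerm_apply, smul_hnPt, inv_inv, one_mul]

include hB in
theorem hroot_spec : ∀ r < hnRoots.length,
    (nth noRoot hnRoots r).k < hnCount ∧ (hnDeriv.item (nth noRoot hnRoots r).k).j < 9 := by
  intro r hr
  have h : belowB (fun r => Nat.blt (hnRoot r).i 9) 101 = true := by decide +kernel
  have hi : (hnRoot r).i < 9 := Nat.le_of_ble_eq_true (belowB_iff.1 h r (hnRoots_length ▸ hr))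
  obtain ⟨a, b, -⟩ := rootOK_spec hB hr hi
  exact ⟨a, b⟩

include hB in
/-- the cosets of the nine families are all cosets -/
theorem hn_cosets_all {C : Ctx HN} (h0 : C.φ (rep.f 0) = hnGen .x)
    (h2 : C.φ (rep.f 2) = hnGen .y) (h4 : C.φ (rep.f 4) = hnGen .z) (ht : C.t = hnGen .t) :
    ∀ g : HN, ∃ j h, j < 9 ∧ C.Eqv g (hnDeriv.W C j * C.φ h) := by
  set M : Set HN := {g | ∃ j h, j < 9 ∧ C.Eqv g (hnDeriv.W C j * C.φ h)}
  have hx : ∀ g ∈ M, ∀ u : Hbar, g * C.φ u ∈ M := by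
    rintro g ⟨j, h, hj, e⟩ u
    refine ⟨j, h * u, hj, ?_⟩
    rw [map_mul, ← mul_assoc]
    exact e.mul_right _
  have ht1 : ∀ g ∈ M, g * C.t ∈ M := by
    rintro g ⟨j, h, hj, e⟩
    obtain ⟨k, g', hk, e'⟩ := exists_step (C := C) hB (hroot_spec hB) hj h
    exact ⟨k, g', hk, (e.mul_right C.t).trans e'⟩
  have htn : ∀ n, ∀ g ∈ M, g * C.t ^ n ∈ M := by
    intro n
    induction n with
    | zero => intro g hg; rwa [pow_zero, mul_one]
    | succ n ih => intro g hg; rw [pow_succ, ← mul_assoc]; exact ht1 _ (ih g hg)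
  have hinv : C.t⁻¹ = C.t ^ 4 := inv_eq_of_mul_eq_one_left (by rw [← pow_succ, C.t5])
  have hgen : ∀ a, hnGen a ∈ ({b | ∀ g ∈ M, g * b ∈ M ∧ g * b⁻¹ ∈ M} : Set HN) := by
    intro a g hg
    cases a with
    | x => rw [← h0, ← map_inv]; exact ⟨hx g hg _, hx g hg _⟩
    | y => rw [← h2, ← map_inv]; exact ⟨hx g hg _, hx g hg _⟩
    | z => rw [← h4, ← map_inv]; exact ⟨hx g hg _, hx g hg _⟩
    | t => rw [← ht, hinv]; exact ⟨ht1 g hg, htn 4 g hg⟩
  have h1 : (1 : HN) ∈ M := ⟨0, 1, by decide, by simp [Deriv.W, Ctx.Eqv.refl]⟩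
  intro g
  show g ∈ M
  have hall : ∀ g : HN, ∀ m ∈ M, m * g ∈ M ∧ m * g⁻¹ ∈ M := by
    intro g
    have hg : g ∈ Subgroup.closure (Set.range (PresentedGroup.of
        (rels := coxRelators Cfsg.Spor.HN.edges ∪ {r | r ∈ Cfsg.Spor.HN.extra}))) := by
      rw [PresentedGroup.closure_range_of]; trivial
    induction hg using Subgroup.closure_induction with
    | mem a ha => obtain ⟨a, rfl⟩ := ha; exact hgen a
    | one => intro m hm; simp [hm]
    | mul a b _ _ ha hb =>
      intro m hm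
      rw [mul_inv_rev, ← mul_assoc, ← mul_assoc]
      exact ⟨(hb _ (ha m hm).1).1, (ha _ (hb m hm).2).2⟩
    | inv a _ ha =>
      intro m hm
      rw [inv_inv]
      exact ⟨(ha m hm).2, (ha m hm).1⟩
  simpa using (hall g 1 h1).1

/-- the index, the stabiliser of the base point, and the finiteness -/
theorem hn_index {C : Ctx HN} (h0 : C.φ (rep.f 0) = hnGen .x)
    (h2 : C.φ (rep.f 2) = hnGen .y) (h4 : C.φ (rep.f 4) = hnGen .z) (ht : C.t = hnGen .t) :
    C.φ.range.index = 1539000 ∧ ∀ g, g ∈ C.φ.range ↔ hnPerm hB g hnBase = hnBase := by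
  have hwd : ∀ (j : Fin 9) (a b : Hbar), (QuotientGroup.leftRel (hnS (j : ℕ))).r a b →
      ((C.φ a * (hnDeriv.W C j)⁻¹ : HN) : HN ⧸ C.φ.range) =
        ((C.φ b * (hnDeriv.W C j)⁻¹ : HN) : HN ⧸ C.φ.range) := by
    intro j a b hab
    rw [QuotientGroup.eq]
    have h := stab_eqv (C := C) hB j.2 (QuotientGroup.leftRel_apply.1 hab)
    rw [Ctx.Eqv] at h
    convert h using 1
    rw [map_mul, map_inv]; group
  let Ψ : HNPts → HN ⧸ C.φ.range := fun ω =>
    Quotient.liftOn ω.2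
      (fun a => ((C.φ a * (hnDeriv.W C ω.1)⁻¹ : HN) : HN ⧸ C.φ.range)) (hwd ω.1)
  have hΨ : Function.Surjective Ψ := by
    intro q
    induction q using QuotientGroup.induction_on with
    | H g =>
      obtain ⟨j, h, hj, e⟩ := hn_cosets_all hB h0 h2 h4 ht g⁻¹
      refine ⟨⟨⟨j, hj⟩, ((h⁻¹ : Hbar) : Hbar ⧸ hnS j)⟩, ?_⟩
      show ((C.φ h⁻¹ * (hnDeriv.W C j)⁻¹ : HN) : HN ⧸ C.φ.range) = g
      rw [QuotientGroup.eq]
      have := inv_mem e
      convert this using 1
      rw [map_inv]; group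
  haveI : Finite HNPts := Nat.finite_of_card_ne_zero (by rw [card_hnPts hB]; norm_num)
  haveI hfin : Finite (HN ⧸ C.φ.range) := Finite.of_surjective Ψ hΨ
  have hle : Nat.card (HN ⧸ C.φ.range) ≤ 1539000 :=
    card_hnPts hB ▸ Nat.card_le_card_of_surjective Ψ hΨ
  have hfix : ∀ g ∈ C.φ.range, hnPerm hB g hnBase = hnBase := by
    rintro _ ⟨u, rfl⟩
    rw [hnPerm_phi hB h0 h2 h4, MulAction.toPermHom_apply, MulAction.toPerm_apply,
      smul_hnBase hB]
  let θ : HN ⧸ C.φ.range → HNPts := fun q => Quotient.liftOn q (fun g => hnPerm hB g hnBase)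
    (fun a b hab => by
      have := hfix _ (QuotientGroup.leftRel_apply.1 hab)
      have e : hnPerm hB b hnBase = hnPerm hB a (hnPerm hB (a⁻¹ * b) hnBase) := by
        rw [← Equiv.Perm.mul_apply, ← map_mul, mul_inv_cancel_left]
      rw [e, this])
  have hθ : Function.Surjective θ := fun ω => by
    obtain ⟨g, hg⟩ := hnPerm_transitive hB h0 h2 h4 ω
    exact ⟨(g : HN ⧸ C.φ.range), hg⟩
  have hbij : Function.Bijective θ :=
    hθ.bijective_of_nat_card_le (hle.trans (card_hnPts hB).ge)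
  refine ⟨?_, fun g => ⟨hfix g, fun hg => ?_⟩⟩
  · rw [Subgroup.index_eq_card, Nat.card_eq_of_bijective θ hbij, card_hnPts hB]
  · have h : θ (g : HN ⧸ C.φ.range) = θ ((1 : HN) : HN ⧸ C.φ.range) := by
      show hnPerm hB g hnBase = hnPerm hB 1 hnBase
      rw [hg, map_one]; rfl
    have := QuotientGroup.eq.1 (hbij.1 h)
    rwa [mul_one, inv_mem_iff] at this

theorem hnS_one_fix :
    forallB (fun w => Nat.beq (hPk.go w 0) 0) (headGens (nth noOrb hnOrbs 1).chain) = true := by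
  decide +kernel

theorem hnS_one_le : hnS 1 ≤ Cpt := by
  rw [hnS, Rep.wgroup, Subgroup.closure_le]
  rintro _ ⟨w, hw, rfl⟩
  show rep.pt _ 0 = 0
  rw [← rep.go_eq _ _ zero_lt_n]
  exact beqN_iff.1 (forallB_iff.1 hnS_one_fix w hw)

include hB in
/-- the first family is moved faithfully -/
theorem smul_faithful {u : Hbar} (h : ∀ ω : HNPts, u • ω = ω) : u = 1 := by
  have hcpt : ∀ v : Hbar, v * u * v⁻¹ ∈ Cpt := by
    intro v
    obtain ⟨-, he⟩ := hnPt_inj (i := 1) (i' := 1) (by decide) (by decide)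
      ((smul_hnPt u 1 v).symm.trans (h (hnPt 1 v)))
    have := hnS_one_le (inv_mem he)
    simpa [mul_assoc] using this
  have hfix : ∀ c < 1408, rep.pt u c = c := by
    intro c hc
    obtain ⟨hr, hi, -, v, -, hv⟩ := root_data (i := 0) (by decide) hc
    have hi' : (hnRoot (rootOf 0 c)).i < 9 := by omega
    obtain ⟨-, -, hgo⟩ := root_point hB hr hi'
    have e : rep.pt ((rep.ev (rootH (rootOf 0 c)))⁻¹ * v) 0 = c := by
      rw [rep.pt_mul, rep.pt_inv hgo, hv]
    have := hcpt ((rep.ev (rootH (rootOf 0 c)))⁻¹ * v)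
    change rep.pt _ 0 = 0 at this
    rw [rep.pt_mul, rep.pt_mul, e] at this
    have h2 := rep.pt_inv this
    rw [inv_inv, e] at h2
    exact h2.symm
  refine inj_base hB u (List.map_congr_left (f := rep.pt u) (g := id) ?_ |>.trans (List.map_id _))
  intro b hb
  exact hfix b (by have := hBase_lt b hb; rwa [hPk_n] at this)

include hB in
/-- the subgroup generated by `x, y, z` has index 1539000 and order 177408000, and the group has
order 273030912000000 -/
theorem hn_facts :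
    (Subgroup.closure ({hnGen .x, hnGen .y, hnGen .z} : Set HN)).index = 1539000 ∧
    Nat.card (Subgroup.closure ({hnGen .x, hnGen .y, hnGen .z} : Set HN)) = 177408000 ∧
    Finite HN ∧ Nat.card HN = 273030912000000 := by
  obtain ⟨C, h0, h2, h4, ht⟩ := exists_ctx hB
  obtain ⟨hidx, -⟩ := hn_index hB h0 h2 h4 ht
  have hinj : Function.Injective C.φ := by
    refine (injective_iff_map_eq_one C.φ).2 fun u hu => smul_faithful hB fun ω => ?_
    have := congrArg (fun p : Equiv.Perm HNPts => p ω) (hnPerm_phi hB h0 h2 h4 u)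
    simpa [hu] using this.symm
  have hcard : Nat.card C.φ.range = 177408000 := by
    rw [← card_Hbar hB]
    exact (Nat.card_congr (MonoidHom.ofInjective hinj).toEquiv).symm
  have hmul := Subgroup.card_mul_index C.φ.range
  rw [hidx, hcard] at hmul
  rw [range_phi hB h0 h2 h4] at hidx hcard
  exact ⟨hidx, hcard, Nat.finite_of_card_ne_zero (by rw [← hmul]; norm_num), by rw [← hmul]⟩

end Cfsg.Agent.Lib.HN3
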