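import Mathlib
import Cfsg.Agent.Lib.HN3.Main
import Cfsg.Agent.Lib.HN3.Eleven

/-!
The presented Harada–Norton group is simple.  The action on the 1539000 cosets is primitive and
faithful; a normal subgroup `N ≠ 1` is transitive; if it has no element of order eleven, one such
element centralises a Sylow 19-subgroup of `N`, although its centraliser lies in a point
stabiliser; and otherwise `N` contains all elements of order eleven, which generate a subgroup of
index at most two in the point stabiliser, while the group is perfect.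
-/

namespace Cfsg.Agent.Lib.HN3

open Cfsg.Spor (HN coxRelators)

theorem orderOf_conj_hn {G : Type*} [Group G] (a b : G) : orderOf (a * b * a⁻¹) = orderOf b :=
  MulEquiv.orderOf_eq (MulAut.conj a) b

/-- one generator as a product of two elements whose eleventh powers are trivial -/
noncomputable def elevenOK (d : List ℕ × List ℕ × List ℕ) : Bool :=
  band (hPk.same hBase (d.2.1 ++ d.2.2) [])
    (band (hPk.same hBase (List.flatten (List.replicate 11 d.2.1)) [])
      (hPk.same hBase (List.flatten (List.replicate 11 (d.2.2 ++ d.1))) []))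

theorem hnEleven_split : forallB (fun w => List.rec (motive := fun _ => Bool) false
    (fun d _ ih => Bool.rec (motive := fun _ => Bool) ih (elevenOK d) (eqLN d.1 w))
      hnElevenSplit) (lowHead hnEleven) = true := by
  decide +kernel

theorem hnEleven_low : hPk.lowOK hBase hnEleven = true := by decide +kernel

theorem hnEleven_card : lowCard hnEleven = 88704000 := by decide +kernel

/-- a subgroup of `Hbar` with all elements of exponent eleven has index at most two -/
theorem eleven_bound (hB : HBound) {M : Subgroup Hbar} (hM : ∀ g : Hbar, g ^ 11 = 1 → g ∈ M) :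
    88704000 ≤ Nat.card M := by
  have hpow : ∀ (n : ℕ) (u : List ℕ),
      rep.ev (List.flatten (List.replicate n u)) = rep.ev u ^ n := by
    intro n u
    induction n with
    | zero => exact rep.ev_nil
    | succ n ih => rw [List.replicate_succ, List.flatten_cons, rep.ev_append, ih, pow_succ']
  have hle : rep.wgroup (lowHead hnEleven) ≤ M := by
    rw [Rep.wgroup, Subgroup.closure_le]
    rintro _ ⟨w, hw, rfl⟩
    have h := forallB_iff.1 hnEleven_split w hw
    revert h
    generalize hnElevenSplit = l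
    intro h
    induction l with
    | nil => simp at h
    | cons d l ih =>
      have h' : Bool.rec (motive := fun _ => Bool)
          (List.rec (motive := fun _ => Bool) false
            (fun d _ ih => Bool.rec (motive := fun _ => Bool) ih (elevenOK d) (eqLN d.1 w)) l)
          (elevenOK d) (eqLN d.1 w) = true := h
      rcases e : eqLN d.1 w with _ | _
      · rw [e] at h'; exact ih h'
      · rw [e] at h'
        have h2 : band (hPk.same hBase (d.2.1 ++ d.2.2) [])
          (band (hPk.same hBase (List.flatten (List.replicate 11 d.2.1)) [])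
          (hPk.same hBase (List.flatten (List.replicate 11 (d.2.2 ++ d.1))) [])) = true := h'
        simp only [band_eq, Bool.and_eq_true] at h2
        obtain ⟨a, b, c⟩ := h2
        have a' := rep.eq_of_same hBase_lt (inj_base hB) a
        have b' := rep.eq_of_same hBase_lt (inj_base hB) b
        have c' := rep.eq_of_same hBase_lt (inj_base hB) c
        rw [hpow, rep.ev_nil] at b' c'
        rw [rep.ev_append, rep.ev_nil] at a'
        rw [rep.ev_append] at c'
        rw [← eqLN_iff.1 e]
        have := mul_mem (hM _ b') (hM _ c')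
        rwa [← mul_assoc, a', one_mul] at this
  have h := Rep.lowCard_le rep hBase_lt _ hnEleven_low
  rw [hnEleven_card] at h
  exact h.trans (Subgroup.card_le_of_le hle)

/-- the sizes of the nine suborbits, in the order of the families -/
def hnSub : List ℕ := [1, 1408, 2200, 35200, 123200, 277200, 354816, 739200, 5775]

theorem hnSub_subsets : ∀ S : Finset (Fin 9), 0 ∈ S →
    (∑ i ∈ S, nth 0 hnSub (i : ℕ)) ∣ 1539000 → S = {0} ∨ S = Finset.univ := by
  decide +kernel

theorem hnOrders_mul : ∀ i : Fin 9, nth 0 hnOrders (i : ℕ) * nth 0 hnSub (i : ℕ) = 177408000 := by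
  decide +kernel

theorem hnOrders_eleven : ∀ i : Fin 9, i = 0 ∨ ¬ 11 ∣ nth 0 hnOrders (i : ℕ) := by decide +kernel

theorem card_quot (hB : HBound) (j : Fin 9) :
    Nat.card (Hbar ⧸ hnS (j : ℕ)) = nth 0 hnSub (j : ℕ) := by
  have h := Subgroup.card_eq_card_quotient_mul_card_subgroup (hnS (j : ℕ))
  rw [card_Hbar hB, card_hnS hB j.2, ← hnOrders_mul j, mul_comm] at h
  have hpos : 0 < nth 0 hnOrders (j : ℕ) := by
    rw [← card_hnS hB j.2]; exact Nat.card_pos
  exact (Nat.eq_of_mul_eq_mul_right hpos h).symm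

variable (hB : HBound) {C : Ctx HN} (h0 : C.φ (rep.f 0) = hnGen .x)
  (h2 : C.φ (rep.f 2) = hnGen .y) (h4 : C.φ (rep.f 4) = hnGen .z) (ht : C.t = hnGen .t)
include hB h0 h2 h4 ht

theorem stab_iff (g : HN) : g ∈ C.φ.range ↔ hnPerm hB g hnBase = hnBase :=
  (hn_index hB h0 h2 h4 ht).2 g

omit ht in
theorem perm_smul (u : Hbar) (ω : HNPts) : hnPerm hB (C.φ u) ω = u • ω := by
  rw [hnPerm_phi hB h0 h2 h4]; rfl

theorem phi_injective : Function.Injective C.φ := by
  refine (injective_iff_map_eq_one C.φ).2 fun u hu => smul_faithful hB fun ω => ?_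
  rw [← perm_smul hB h0 h2 h4, hu, map_one]; rfl

/-- the action is faithful -/
theorem perm_faithful {g : HN} (hg : hnPerm hB g = 1) : g = 1 := by
  obtain ⟨u, rfl⟩ := (stab_iff hB h0 h2 h4 ht g).2 (by rw [hg]; rfl)
  rw [smul_faithful hB (u := u) fun ω => by rw [← perm_smul hB h0 h2 h4, hg]; rfl, map_one]

/-- the subgroup is maximal -/
theorem maximal_H {K : Subgroup HN} (hK : C.φ.range ≤ K) : K = C.φ.range ∨ K = ⊤ := by
  classical
  haveI : Finite HNPts := Nat.finite_of_card_ne_zero (by rw [card_hnPts hB]; norm_num)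
  haveI : Fintype HNPts := Fintype.ofFinite _
  let O : Set HNPts := {ω | ∃ k ∈ K, hnPerm hB k hnBase = ω}
  have hsmul : ∀ (u : Hbar) ω, ω ∈ O → u • ω ∈ O := by
    rintro u _ ⟨k, hk, rfl⟩
    refine ⟨C.φ u * k, mul_mem (hK ⟨u, rfl⟩) hk, ?_⟩
    rw [map_mul, Equiv.Perm.mul_apply, perm_smul hB h0 h2 h4]
  let S : Finset (Fin 9) := Finset.univ.filter fun j : Fin 9 =>
    (⟨j, ((1 : Hbar) : Hbar ⧸ hnS (j : ℕ))⟩ : HNPts) ∈ O
  have hmem : ∀ ω : HNPts, ω ∈ O ↔ ω.1 ∈ S := by
    rintro ⟨j, q⟩
    induction q using QuotientGroup.induction_on with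
    | H g =>
      simp only [S, Finset.mem_filter, Finset.mem_univ, true_and]
      constructor
      · intro h
        have := hsmul g⁻¹ _ h
        rwa [show g⁻¹ • (⟨j, (g : Hbar ⧸ hnS (j : ℕ))⟩ : HNPts) =
          ⟨j, ((g⁻¹ * g : Hbar) : Hbar ⧸ hnS (j : ℕ))⟩ from rfl, inv_mul_cancel] at this
      · intro h
        have := hsmul g _ h
        rwa [show g • (⟨j, ((1 : Hbar) : Hbar ⧸ hnS (j : ℕ))⟩ : HNPts) =
          ⟨j, ((g * 1 : Hbar) : Hbar ⧸ hnS (j : ℕ))⟩ from rfl, mul_one] at this
  have hcardO : Nat.card O = ∑ j ∈ S, nth 0 hnSub (j : ℕ) := by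
    have e : O ≃ Σ j : {j // j ∈ S}, Hbar ⧸ hnS ((j : Fin 9) : ℕ) :=
      { toFun := fun ω => ⟨⟨ω.1.1, (hmem ω.1).1 ω.2⟩, ω.1.2⟩
        invFun := fun p => ⟨⟨p.1.1, p.2⟩, (hmem _).2 p.1.2⟩
        left_inv := fun ω => rfl
        right_inv := fun p => rfl }
    rw [Nat.card_congr e, Nat.card_sigma,
      ← Finset.sum_coe_sort S fun j : Fin 9 => nth 0 hnSub (j : ℕ)]
    exact Finset.sum_congr rfl fun j _ => card_quot hB j
  let θ : K ⧸ C.φ.range.subgroupOf K → O := fun q => Quotient.liftOn q
    (fun k => ⟨hnPerm hB (k : HN) hnBase, k, k.2, rfl⟩) (fun a b hab => by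
      have hab' := (stab_iff hB h0 h2 h4 ht _).1
        (Subgroup.mem_subgroupOf.1 (QuotientGroup.leftRel_apply.1 hab))
      refine Subtype.ext ?_
      show hnPerm hB (a : HN) hnBase = hnPerm hB (b : HN) hnBase
      conv_lhs => rw [← hab', ← Equiv.Perm.mul_apply, ← map_mul]
      simp)
  have hθ : Function.Bijective θ := by
    refine ⟨?_, ?_⟩
    · intro p q
      induction p using QuotientGroup.induction_on with
      | H a =>
        induction q using QuotientGroup.induction_on with
        | H b =>
          intro e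
          have e' : hnPerm hB (a : HN) hnBase = hnPerm hB (b : HN) hnBase := congrArg Subtype.val e
          rw [QuotientGroup.eq, Subgroup.mem_subgroupOf]
          refine (stab_iff hB h0 h2 h4 ht _).2 ?_
          simp only [Subgroup.coe_mul, Subgroup.coe_inv, map_mul, map_inv, Equiv.Perm.mul_apply]
          rw [← e']
          simp
    · rintro ⟨_, k, hk, rfl⟩
      exact ⟨(⟨k, hk⟩ : K), rfl⟩
  have hdvd : (∑ j ∈ S, nth 0 hnSub (j : ℕ)) ∣ 1539000 := by
    rw [← hcardO, ← Nat.card_eq_of_bijective θ hθ, ← (hn_index hB h0 h2 h4 ht).1,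
      ← Subgroup.index_eq_card]
    exact Subgroup.relIndex_dvd_index_of_le hK
  have h0S : (0 : Fin 9) ∈ S := by
    refine (hmem hnBase).1 ⟨1, one_mem _, ?_⟩
    rw [map_one]; rfl
  rcases hnSub_subsets S h0S hdvd with e | e
  · refine Or.inl (le_antisymm (fun k hk => ?_) hK)
    have h1 : (hnPerm hB k hnBase).1 = 0 := by
      have := (hmem _).1 ⟨k, hk, rfl⟩
      rwa [e, Finset.mem_singleton] at this
    refine (stab_iff hB h0 h2 h4 ht k).2 ?_
    obtain ⟨j, h, hj, hjh⟩ := hnPt_surj (hnPerm hB k hnBase)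
    rw [hjh] at h1
    have hj0 : j % 9 = 0 := congrArg Fin.val h1
    rw [Nat.mod_eq_of_lt hj] at hj0
    subst hj0
    rw [hjh]
    exact hnPt_congr (by decide) (by rw [hnS_zero hB]; trivial)
  · refine Or.inr (top_le_iff.1 fun g _ => ?_)
    obtain ⟨k, hk, hkg⟩ := (hmem (hnPerm hB g hnBase)).2 (by rw [e]; exact Finset.mem_univ _)
    have hmem' : k⁻¹ * g ∈ C.φ.range := (stab_iff hB h0 h2 h4 ht _).2 (by
      rw [map_mul, Equiv.Perm.mul_apply, ← hkg, ← Equiv.Perm.mul_apply, ← map_mul]
      simp)
    simpa using mul_mem hk (hK hmem')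

theorem exists_eleven : ∃ p ∈ C.φ.range, orderOf p = 11 := by
  haveI : Fact (Nat.Prime 11) := ⟨by norm_num⟩
  obtain ⟨p, hp⟩ := exists_prime_orderOf_dvd_card' (G := Hbar) 11 (by rw [card_Hbar hB]; norm_num)
  exact ⟨C.φ p, ⟨p, rfl⟩, by rw [orderOf_injective C.φ (phi_injective hB h0 h2 h4 ht), hp]⟩

/-- an element of order eleven of the subgroup fixes only one coset -/
theorem fix_eleven {p g : HN} (hp : p ∈ C.φ.range) (hpo : orderOf p = 11)
    (hg : g⁻¹ * p * g ∈ C.φ.range) : g ∈ C.φ.range := by
  obtain ⟨u, rfl⟩ := hp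
  rw [orderOf_injective C.φ (phi_injective hB h0 h2 h4 ht)] at hpo
  rw [stab_iff hB h0 h2 h4 ht] at hg ⊢
  rw [map_mul, map_mul, map_inv, Equiv.Perm.mul_apply, Equiv.Perm.mul_apply,
    Equiv.Perm.inv_eq_iff_eq, perm_smul hB h0 h2 h4] at hg
  obtain ⟨j, h, hj, hjh⟩ := hnPt_surj (hnPerm hB g hnBase)
  rw [hjh, smul_hnPt] at hg
  obtain ⟨-, hmem⟩ := hnPt_inj hj hj hg
  have h11 : 11 ∣ nth 0 hnOrders j := by
    rw [← card_hnS hB hj, ← hpo]
    have hc : orderOf (h * u⁻¹ * h⁻¹) = orderOf u := by
      rw [orderOf_conj_hn, orderOf_inv]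
    rw [← hc]
    exact Subgroup.orderOf_dvd_natCard _ hmem
  rcases hnOrders_eleven ⟨j, hj⟩ with e | e
  · have hj0 : j = 0 := congrArg Fin.val e
    subst hj0
    rw [hjh]
    exact hnPt_congr (by decide) (by rw [hnS_zero hB]; trivial)
  · exact absurd h11 e

omit hB h0 h2 h4 ht in
/-- a homomorphism into a commutative group is trivial -/
theorem hn_perfect {A : Type*} [CommGroup A] (f : HN →* A) : f = 1 := by
  have key : ∀ r ∈ Cfsg.Spor.HN.extra, FreeGroup.lift (fun a => f (hnGen a)) r = 1 := by
    intro r hr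
    have e : FreeGroup.lift (fun a => f (hnGen a)) = f.comp (FreeGroup.lift hnGen) := by
      ext a; simp
    rw [e, MonoidHom.comp_apply, mk_extra hr, map_one]
  simp only [Cfsg.Spor.HN.extra, List.forall_mem_cons, List.not_mem_nil, IsEmpty.forall_iff,
    implies_true, and_true, map_mul, map_pow, map_inv, FreeGroup.lift_apply_of] at key
  obtain ⟨k1, k2, -, k4, k5, -, k7, k8, -, -, k11, k12, -, k14⟩ := key
  set x := f (hnGen .x)
  set y := f (hnGen .y)
  set z := f (hnGen .z)
  set t := f (hnGen .t)
  have e4 : y ^ 15 = 1 := by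
    have : (x⁻¹ * y ^ 2 * x * y ^ 3) = y ^ 5 := by
      rw [mul_comm (x⁻¹) (y ^ 2), inv_mul_cancel_right, ← pow_add]
    rw [this, ← pow_mul] at k4
    exact k4
  have ey3 : y ^ 3 = 1 := by
    have : y ^ 15 = (y ^ 6) ^ 2 * y ^ 3 := by rw [← pow_mul, ← pow_add]
    rw [e4, k1, one_pow, one_mul] at this
    exact this.symm
  have ex4 : x ^ 4 = 1 := by
    have : x ^ 2 * y * x ^ 2 * y⁻¹ = x ^ 4 := by
      rw [mul_right_comm (x ^ 2) y, mul_assoc (x ^ 2 * x ^ 2), mul_inv_cancel, mul_one, ← pow_add]
    rw [this] at k2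
    exact k2
  have hy : y = 1 := by
    have h8 : x ^ 8 * y ^ 8 = 1 := by rw [← mul_pow]; exact k5
    have h8' : x ^ 8 = (x ^ 4) ^ 2 := by rw [← pow_mul]
    rw [h8', ex4, one_pow, one_mul] at h8
    have : y ^ 9 = (y ^ 3) ^ 3 := by rw [← pow_mul]
    rw [ey3, one_pow, pow_succ, h8, one_mul] at this
    exact this
  have ex2 : x ^ 2 = 1 := by
    have := k8
    rw [mul_pow, k7, one_mul] at this
    exact this
  have ht3 : t ^ 3 = 1 := by
    have : x⁻¹ * t * x * t ^ 2 = t ^ 3 := by
      rw [mul_comm x⁻¹ t, inv_mul_cancel_right, ← pow_succ']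
    rw [this] at k12
    exact k12
  have ht : t = 1 := by
    have h6 : t ^ 6 = (t ^ 3) ^ 2 := by rw [← pow_mul]
    rw [ht3, one_pow, pow_succ, k11, one_mul] at h6
    exact h6
  have hz : z = 1 := by
    have := k14
    rw [ht, mul_one, pow_succ, k7, one_mul] at this
    exact this
  have hx : x = 1 := by
    have h10 : FreeGroup.lift (fun a => f (hnGen a)) (Cfsg.Spor.HN.extra[9]'(by decide)) = 1 := by
      have e : FreeGroup.lift (fun a => f (hnGen a)) = f.comp (FreeGroup.lift hnGen) := by
        ext a; simp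
      rw [e, MonoidHom.comp_apply, mk_extra (List.getElem_mem _), map_one]
    simp only [Cfsg.Spor.HN.extra, List.getElem_cons_succ, List.getElem_cons_zero, map_mul,
      map_pow, map_inv, FreeGroup.lift_apply_of] at h10
    change z * (((y ^ 3 * x * y * x * y)⁻¹ * z * (y ^ 3 * x * y * x * y)) * x) ^ 3 = 1 at h10
    rw [hz, hy] at h10
    simp only [mul_one, one_mul, one_pow, inv_mul_cancel] at h10
    rw [pow_succ, ex2, one_mul] at h10
    exact h10
  refine PresentedGroup.ext fun a => ?_
  show f (hnGen a) = 1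
  cases a <;> assumption

/-- the group is simple -/
theorem hn_simple : IsSimpleGroup HN := by
  classical
  obtain ⟨-, -, hfin, hcard⟩ := hn_facts hB
  haveI : Nontrivial HN := Finite.one_lt_card_iff_nontrivial.1 (by rw [hcard]; norm_num)
  refine ⟨fun N hN => ?_⟩
  by_cases hbot : N = ⊥
  · exact Or.inl hbot
  refine Or.inr ?_
  haveI := hN
  have hinj := phi_injective hB h0 h2 h4 ht
  have hnle : ¬ N ≤ C.φ.range := by
    intro hle
    refine hbot ((Subgroup.eq_bot_iff_forall N).2 fun g hg => perm_faithful hB h0 h2 h4 ht ?_)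
    refine Equiv.ext fun ω => ?_
    obtain ⟨a, rfl⟩ := hnPerm_transitive hB h0 h2 h4 ω
    have := (stab_iff hB h0 h2 h4 ht _).1 (hle (hN.conj_mem' g hg a))
    rw [map_mul, map_mul, map_inv, Equiv.Perm.mul_apply, Equiv.Perm.mul_apply,
      Equiv.Perm.inv_eq_iff_eq] at this
    exact this
  have hsup : C.φ.range ⊔ N = ⊤ := by
    rcases maximal_H hB h0 h2 h4 ht (le_sup_left : C.φ.range ≤ C.φ.range ⊔ N) with e | e
    · exact absurd (sup_eq_left.1 e) hnle
    · exact e
  haveI : Fact (Nat.Prime 11) := ⟨by norm_num⟩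
  haveI : Fact (Nat.Prime 19) := ⟨by norm_num⟩
  have hidxH : C.φ.range.index = 1539000 := (hn_index hB h0 h2 h4 ht).1
  have hcardH : Nat.card C.φ.range = 177408000 := by
    rw [← card_Hbar hB]; exact (Nat.card_congr (MonoidHom.ofInjective hinj).toEquiv).symm
  -- the index of `N` divides the order of the subgroup
  have hrel : N.index ∣ 177408000 := by
    rw [← hcardH, ← Subgroup.relIndex_top_right, ← hsup, Subgroup.relIndex_sup_right]
    exact Subgroup.index_dvd_card _
  have hmul : Nat.card N * N.index = 273030912000000 := by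
    rw [Subgroup.card_mul_index, hcard]
  by_cases h11 : 11 ∣ N.index
  · exfalso
    have h19 : 19 ∣ Nat.card N := by
      have h : 19 ∣ Nat.card N * N.index := by rw [hmul]; norm_num
      rcases (Nat.Prime.dvd_mul (by norm_num)).1 h with h | h
      · exact h
      · exact absurd (h.trans hrel) (by norm_num)
    let P : Sylow 19 N := default
    have hP19 : Nat.card P = 19 := by
      rw [P.card_eq_multiplicity]
      have h2 : ¬ 19 ^ 2 ∣ Nat.card N := fun h =>
        absurd ((h.trans (Dvd.intro _ hmul))) (by norm_num)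
      have hne : Nat.card N ≠ 0 := Nat.card_pos.ne'
      have e1 : 1 ≤ (Nat.card N).factorization 19 :=
        (Nat.Prime.pow_dvd_iff_le_factorization (by norm_num) hne).1 (by simpa using h19)
      have e2 : ¬ 2 ≤ (Nat.card N).factorization 19 := fun h =>
        h2 ((Nat.Prime.pow_dvd_iff_le_factorization (by norm_num) hne).2 h)
      rw [show (Nat.card N).factorization 19 = 1 by omega, pow_one]
    have hFr := Sylow.normalizer_sup_eq_top P
    set P' : Subgroup HN := P.toSubgroup.map N.subtype
    have hdvd : 11 ∣ Nat.card (Subgroup.normalizer (P' : Set HN)) := by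
      have : N.index ∣ Nat.card (Subgroup.normalizer (P' : Set HN)) := by
        rw [← Subgroup.relIndex_top_right, ← hFr, Subgroup.relIndex_sup_right]
        exact Subgroup.index_dvd_card _
      exact h11.trans this
    obtain ⟨⟨q, hq⟩, hqo⟩ := exists_prime_orderOf_dvd_card'
      (G := Subgroup.normalizer (P' : Set HN)) 11 hdvd
    rw [← Subgroup.orderOf_coe] at hqo
    have hP' : Nat.card P' = 19 := by
      rw [← hP19]; exact Subgroup.card_map_of_injective N.subtype_injective
    -- a nontrivial element of `P'` fixed by `q`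
    have hconj : ∀ n ∈ P', q * n * q⁻¹ ∈ P' := fun n hn =>
      (Subgroup.mem_normalizer_iff.1 hq n).1 hn
    let σ : Equiv.Perm P' :=
      { toFun := fun n => ⟨q * n * q⁻¹, hconj n n.2⟩
        invFun := fun n => ⟨q⁻¹ * n * q, (Subgroup.mem_normalizer_iff.1 hq _).2 (by
          simp [mul_assoc])⟩
        left_inv := fun n => Subtype.ext (by simp [mul_assoc])
        right_inv := fun n => Subtype.ext (by simp [mul_assoc]) }
    have hσn : ∀ (k : ℕ) (n : P'), ((σ ^ k) n : HN) = q ^ k * n * (q ^ k)⁻¹ := by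
      intro k n
      induction k with
      | zero => simp
      | succ k ih =>
        rw [pow_succ', Equiv.Perm.mul_apply]
        show q * ((σ ^ k) n : HN) * q⁻¹ = _
        rw [ih, pow_succ']
        group
    haveI : Fintype P' := Fintype.ofFinite _
    have hσ : σ ^ 11 ^ 1 = 1 := by
      refine Equiv.ext fun n => Subtype.ext ?_
      rw [hσn, pow_one, show q ^ 11 = 1 by rw [← hqo]; exact pow_orderOf_eq_one q]
      simp
    have hmod := Equiv.Perm.card_compl_support_modEq hσ
    rw [← Nat.card_eq_fintype_card, hP'] at hmod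
    have h1 : (1 : P') ∈ σ.supportᶜ := by
      rw [Finset.mem_compl, Equiv.Perm.notMem_support]
      exact Subtype.ext (by simp [σ])
    have hlt : 1 < σ.supportᶜ.card := by
      have hpos : 0 < σ.supportᶜ.card := Finset.card_pos.2 ⟨1, h1⟩
      by_contra h
      have : σ.supportᶜ.card = 1 := by omega
      rw [this] at hmod
      exact absurd hmod (by decide)
    obtain ⟨n, hn, hn1⟩ := Finset.exists_mem_ne hlt 1
    rw [Finset.mem_compl, Equiv.Perm.notMem_support] at hn
    have hcomm : q * (n : HN) * q⁻¹ = n := congrArg Subtype.val hn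
    have hno : orderOf (n : HN) = 19 := by
      rw [Subgroup.orderOf_coe]
      have := orderOf_dvd_natCard n
      rw [hP'] at this
      rcases (Nat.dvd_prime (by norm_num)).1 this with h | h
      · exact absurd (orderOf_eq_one_iff.1 h) hn1
      · exact h
    -- move `q` into the subgroup
    obtain ⟨p, hp, hpo⟩ := exists_eleven hB h0 h2 h4 ht
    have hsyl : ∀ r : HN, orderOf r = 11 → Nat.card (Subgroup.zpowers r) =
        11 ^ (Nat.card HN).factorization 11 := by
      intro r hr
      rw [Nat.card_zpowers, hr, hcard]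
      have : (273030912000000 : ℕ).factorization 11 = 1 := by
        have e1 : 1 ≤ (273030912000000 : ℕ).factorization 11 :=
          (Nat.Prime.pow_dvd_iff_le_factorization (by norm_num) (by norm_num)).1 (by norm_num)
        have e2 : ¬ 2 ≤ (273030912000000 : ℕ).factorization 11 := fun h =>
          absurd ((Nat.Prime.pow_dvd_iff_le_factorization (p := 11) (by norm_num)
            (by norm_num)).2 h) (by norm_num)
        omega
      rw [this, pow_one]
    obtain ⟨a, ha⟩ := MulAction.exists_smul_eq HN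
      (Sylow.ofCard (Subgroup.zpowers q) (hsyl q hqo))
      (Sylow.ofCard (Subgroup.zpowers p) (hsyl p hpo))
    have hq' : a * q * a⁻¹ ∈ C.φ.range := by
      have : a * q * a⁻¹ ∈ (Sylow.ofCard (Subgroup.zpowers p) (hsyl p hpo)).toSubgroup := by
        rw [← ha, Sylow.smul_def, Sylow.pointwise_smul_def]
        exact Subgroup.smul_mem_pointwise_smul q (MulAut.conj a) _ (Subgroup.mem_zpowers q)
      exact Subgroup.zpowers_le.2 hp this
    have hfix := fix_eleven hB h0 h2 h4 ht hq' (p := a * q * a⁻¹) (g := a * n * a⁻¹)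
      (by rw [orderOf_conj_hn, hqo]) (by
        have e : (n : HN)⁻¹ * q * n = q := by
          have h := hcomm
          rw [mul_inv_eq_iff_eq_mul] at h
          rw [mul_assoc, h, inv_mul_cancel_left]
        have e2 : (a * n * a⁻¹)⁻¹ * (a * q * a⁻¹) * (a * n * a⁻¹) =
            a * ((n : HN)⁻¹ * q * n) * a⁻¹ := by group
        rw [e2, e]; exact hq')
    have := Subgroup.orderOf_dvd_natCard _ hfix
    rw [orderOf_conj_hn, hno, hcardH] at this
    norm_num at this
  · -- `N` contains all elements of order eleven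
    have hall : ∀ g : HN, g ^ 11 = 1 → g ∈ N := by
      intro g hg
      rw [← QuotientGroup.eq_one_iff]
      refine orderOf_eq_one_iff.1 ?_
      have h1 : orderOf (g : HN ⧸ N) ∣ 11 := orderOf_dvd_of_pow_eq_one (by
        rw [← QuotientGroup.mk_pow, hg, QuotientGroup.mk_one])
      rcases (Nat.dvd_prime (by norm_num)).1 h1 with h | h
      · exact h
      · exact absurd (h ▸ orderOf_dvd_natCard (g : HN ⧸ N)) (by rwa [← Subgroup.index_eq_card])
    have hM := eleven_bound hB (M := N.comap C.φ) fun g hg =>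
      Subgroup.mem_comap.2 (hall _ (by rw [← map_pow, hg, map_one]))
    have hidx : N.index ≤ 2 := by
      have e : N.index = (N.comap C.φ).index := by
        rw [Subgroup.index_comap, ← Subgroup.relIndex_top_right, ← hsup,
          Subgroup.relIndex_sup_right]
      have h := Subgroup.card_mul_index (N.comap C.φ)
      rw [card_Hbar hB, ← e] at h
      by_contra hlt
      have h3 : 88704000 * 3 ≤ Nat.card (N.comap C.φ) * N.index :=
        Nat.mul_le_mul hM (by omega)
      omega
    have hcyc : ∀ a b : HN ⧸ N, a * b = b * a := by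
      intro a b
      have hn : Nat.card (HN ⧸ N) = 1 ∨ Nat.card (HN ⧸ N) = 2 := by
        rw [← Subgroup.index_eq_card]
        have : N.index ≠ 0 := by
          intro h; rw [h, mul_zero] at hmul; exact absurd hmul (by norm_num)
        omega
      rcases hn with h | h
      · haveI := (Nat.card_eq_one_iff_unique.1 h).1
        exact Subsingleton.elim _ _
      · haveI : Fact (Nat.Prime 2) := ⟨by norm_num⟩
        haveI := isCyclic_of_prime_card h
        haveI : IsMulCommutative (HN ⧸ N) := IsCyclic.isMulCommutative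
        exact mul_comm' a b
    letI : CommGroup (HN ⧸ N) := { (inferInstance : Group (HN ⧸ N)) with mul_comm := hcyc }
    refine top_le_iff.1 fun g _ => ?_
    rw [← QuotientGroup.eq_one_iff]
    exact DFunLike.congr_fun (hn_perfect (QuotientGroup.mk' N)) g

end Cfsg.Agent.Lib.HN3
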