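import Mathlib
import Cfsg.Prelude.Def_Sporadic
import Cfsg.Agent.Lib.HN3.Simple

/-!
The presented Harada–Norton group: the index of the subgroup generated by `x, y, z`, and the
group is simple of the order of `HN`, both from the bound `HBound`.
-/

namespace Cfsg.Agent.Lib.HN3

open Cfsg.Spor (HN coxRelators)

theorem map_xyz : (Subgroup.closure ({Cfsg.Spor.HN.x, Cfsg.Spor.HN.y, Cfsg.Spor.HN.z} :
      Set (FreeGroup Cfsg.Spor.HN.Gen))).map
      (PresentedGroup.mk (coxRelators Cfsg.Spor.HN.edges ∪ {r | r ∈ Cfsg.Spor.HN.extra})) =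
    Subgroup.closure ({hnGen .x, hnGen .y, hnGen .z} : Set HN) := by
  rw [MonoidHom.map_closure, Set.image_insert_eq, Set.image_insert_eq, Set.image_singleton]
  rfl

/-- the index of the subgroup generated by the images of `x, y, z` -/
theorem xyz_index (hB : HBound) :
    ((Subgroup.closure ({Cfsg.Spor.HN.x, Cfsg.Spor.HN.y, Cfsg.Spor.HN.z} :
      Set (FreeGroup Cfsg.Spor.HN.Gen))).map
      (PresentedGroup.mk (coxRelators Cfsg.Spor.HN.edges ∪ {r | r ∈ Cfsg.Spor.HN.extra}))).index =
      1539000 := by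
  rw [map_xyz]
  exact (hn_facts hB).1

/-- the presented group is simple of the order of the Harada–Norton group -/
theorem isHN_presented (hB : HBound) : Cfsg.IsHN Cfsg.Spor.HN := by
  obtain ⟨C, h0, h2, h4, ht⟩ := exists_ctx hB
  exact ⟨hn_simple hB h0 h2 h4 ht, (hn_facts hB).2.2.2⟩

end Cfsg.Agent.Lib.HN3
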