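import Mathlib
import Cfsg.Agent.Lib.HN3.Simple

/-!
The nine families of cosets in the form of an equivariant bijection with all cosets.
-/

namespace Cfsg.Agent.Lib.HN3

open Cfsg.Spor (HN)

/-- the cosets of the nine families are the cosets of the subgroup, equivariantly -/
theorem exists_equiv (hB : HBound) {C : Ctx HN} (h0 : C.φ (rep.f 0) = hnGen .x)
    (h2 : C.φ (rep.f 2) = hnGen .y) (h4 : C.φ (rep.f 4) = hnGen .z) (ht : C.t = hnGen .t) :
    ∃ e : (Σ j : Fin 9, Hbar ⧸ hnS (j : ℕ)) ≃ HN ⧸ C.φ.range,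
      ∀ (j : Fin 9) (a : Hbar) (p : Hbar ⧸ hnS (j : ℕ)), e ⟨j, a • p⟩ = C.φ a • e ⟨j, p⟩ := by
  let θ : HN ⧸ C.φ.range → HNPts := fun q => Quotient.liftOn q
    (fun g => hnPerm hB g hnBase) (fun a b hab => by
      have hab' := (stab_iff hB h0 h2 h4 ht _).1 (QuotientGroup.leftRel_apply.1 hab)
      show hnPerm hB a hnBase = hnPerm hB b hnBase
      conv_lhs => rw [← hab', ← Equiv.Perm.mul_apply, ← map_mul]
      simp)
  have hθ : Function.Bijective θ := by
    refine ⟨?_, fun ω => ?_⟩
    · intro p q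
      induction p using QuotientGroup.induction_on with
      | H a =>
        induction q using QuotientGroup.induction_on with
        | H b =>
          intro e
          have e' : hnPerm hB a hnBase = hnPerm hB b hnBase := e
          rw [QuotientGroup.eq]
          refine (stab_iff hB h0 h2 h4 ht _).2 ?_
          simp only [map_mul, map_inv, Equiv.Perm.mul_apply]
          rw [← e']
          simp
    · obtain ⟨g, hg⟩ := hnPerm_transitive hB h0 h2 h4 ω
      exact ⟨(g : HN ⧸ C.φ.range), hg⟩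
  refine ⟨(Equiv.ofBijective θ hθ).symm, fun j a p => ?_⟩
  rw [Equiv.symm_apply_eq]
  obtain ⟨q, hq⟩ := hθ.2 (⟨j, p⟩ : HNPts)
  rw [show (Equiv.ofBijective θ hθ).symm (⟨j, p⟩ : HNPts) = q from
    (Equiv.symm_apply_eq _).2 hq.symm]
  induction q using QuotientGroup.induction_on with
  | H g =>
    have hq' : hnPerm hB g hnBase = (⟨j, p⟩ : HNPts) := hq
    show (⟨j, a • p⟩ : HNPts) = hnPerm hB (C.φ a * g) hnBase
    rw [map_mul, Equiv.Perm.mul_apply, hq', perm_smul hB h0 h2 h4]
    rfl

end Cfsg.Agent.Lib.HN3
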